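import Cfsg.Agent.PQ.EL.Defs
import Cfsg.Agent.S0088

/-!
# S4982: the structure lemma `BoxSL` (helper90)

If all `{p, q}`-subgroups are abelian, commuting Sylow subgroups climb along normal subgroups of index prime to `p` or to `q`.
-/

set_option autoImplicit false
set_option linter.unusedSectionVars false

namespace Cfsg.Agent.PQ.EL.SL

open Cfsg Cfsg.Agent.LV Cfsg.Agent.PQ.LE Subgroup

variable {p q : ℕ} {X : Type} [Group X] [Finite X]

theorem wa_symm (h : WA p q X) : WA q p X := fun A hA => h A fun r hr hd => (hA r hr hd).symm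

theorem wa_sub (h : WA p q X) (H : Subgroup X) : WA p q H := fun A hA a ha b hb =>
  Subtype.ext (h (A.map H.subtype) (by rw [card_map_of_injective H.subtype_injective]; exact hA)
    a ⟨a, ha, rfl⟩ b ⟨b, hb, rfl⟩)

theorem card_sup_dvd {H N : Subgroup X} (h : H ≤ normalizer (N : Set X)) :
    Nat.card (H ⊔ N : Subgroup X) ∣ Nat.card N * Nat.card H := by
  let n1 := normal_subgroupOf_of_le_normalizer h
  let n2 := normal_subgroupOf_sup_of_le_normalizer h
  have e := Nat.card_congr (QuotientGroup.quotientInfEquivProdNormalizerQuotient H N h).toEquiv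
  have h1 := card_mul_index (N.subgroupOf (H ⊔ N))
  have h2 : Nat.card (N.subgroupOf (H ⊔ N)) = Nat.card N :=
    Nat.card_congr (subgroupOfEquivOfLe le_sup_right).toEquiv
  rw [← h1, h2]
  apply Nat.mul_dvd_mul_left
  show Nat.card _ ∣ _
  rw [← e]
  exact (N.subgroupOf H).index_dvd_card

theorem eq_of_dvd {G : Type} [Group G] [Finite G] {r t : ℕ} (hr : r.Prime) (ht : t.Prime) (h : IsPGroup t G)
    (hd : r ∣ Nat.card G) : r = t := by
  have := Fact.mk ht
  obtain ⟨k, hk⟩ := IsPGroup.iff_card.1 h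
  exact (Nat.prime_dvd_prime_iff_eq hr ht).1 (hr.dvd_of_dvd_pow (hk ▸ hd))

theorem wa_com (hp : p.Prime) (hq : q.Prime) (h : WA p q X) {U V : Subgroup X} (hU : IsPGroup p U) (hV : IsPGroup q V)
    (hn : V ≤ normalizer (U : Set X)) : ∀ a ∈ U, ∀ b ∈ V, a * b = b * a := fun a ha b hb =>
  h (V ⊔ U) (fun _ hr hd => ((Nat.Prime.dvd_mul hr).1 (hd.trans (card_sup_dvd hn))).imp (eq_of_dvd hr hp hU)
    (eq_of_dvd hr hq hV)) a (mem_sup_right ha) b (mem_sup_left hb)

theorem wa_abS (hp : p.Prime) (h : WA p q X) : AbS p X :=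
  abS_iff.2 fun P => h P fun _ hr hd => .inl (eq_of_dvd hr hp P.2 hd)

theorem index_eq {N R : Subgroup X} [N.Normal] (h : N ⊔ R = ⊤) : R.index = R.relIndex N := by
  have h1 := relIndex_mul_index (inf_le_left : R ⊓ N ≤ R)
  have h2 := relIndex_mul_index (inf_le_right : R ⊓ N ≤ N)
  rw [inf_relIndex_left, ← relIndex_sup_left, h, relIndex_top_right] at h1
  rw [inf_relIndex_right, ← h1, mul_comm] at h2
  exact (Nat.eq_of_mul_eq_mul_left (Nat.pos_of_ne_zero N.index_ne_zero_of_finite) h2).symm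

/-- normal subgroups of index prime to `p` -/
theorem up (hp : p.Prime) (hq : q.Prime) (h : WA p q X) (N : Subgroup X) [N.Normal] (hi : ¬ p ∣ N.index)
    (hc : Com p q N) : Com p q X := by
  have := Fact.mk hp
  have := Fact.mk hq
  obtain ⟨P⟩ : Nonempty (Sylow p X) := inferInstance
  have h1 := Red.cent_relIndex hp hq N hc P
  have h2 := Red.frat hp P N
  have h3 : IsPGroup p ((P : Subgroup X) ⊓ N : Subgroup X) := P.2.to_le inf_le_left
  have h4 : ¬ p ∣ ((P : Subgroup X) ⊓ N).index := by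
    rw [← relIndex_mul_index (inf_le_right : (P : Subgroup X) ⊓ N ≤ N), inf_relIndex_right]
    exact fun hd => ((Nat.Prime.dvd_mul hp).1 hd).elim (H573.not_dvd_relIndex_normal P N) hi
  generalize (P : Subgroup X) ⊓ N = U at h1 h2 h3 h4
  obtain ⟨Q⟩ : Nonempty (Sylow q (normalizer (U : Set X))) := inferInstance
  have h5 : IsPGroup q ((Q : Subgroup (normalizer (U : Set X))).map (normalizer (U : Set X)).subtype) := Q.2.map _
  refine Red.com_mk hp hq h3 h4 h5 ?_ (wa_com hp hq h h3 h5 (map_subtype_le _))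
  rw [index_map_subtype, index_eq h2]
  exact fun hd => ((Nat.Prime.dvd_mul hq).1 hd).elim Q.not_dvd_index fun h6 =>
    h1 (h6.trans (relIndex_dvd_of_le_left _ (centralizer_le_normalizer _)))

theorem step (hp : p.Prime) (hq : q.Prime) (h : WA p q X) (A B : Subgroup X) [A.Normal] (hi : ¬ p ∣ A.relIndex B)
    (hc : Com p q (A ⊓ B : Subgroup X)) : Com p q B := by
  refine up hp hq (wa_sub h B) (A.subgroupOf B) hi ?_
  rw [← inf_subgroupOf_right]
  exact Red.com_surj hp hq hc (subgroupOfEquivOfLe inf_le_right).symm.toMonoidHom (MulEquiv.surjective _)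

/-- an abelian Sylow subgroup induces inner automorphisms on a normal subgroup -/
theorem not_dvd_index [Fact p.Prime] (hp : p ≠ 2) (h : AbS p X) (N : Subgroup X) [hN : N.Normal]
    (hO : N ⊓ pPrimeCore p X = ⊥) : ¬ p ∣ (N ⊔ centralizer (N : Set X)).index := by
  obtain ⟨P⟩ : Nonempty (Sylow p X) := inferInstance
  refine fun hd => P.not_dvd_index (hd.trans (index_dvd_of_le fun x hx => ?_))
  have hO' : pPrimeCore p N = ⊥ := by
    rw [← Lib.Cores.map_subtype_pPrimeCore p hN] at hO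
    exact (map_eq_bot_iff_of_injective _ Subtype.val_injective).1 hO
  have hQ : IsPGroup p ((P : Subgroup X).subgroupOf N) := P.2.comap_of_injective _ Subtype.val_injective
  have hi : ¬ p ∣ ((P : Subgroup X).subgroupOf N).index := H573.not_dvd_relIndex_normal P N
  obtain ⟨k, hk⟩ := IsPGroup.iff_orderOf.1 P.2 ⟨x, hx⟩
  rw [Subgroup.orderOf_mk] at hk
  have ho : ∃ j : ℕ, orderOf (MulAut.conjNormal (H := N) x) = p ^ j := by
    have h1 : orderOf (MulAut.conjNormal (H := N) x) ∣ p ^ k := by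
      rw [← hk]; exact orderOf_map_dvd _ _
    obtain ⟨j, -, hj⟩ := (Nat.dvd_prime_pow Fact.out).1 h1
    exact ⟨j, hj⟩
  obtain ⟨g, hg⟩ := S1937.result hp hO' (hQ.toSylow hi) (MulAut.conjNormal x) ho (by
    intro y hy
    apply Subtype.ext
    rw [MulAut.conjNormal_apply]
    have h1 : (y : X) ∈ (P : Subgroup X) := hy
    rw [abS_iff.1 h P x hx y h1, mul_inv_cancel_right])
  have h1 : (g : X)⁻¹ * x ∈ centralizer (N : Set X) := by
    rw [mem_centralizer_iff]
    intro y hy
    have h2 := congrArg Subtype.val (hg ⟨y, hy⟩)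
    rw [MulAut.conjNormal_apply] at h2
    simp only [Subgroup.coe_mul, InvMemClass.coe_inv] at h2
    calc y * ((g : X)⁻¹ * x) = (g : X)⁻¹ * ((g : X) * y * (g : X)⁻¹) * x := by group
      _ = (g : X)⁻¹ * (x * y * x⁻¹) * x := by rw [h2]
      _ = (g : X)⁻¹ * x * y := by group
  have h2 : x = (g : X) * ((g : X)⁻¹ * x) := by group
  rw [h2]
  exact Subgroup.mul_mem_sup g.2 h1

theorem ab_syl (M : Subgroup X) [M.Normal] (h : ∀ a ∈ M, ∀ b ∈ M, a * b = b * a) {r : ℕ} (hr : r.Prime)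
    (hd : r ∣ Nat.card M) : ∃ N : Subgroup X, N.Normal ∧ N ≤ M ∧ N ≠ ⊥ ∧ IsPGroup r N := by
  have := Fact.mk hr
  obtain ⟨R⟩ : Nonempty (Sylow r M) := inferInstance
  have h1 : (R : Subgroup M).Normal := ⟨fun n hn g => by
    rw [show g * n = n * g from Subtype.ext (h g g.2 n n.2), mul_inv_cancel_right]; exact hn⟩
  have := R.characteristic_of_normal h1
  exact ⟨(R : Subgroup M).map M.subtype, inferInstance, map_subtype_le _, fun e =>
    R.ne_bot_of_dvd_card hd ((map_eq_bot_iff_of_injective _ M.subtype_injective).1 e), R.2.map _⟩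

/-- transfer -/
theorem tr {r : ℕ} (hr : r.Prime) (h : AbS r X) {x : X} (h1 : x ∈ commutator X) (h2 : x ∈ center X)
    (h3 : orderOf x = r) : False := by
  have := Fact.mk hr
  obtain ⟨P, hP⟩ := Red.exists_sylow_mem hr (x := x) ⟨1, by rw [h3, pow_one]⟩
  have h4 := S0088.result (P : Subgroup X) ⟨⟨fun a b => Subtype.ext (abS_iff.1 h P a a.2 b b.2)⟩⟩ P.card_coprime_index
  have h5 : x = 1 := mem_bot.1 (h4 ▸ mem_inf.2 ⟨mem_inf.2 ⟨hP, h1⟩, h2⟩)
  rw [h5, orderOf_one] at h3
  exact hr.one_lt.ne h3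

theorem le_core (hp : p.Prime) {N : Subgroup X} (hN : N.Normal) (h : ¬ p ∣ Nat.card N) : N ≤ pPrimeCore p X :=
  Lib.Cores.le_pPrimeCore hN (hp.coprime_iff_not_dvd.2 h).symm

theorem not_dvd_core (hp : p.Prime) {N : Subgroup X} (h : N ≤ pPrimeCore p X) : ¬ p ∣ Nat.card N := fun hd =>
  hp.coprime_iff_not_dvd.1 (Lib.Cores.pPrimeCore_coprime p).symm (hd.trans (card_dvd_of_le h))

/-- a minimal normal subgroup of order divisible by both primes -/
theorem case1 [hp : Fact p.Prime] [hq : Fact q.Prime] (h2 : 2 < q) (hqp : q < p) (hW : WA p q X)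
    (h1 : ∀ K : Subgroup X, K.Normal → ¬ p ∣ K.index → ¬ q ∣ K.index → K = ⊤) (M : Subgroup X) [hn : M.Normal]
    (hM : MinN M) (dp : p ∣ Nat.card M) (dq : q ∣ Nat.card M) :
    IsSimpleGroup M ∧ ¬ IsMulCommutative M ∧ M ⊔ centralizer (M : Set X) = ⊤ := by
  have key : ∀ r : ℕ, r.Prime → r ∣ Nat.card M → M ⊓ pPrimeCore r X = ⊥ := fun r hr hd =>
    (hM.2 _ inferInstance inf_le_left).resolve_right fun e => not_dvd_core hr (e.ge.trans inf_le_right) hd
  have h3 : M ⊔ centralizer (M : Set X) = ⊤ := h1 _ inferInstance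
    (not_dvd_index (by omega) (wa_abS hp.out hW) M (key p hp.out dp))
    (not_dvd_index (by omega) (wa_abS hq.out (wa_symm hW)) M (key q hq.out dq))
  have : Nontrivial M := (nontrivial_iff_ne_bot M).2 hM.1
  refine ⟨⟨fun H hH => ?_⟩, fun hc => ?_, h3⟩
  · have h4 : (H.map M.subtype).Normal := by
      rw [← normalizer_eq_top_iff, eq_top_iff, ← h3]
      refine sup_le (fun x hx => ?_) ((centralizer_le (map_subtype_le H)).trans (centralizer_le_normalizer _))
      refine le_normalizer_map M.subtype ⟨⟨x, hx⟩, ?_, rfl⟩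
      rw [normalizer_eq_top_iff.2 hH]
      exact mem_top _
    refine (hM.2 _ h4 (map_subtype_le _)).imp (map_eq_bot_iff_of_injective _ M.subtype_injective).1 fun e => ?_
    refine map_injective M.subtype_injective (e.trans ?_)
    rw [← MonoidHom.range_eq_map, range_subtype]
  · obtain ⟨N, hN, h4, h5, h6⟩ := ab_syl M (fun a ha b hb => congrArg Subtype.val (hc.is_comm.comm ⟨a, ha⟩ ⟨b, hb⟩)) hq.out dq
    exact h5 (le_bot_iff.1 (key p hp.out dp ▸ le_inf h4 (le_core hp.out hN fun hd =>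
      hqp.ne' (eq_of_dvd hp.out hq.out h6 hd))))

/-- the common centraliser of the two cores -/
theorem pi_cent (hp : p.Prime) (hq : q.Prime) (hW : WA p q X)
    (h0 : ∀ M : Subgroup X, M.Normal → ¬ p ∣ Nat.card M → ¬ q ∣ Nat.card M → M = ⊥)
    (hM : ∀ M : Subgroup X, M.Normal → MinN M → ¬ p ∣ Nat.card M ∨ ¬ q ∣ Nat.card M) (C : Subgroup X) (hC : C.Normal)
    (hD : C ≤ centralizer (pPrimeCore q X : Set X)) (hE : C ≤ centralizer (pPrimeCore p X : Set X)) :
    ∀ r : ℕ, r.Prime → r ∣ Nat.card C → r = p ∨ r = q := by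
  by_contra hne
  obtain ⟨M, ⟨hn, hMC, hpi⟩, hmin⟩ := (Set.toFinite {M : Subgroup X | M.Normal ∧ M ≤ C ∧
    ¬ ∀ r : ℕ, r.Prime → r ∣ Nat.card M → r = p ∨ r = q}).exists_minimal ⟨C, hC, le_rfl, hne⟩
  have cen : ∀ N : Subgroup X, N.Normal → MinN N → ∀ a ∈ N, ∀ b ∈ M, a * b = b * a := fun N hN h a ha b hb =>
    (hM N hN h).elim (fun h1 => mem_centralizer_iff.1 (hE (hMC hb)) a (le_core hp hN h1 ha))
      fun h1 => mem_centralizer_iff.1 (hD (hMC hb)) a (le_core hq hN h1 ha)
  have hle : ⁅M, M⁆ ≤ M := commutator_le_left M M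
  have key : ∀ N : Subgroup X, N.Normal → N ≤ ⁅M, M⁆ → N = ⊥ ∨ N = M := fun N hN h1 => by
    by_contra h2
    rw [not_or] at h2
    have h3 : ∀ r : ℕ, r.Prime → r ∣ Nat.card N → r = p ∨ r = q := by
      by_contra h3
      exact h2.2 (le_antisymm (h1.trans hle) (hmin ⟨hN, (h1.trans hle).trans hMC, h3⟩ (h1.trans hle)))
    obtain ⟨L, hL, h4, h5, h6⟩ := H364.exists_minimal_normal_le N hN h2.1
    obtain ⟨r, hr, hd⟩ := Nat.exists_prime_and_dvd (n := Nat.card L) fun e => h5 (card_eq_one.1 e)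
    have := Fact.mk hr
    obtain ⟨x, hx⟩ := exists_prime_orderOf_dvd_card' r hd
    have h7 : AbS r M := (h3 r hr (hd.trans (card_dvd_of_le h4))).elim
      (fun e => e ▸ (wa_abS hp hW).sub M) fun e => e ▸ (wa_abS hq (wa_symm hW)).sub M
    have h8 := h1 (h4 x.2)
    rw [← map_subtype_commutator] at h8
    obtain ⟨y, hy, hyx⟩ := h8
    refine tr hr h7 hy (mem_center_iff.2 fun g => Subtype.ext ?_) ?_
    · exact (cen L hL ⟨h5, h6⟩ y (show M.subtype y ∈ L from hyx ▸ x.2) g g.2).symm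
    · rw [← hx, ← Subgroup.orderOf_coe y, ← Subgroup.orderOf_coe x]
      exact congrArg orderOf hyx
  have hab : ∀ a ∈ M, ∀ b ∈ M, a * b = b * a := by
    rcases key _ inferInstance le_rfl with h1 | h1
    · exact fun a ha b hb => mem_centralizer_iff.1 (commutator_eq_bot_iff_le_centralizer.1 h1 hb) a ha
    · refine cen M hn ⟨fun e => hpi fun r hr hd => ?_, fun N hN h2 => key N hN (h2.trans h1.ge)⟩
      rw [e, card_bot, Nat.dvd_one] at hd
      exact (hr.one_lt.ne' hd).elim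
  refine hpi fun r hr hd => ?_
  by_contra h1
  rw [not_or] at h1
  obtain ⟨N, hN, -, h2, h3⟩ := ab_syl M hab hr hd
  exact h2 (h0 N hN (fun h4 => h1.1 (eq_of_dvd hp hr h3 h4).symm) fun h4 => h1.2 (eq_of_dvd hq hr h3 h4).symm)

end Cfsg.Agent.PQ.EL.SL

namespace Cfsg.Agent.PQ.EL

open Cfsg Cfsg.Agent.LV Cfsg.Agent.PQ.LE Subgroup SL

/-- **the structure lemma** -/
theorem boxSL : BoxSL := by
  intro p q hp hq h2 hqp X _ _ hW h0 h1
  by_cases hM : ∃ M : Subgroup X, M.Normal ∧ MinN M ∧ p ∣ Nat.card M ∧ q ∣ Nat.card M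
  · obtain ⟨M, hn, h3, dp, dq⟩ := hM
    exact .inr ⟨M, hn, case1 h2 hqp hW h1 M h3 dp dq⟩
  left
  have hM' : ∀ M : Subgroup X, M.Normal → MinN M → ¬ p ∣ Nat.card M ∨ ¬ q ∣ Nat.card M := fun M hn h3 =>
    not_and_or.1 fun h4 => hM ⟨M, hn, h3, h4⟩
  have hDE : pPrimeCore q X ⊓ pPrimeCore p X = ⊥ :=
    h0 _ inferInstance (not_dvd_core hp.out inf_le_right) (not_dvd_core hq.out inf_le_left)
  have i1 := not_dvd_index (p := p) (by omega) (wa_abS hp.out hW) (pPrimeCore q X) hDE
  have i2 := not_dvd_index (p := q) (by omega) (wa_abS hq.out (wa_symm hW)) (pPrimeCore p X) (by rw [inf_comm, hDE])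
  have pi := fun C hC => pi_cent hp.out hq.out hW h0 hM' C hC
  have dD : ¬ q ∣ Nat.card (pPrimeCore q X) := not_dvd_core hq.out le_rfl
  have dE : ¬ p ∣ Nat.card (pPrimeCore p X) := not_dvd_core hp.out le_rfl
  have nD : (pPrimeCore q X).Normal := inferInstance
  have nE : (pPrimeCore p X).Normal := inferInstance
  generalize pPrimeCore q X = D at *
  generalize pPrimeCore p X = E at *
  refine up hp.out hq.out hW _ i1 (step hq.out hp.out (wa_symm hW) (centralizer (D : Set X)) _ ?_ ?_).symm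
  · rw [relIndex_sup_right]
    exact fun hd => dD (hd.trans (relIndex_dvd_card _ _))
  rw [inf_of_le_left le_sup_right]
  refine step hq.out hp.out (wa_symm hW) (E ⊔ centralizer (E : Set X)) _
    (fun hd => i2 (hd.trans (relIndex_dvd_index_of_normal _ _))) (step hp.out hq.out hW (centralizer (E : Set X)) _ ?_ ?_).symm
  · rw [← relIndex_subgroupOf (inf_le_left : (E ⊔ centralizer (E : Set X)) ⊓ centralizer (D : Set X) ≤ _)]
    refine fun hd => dE (((hd.trans (relIndex_dvd_index_of_normal _ _)).trans (dvd_of_eq ?_)).trans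
      (relIndex_dvd_card (centralizer (E : Set X)) E))
    exact relIndex_sup_right E _
  · exact ⟨default, default, fun x _ y _ => Subtype.ext
      (hW _ (pi _ inferInstance (inf_le_right.trans inf_le_right) inf_le_left) x x.2 y y.2)⟩

end Cfsg.Agent.PQ.EL
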