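import Cfsg.Agent.PQ.EL.Defs
import Cfsg.Agent.H681.TI.Central
import Cfsg.Agent.H710.SumSquares
import Cfsg.Agent.CharDeep.DegreeBound
import Cfsg.Agent.Characters.Linear

/-!
# S4982, box `T2`: `Tw` passes to normal subgroups of index prime to `p q` and to direct factors (helper25)
-/

set_option autoImplicit false
set_option linter.unusedSectionVars false

namespace Cfsg.Agent.PQ.EL

open Cfsg Subgroup
open Cfsg.Agent.Characters.Core Cfsg.Agent.H672
open scoped ComplexConjugate Pointwise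

namespace T2

/-- central characters agree along `Over` -/
theorem cen {A D : Type} [Group A] [Group D] [Finite A] [Finite D] {f : D →* A} {χ : A → ℂ}
    (hχ : IsIrrCharacter A χ) {Θ : D → ℂ} (hΘ : IsIrrCharacter D Θ) (h : Over f χ Θ) {z : D} (hz : z ∈ center D)
    (hz' : f z ∈ center A) {c : ℂ} (hc : Θ z = c * Θ 1) : χ (f z) = c * χ 1 := by
  have := Fintype.ofFinite D
  have := Fintype.ofFinite A
  obtain ⟨a, -, ha⟩ := CharDeep.DegreeBound.exists_omega hχ hz'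
  obtain ⟨b, -, hb⟩ := CharDeep.DegreeBound.exists_omega hΘ hz
  have h0 : ∑ d, χ (f d) * conj (Θ d) ≠ 0 := right_ne_zero_of_mul ((over_iff _ _ _).1 h)
  have h1 : ∑ d, χ (f (d * z)) * conj (Θ d) = a * ∑ d, χ (f d) * conj (Θ d) := by
    rw [Finset.mul_sum]
    exact Finset.sum_congr rfl fun d _ => by rw [map_mul, ha, mul_assoc]
  have h2 : ∑ d, χ (f (d * z)) * conj (Θ d) = b * ∑ d, χ (f d) * conj (Θ d) := by
    rw [Finset.mul_sum, ← Equiv.sum_comp (Equiv.mulRight z⁻¹)]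
    refine Finset.sum_congr rfl fun d _ => ?_
    rw [Equiv.coe_mulRight, inv_mul_cancel_right, ← isCharacter_apply_inv (isIrr_isCharacter hΘ),
      ← isCharacter_apply_inv (isIrr_isCharacter hΘ), mul_inv_rev, inv_inv, ← mem_center_iff.1 hz, hb]
    ring
  have h3 : a = b := mul_right_cancel₀ h0 (h1.symm.trans h2)
  have h4 := ha 1
  have h5 := hb 1
  rw [one_mul] at h4 h5
  rw [h4, h3, mul_right_cancel₀ (isIrr_apply_one_ne_zero hΘ) (h5.symm.trans hc)]

/-- a character which is trivial on the kernel descends -/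
theorem desc {Y L : Type} [Group Y] [Group L] [Finite Y] [Finite L] (φ : Y →* L) (hφ : Function.Surjective φ)
    {β : Y → ℂ} (hβ : IsIrrCharacter Y β) (h : ∀ n ∈ φ.ker, β n = β 1) :
    ∃ χ : IrrCharacter L, ∀ y, (χ : L → ℂ) (φ y) = β y := by
  obtain ⟨E, hE⟩ := H681.TI.infl_ker_equiv φ hφ
  refine ⟨E.symm ⟨⟨β, hβ⟩, h⟩, fun y => ?_⟩
  have h1 := hE (E.symm ⟨⟨β, hβ⟩, h⟩)
  rw [E.apply_symm_apply] at h1
  exact (congrFun h1 y).symm

/-- over a linear character of a central `p'`-subgroup there is a character of degree prime to `p` -/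
theorem exists_deg {Z T : Type} [Group Z] [Group T] [Finite Z] [Finite T] (j : Z →* T) (hj : Function.Injective j)
    (hc : ∀ z, j z ∈ center T) (lam : Z →* ℂˣ) {p : ℕ} [hp : Fact p.Prime] (hZ : ¬ p ∣ Nat.card Z) :
    ∃ χ : IrrCharacter T, (∀ z, (χ : T → ℂ) (j z) = (lam z : ℂ) * (χ : T → ℂ) 1) ∧ ¬ p ∣ charDegree (χ : T → ℂ) := by
  obtain ⟨P⟩ : Nonempty (Sylow p T) := inferInstance
  let φ : Z × (P : Subgroup T) →* T := j.noncommCoprod (P : Subgroup T).subtype fun z x => (mem_center_iff.1 (hc z) x).symm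
  have hφ : ∀ y, φ y = j y.1 * y.2 := fun _ => rfl
  obtain ⟨θ, hθ⟩ := desc φ.rangeRestrict φ.rangeRestrict_surjective
    (Characters.Linear.isIrrCharacter_hom (lam.comp (MonoidHom.fst Z (P : Subgroup T)))) (by
      intro y hy
      have h1 : j y.1 * y.2 = 1 := congrArg Subtype.val (MonoidHom.mem_ker.1 hy)
      have h2 : orderOf y.1 ∣ Nat.card (P : Subgroup T) := by
        rw [← orderOf_injective j hj, eq_inv_of_mul_eq_one_left h1, orderOf_inv, orderOf_coe]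
        exact orderOf_dvd_natCard _
      obtain ⟨k, hk⟩ := IsPGroup.iff_card.1 P.2
      have h3 : orderOf y.1 = 1 := Nat.eq_one_of_dvd_coprimes
        (Nat.Coprime.pow_left k (hp.out.coprime_iff_not_dvd.2 hZ)) (hk ▸ h2) (orderOf_dvd_natCard _)
      simp [orderOf_eq_one_iff.1 h3])
  have h1 : (θ : φ.range → ℂ) 1 = 1 := by simpa using hθ 1
  have := Fintype.ofFinite T
  have := Fintype.ofFinite φ.range
  obtain ⟨χ, h2, h3⟩ := H710.SumSquares.exists_over (p := p) φ.range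
    (fun h => P.not_dvd_index (h.trans (index_dvd_of_le fun x hx => ⟨(1, ⟨x, hx⟩), by simp [hφ]⟩))) θ (by
      rw [charDegree_of_eq (n := 1) (by simpa using h1)]
      exact hp.out.not_dvd_one)
  refine ⟨χ, fun z => ?_, h2⟩
  have h4 : j z = φ.range.subtype (φ.rangeRestrict (z, 1)) := by simp [hφ]
  rw [h4]
  refine cen χ.2 θ.2 ((over_subtype_iff _ _ _).2 h3) (mem_center_iff.2 fun g => Subtype.ext ?_) (h4 ▸ hc z) ?_
  · exact mem_center_iff.1 (h4 ▸ hc z : φ.range.subtype (φ.rangeRestrict (z, 1)) ∈ center T) g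
  · rw [hθ, h1, mul_one]
    rfl

variable {p q : ℕ} {T : Type} [Group T] [Finite T]

/-- the central product -/
theorem prod [hp : Fact p.Prime] {Z A B : Subgroup T} {lam : Z →* ℂˣ} (hc : Z ≤ center T) (hZ : ¬ p ∣ Nat.card Z)
    (hE : EZ p q Z lam) (hA : Z ≤ A) (hB : Z ≤ B) (hAB : A ⊓ B ≤ Z) (hcom : ∀ a ∈ A, ∀ b ∈ B, a * b = b * a)
    (hgen : ∀ t, ∃ a ∈ A, ∃ b ∈ B, a * b = t) (α : IrrCharacter A)
    (hα : ∀ z : Z, (α : A → ℂ) ⟨z, hA z.2⟩ = (lam z : ℂ) * (α : A → ℂ) 1) (h : ¬ p ∣ charDegree (α : A → ℂ)) :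
    ¬ q ∣ charDegree (α : A → ℂ) := by
  obtain ⟨β, hβ, h1⟩ := exists_deg (inclusion hB) (inclusion_injective hB)
    (fun z => mem_center_iff.2 fun g => Subtype.ext (mem_center_iff.1 (hc z.2) g)) lam hZ
  let φ : A × B →* T := A.subtype.noncommCoprod B.subtype fun a b => hcom a a.2 b b.2
  obtain ⟨χ, hχ⟩ := desc φ (fun t => let ⟨a, ha, b, hb, e⟩ := hgen t; ⟨(⟨a, ha⟩, ⟨b, hb⟩), e⟩)
    (S0188.isIrr_outer α.2 β.2) (by
      rintro ⟨a, b⟩ hy
      have h2 : (b : T) = (a : T)⁻¹ := eq_inv_of_mul_eq_one_right (MonoidHom.mem_ker.1 hy)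
      have h3 : (a : T) ∈ Z := hAB ⟨a.2, (inv_mem_iff (H := B)).1 (h2 ▸ b.2)⟩
      have h4 : b = inclusion hB ⟨a, h3⟩⁻¹ := Subtype.ext h2
      have h5 : (lam ⟨a, h3⟩ : ℂ) * (lam ⟨a, h3⟩⁻¹ : ℂ) = 1 := by
        rw [← Units.val_mul, ← map_mul, mul_inv_cancel, map_one, Units.val_one]
      have h6 : (α : A → ℂ) a = _ := hα ⟨a, h3⟩
      change (α : A → ℂ) a * (β : B → ℂ) b = (α : A → ℂ) 1 * (β : B → ℂ) 1
      rw [h4, hβ, h6]
      linear_combination ((α : A → ℂ) 1 * (β : B → ℂ) 1) * h5)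
  have h2 : (χ : T → ℂ) 1 = (α : A → ℂ) 1 * (β : B → ℂ) 1 := by simpa using hχ 1
  have h3 : charDegree (χ : T → ℂ) = charDegree (α : A → ℂ) * charDegree (β : B → ℂ) :=
    charDegree_of_eq (by rw [Nat.cast_mul, coe_charDegree α.2, coe_charDegree β.2, h2])
  have h4 := (hE χ fun z => by
    have h5 := hχ (⟨z, hA z.2⟩, 1)
    have h6 : φ (⟨z, hA z.2⟩, 1) = z := mul_one _
    rw [h6] at h5
    rw [h5, h2, ← mul_assoc, ← hα]).1 (h3 ▸ fun e => (hp.out.dvd_mul.1 e).elim h h1)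
  exact fun e => h4 (h3 ▸ e.mul_right _)

/-- the cover of a subgroup -/
theorem tw_of {X : Type} [Group X] {f : T →* X} {lam : f.ker →* ℂˣ} (h1 : Function.Surjective f) (h2 : f.ker ≤ center T)
    (h3 : ¬ p ∣ Nat.card f.ker) (h4 : ¬ q ∣ Nat.card f.ker) (K : Subgroup X)
    (h : ∀ θ : IrrCharacter (K.comap f), (∀ z : f.ker, (θ : K.comap f → ℂ) ⟨z, f.ker_le_comap K z.2⟩ =
      (lam z : ℂ) * (θ : K.comap f → ℂ) 1) →
      (¬ p ∣ charDegree (θ : K.comap f → ℂ) ↔ ¬ q ∣ charDegree (θ : K.comap f → ℂ))) : Tw p q K := by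
  have h5 : ∀ x, x ∈ (f.subgroupComap K).ker ↔ (x : T) ∈ f.ker := fun x => Subtype.ext_iff
  let j : (f.subgroupComap K).ker →* f.ker :=
    ((K.comap f).subtype.comp (Subgroup.subtype _)).codRestrict _ fun x => (h5 _).1 x.2
  have hj : Function.Injective j := fun x y e => Subtype.ext (Subtype.ext (congrArg (Subtype.val : f.ker → T) e))
  refine ⟨K.comap f, inferInstance, inferInstance, f.subgroupComap K, lam.comp j,
    f.subgroupComap_surjective_of_surjective K h1,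
    fun x hx => mem_center_iff.2 fun g => Subtype.ext (mem_center_iff.1 (h2 ((h5 _).1 hx)) g),
    fun e => h3 (e.trans (card_dvd_of_injective j hj)), fun e => h4 (e.trans (card_dvd_of_injective j hj)),
    fun θ hθ => h θ fun z => hθ ⟨⟨z, f.ker_le_comap K z.2⟩, (h5 _).2 z.2⟩⟩

end T2

/-- **box `T2`** -/
theorem boxT2 : BoxT2 := by
  rintro p q hp hq X _ _ ⟨T, _, _, f, lam, h1, h2, h3, h4, h5⟩
  refine ⟨fun K _ hpK hqK => T2.tw_of (lam := lam) h1 h2 h3 h4 K fun θ hθ => ?_, fun S C _ _ hs hi hS => ?_⟩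
  · obtain ⟨χ, hχ, ho⟩ := exists_over_subtype (K.comap f) θ.2
    obtain ⟨⟨e, he⟩, h6⟩ := charDegree_dvd_of_over _ hχ θ.2 ho
    rw [he, Nat.mul_div_cancel_left _ (charDegree_pos θ.2), index_comap_of_surjective _ h1] at h6
    have h7 := h5 ⟨χ, hχ⟩ fun z => T2.cen hχ θ.2 ho (z := ⟨z, f.ker_le_comap K z.2⟩)
      (mem_center_iff.2 fun g => Subtype.ext (mem_center_iff.1 (h2 z.2) g)) (h2 z.2) (hθ z)
    change ¬ p ∣ charDegree χ ↔ ¬ q ∣ charDegree χ at h7
    rw [he, hp.out.dvd_mul, hq.out.dvd_mul, or_iff_left fun e => hpK (e.trans h6),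
      or_iff_left fun e => hqK (e.trans h6)] at h7
    exact h7
  have hA := f.ker_le_comap S
  have hB := f.ker_le_comap C
  have hAB : S.comap f ⊓ C.comap f ≤ f.ker := by rw [← comap_inf, hi]; exact le_rfl
  have hcom : ∀ a ∈ S.comap f, ∀ b ∈ C.comap f, a * b = b * a := by
    have e1 : ⁅S.comap f, C.comap f⁆ ≤ center T := ((commutator_le_inf _ _).trans hAB).trans h2
    have e2 : ⁅⁅S.comap f, C.comap f⁆, S.comap f⁆ = ⊥ :=
      commutator_eq_bot_iff_le_centralizer.2 (e1.trans (center_le_centralizer _))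
    have e3 : ⁅⁅C.comap f, S.comap f⁆, S.comap f⁆ = ⊥ := by rwa [commutator_comm (C.comap f)]
    have e4 := commutator_eq_bot_iff_le_centralizer.1 (commutator_commutator_eq_bot_of_rotate e2 e3)
    intro a ha b hb
    obtain ⟨s, hs1, hs2⟩ : f a ∈ ⁅S.comap f, S.comap f⁆.map f := by
      rw [map_commutator, map_comap_eq_self_of_surjective h1, hS]
      exact ha
    have e5 : s⁻¹ * a ∈ center T := h2 (by rw [MonoidHom.mem_ker, map_mul, map_inv, hs2, inv_mul_cancel])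
    calc a * b = s * (s⁻¹ * a * b) := by group
      _ = s * b * (s⁻¹ * a) := by rw [← mem_center_iff.1 e5, mul_assoc]
      _ = b * a := by rw [← mem_centralizer_iff.1 (e4 hs1) b hb]; group
  have hgen : ∀ t, ∃ a ∈ S.comap f, ∃ b ∈ C.comap f, a * b = t := fun t => by
    obtain ⟨s, hs1, c, hc1, e⟩ : f t ∈ (S : Set X) * (C : Set X) := by
      rw [← mul_normal, hs]
      exact mem_top _
    obtain ⟨a, rfl⟩ := h1 s
    refine ⟨a, hs1, a⁻¹ * t, ?_, mul_inv_cancel_left _ _⟩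
    rw [mem_comap, map_mul, map_inv, ← e, inv_mul_cancel_left]
    exact hc1
  have h5' : EZ q p f.ker lam := fun χ h => (h5 χ h).symm
  have hcom' : ∀ b ∈ C.comap f, ∀ a ∈ S.comap f, b * a = a * b := fun b hb a ha => (hcom a ha b hb).symm
  have hgen' : ∀ t, ∃ b ∈ C.comap f, ∃ a ∈ S.comap f, b * a = t := fun t =>
    let ⟨a, ha, b, hb, e⟩ := hgen t
    ⟨b, hb, a, ha, (hcom a ha b hb).symm.trans e⟩
  have hBA : C.comap f ⊓ S.comap f ≤ f.ker := inf_comm (S.comap f) _ ▸ hAB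
  exact ⟨T2.tw_of h1 h2 h3 h4 S fun θ hθ =>
      ⟨T2.prod h2 h3 h5 hA hB hAB hcom hgen θ hθ, T2.prod h2 h4 h5' hA hB hAB hcom hgen θ hθ⟩,
    T2.tw_of h1 h2 h3 h4 C fun θ hθ =>
      ⟨T2.prod h2 h3 h5 hB hA hBA hcom' hgen' θ hθ, T2.prod h2 h4 h5' hB hA hBA hcom' hgen' θ hθ⟩⟩

end Cfsg.Agent.PQ.EL
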