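import Cfsg.Agent.PQ.EL.Defs
import Cfsg.Agent.S0581

/-!
# S4982, the start of the relative theorem (helper34)

`boxHy0_of : BoxAmb → BoxHy0`.
-/

set_option autoImplicit false
set_option maxHeartbeats 200000
set_option linter.unusedSectionVars false

namespace Cfsg.Agent.PQ.EL

open Cfsg Cfsg.Agent.LV Cfsg.Agent.PQ.LE Subgroup
open scoped Pointwise

namespace Hy0

variable {p q : ℕ} {A : Type} [Group A]

theorem wa_sub (h : WA p q A) (X : Subgroup A) : WA p q X := fun B hB a ha b hb =>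
  Subtype.ext (h (B.map X.subtype) (by rwa [card_map_of_injective X.subtype_injective]) a ⟨a, ha, rfl⟩ b ⟨b, hb, rfl⟩)

theorem amb_inj {Z : Type} [Group Z] (h : Amb p q A) (j : Z →* A) (hj : Function.Injective j) : Amb p q Z :=
  fun Y S _ f hf => h (Y.map j) S (f.comp (Y.equivMapOfInjective j hj).symm.toMonoidHom)
    (hf.comp (Y.equivMapOfInjective j hj).symm.surjective)

theorem cy_sub {R Z : Subgroup A} (h : Cy q R) (hZ : R ≤ Z) : Cy q (R.subgroupOf Z) := fun U hU h1 => by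
  obtain ⟨_, ⟨y, hy, rfl⟩, h2⟩ := h (U.map Z.subtype) (hU.map _) fun r hr => ⟨⟨r, hZ hr⟩, h1 hr, rfl⟩
  refine ⟨y, hy, (map_le_map_iff_of_injective Z.subtype_injective).1 (h2.trans ?_)⟩
  rw [Subgroup.map_sup, subgroupOf_map_subtype, inf_of_le_left hZ, MonoidHom.map_zpowers]

theorem cyc_mid {R U Q : Subgroup A} {y : A} (hy : y ∈ Q) (h1 : R ≤ U) (h2 : U ≤ Q)
    (hab : ∀ a ∈ Q, ∀ b ∈ Q, a * b = b * a) (h3 : Q ≤ R ⊔ zpowers y) : ∃ u ∈ U, U ≤ R ⊔ zpowers u := by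
  obtain ⟨m, hm⟩ := Int.subgroup_cyclic ((U.comap (zpowersHom A y)).toAddSubgroup')
  have h4 : ∀ n : ℤ, y ^ n ∈ U ↔ n ∈ AddSubgroup.closure {m} := fun n => by rw [← hm]; rfl
  refine ⟨y ^ m, (h4 m).2 (AddSubgroup.subset_closure rfl), fun u hu => ?_⟩
  have h5 : zpowers y ≤ normalizer (R : Set A) := zpowers_le.2 (centralizer_le_normalizer _
    (mem_centralizer_iff.2 fun r hr => hab r (h2 (h1 hr)) y hy))
  have h6 : u ∈ ((R ⊔ zpowers y : Subgroup A) : Set A) := h3 (h2 hu)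
  rw [coe_mul_of_right_le_normalizer_left _ _ h5] at h6
  obtain ⟨r, hr, _, ⟨n, rfl⟩, rfl⟩ := h6
  obtain ⟨k, hk⟩ := AddSubgroup.mem_closure_singleton.1 ((h4 n).1 ((U.mul_mem_cancel_left (h1 hr)).1 hu))
  refine mul_mem (mem_sup_left hr) (mem_sup_right ⟨k, ?_⟩)
  rw [← hk, smul_eq_mul, mul_comm]
  exact (zpow_mul y m k).symm

variable [Finite A] [hp : Fact p.Prime] [hq : Fact q.Prime] {P : Sylow p A} {Q : Sylow q A}

theorem wa (h : Par P Q) : WA p q A := fun K hK => by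
  let f := (P : Subgroup A).subtype.noncommCoprod (Q : Subgroup A).subtype fun a b => h.com a a.2 b b.2
  have h1 : (P : Subgroup A) ≤ f.range := fun a ha => ⟨(⟨a, ha⟩, 1), mul_one a⟩
  have h2 : (Q : Subgroup A) ≤ f.range := fun a ha => ⟨(1, ⟨a, ha⟩), one_mul a⟩
  have h3 : ∀ a ∈ f.range, ∀ b ∈ f.range, a * b = b * a := by
    rintro _ ⟨a, rfl⟩ _ ⟨b, rfl⟩
    rw [← map_mul, ← map_mul]
    exact congrArg f (Prod.ext (Subtype.ext (h.abP _ a.1.2 _ b.1.2)) (Subtype.ext (h.abQ _ a.2.2 _ b.2.2)))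
  have h4 : Group.IsNilpotent f.range :=
    letI : CommGroup f.range := { mul_comm := fun a b => Subtype.ext (h3 a a.2 b b.2) }
    inferInstance
  obtain ⟨x, hx⟩ := S0581.result f.range K h4 (Nat.coprime_of_dvd fun r hr h5 h6 => by
    have h7 := h5.trans (card_range_dvd f)
    obtain ⟨i, hi⟩ := IsPGroup.iff_card.1 P.2
    obtain ⟨j, hj⟩ := IsPGroup.iff_card.1 Q.2
    rw [Nat.card_prod, hi, hj] at h7
    rcases (Nat.Prime.dvd_mul hr).1 h7 with h8 | h8
    · exact P.not_dvd_index (((Nat.prime_dvd_prime_iff_eq hr hp.out).1 (hr.dvd_of_dvd_pow h8) ▸ h6).trans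
        (index_dvd_of_le h1))
    · exact Q.not_dvd_index (((Nat.prime_dvd_prime_iff_eq hr hq.out).1 (hr.dvd_of_dvd_pow h8) ▸ h6).trans
        (index_dvd_of_le h2))) fun r hr h5 => by
    have h6 := h5.trans (card_subgroup_dvd_card K)
    rcases hK r hr h5 with rfl | rfl
    · exact (P.dvd_card_of_dvd_card h6).trans (card_dvd_of_le h1)
    · exact (Q.dvd_card_of_dvd_card h6).trans (card_dvd_of_le h2)
  intro a ha b hb
  obtain ⟨a, h5, rfl⟩ := hx ha
  obtain ⟨b, h6, rfl⟩ := hx hb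
  exact (map_mul (MulAut.conj x) a b).symm.trans ((congrArg _ (h3 a h5 b h6)).trans (map_mul (MulAut.conj x) b a))

theorem loc_sub (h : Par P Q) {Z : Subgroup A} (h1 : (P : Subgroup A) ≤ Z) (h2 : (Q : Subgroup A) ≤ Z) : Loc p q Z := by
  refine ⟨P.subtype h1, Q.subtype h2, ⟨⟨fun a b => Subtype.ext (Subtype.ext (h.abP _ a.2 _ b.2))⟩⟩,
    ⟨⟨fun a b => Subtype.ext (Subtype.ext (h.abQ _ a.2 _ b.2))⟩⟩, ?_⟩
  rw [Sylow.coe_subtype, Sylow.coe_subtype, ← subgroupOf_normalizer_eq h1, ← subgroupOf_normalizer_eq h2, h.nor]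

theorem cy (h : Par P Q) {R : Subgroup A} (hR : R ≤ Q) {y : A} (hy : y ∈ (Q : Subgroup A))
    (h1 : (Q : Subgroup A) ≤ R ⊔ zpowers y) : Cy q R := fun U hU h2 => by
  have h3 := wa h U fun r hr h3 => by
    obtain ⟨j, hj⟩ := IsPGroup.iff_card.1 hU
    exact .inr ((Nat.prime_dvd_prime_iff_eq hr hq.out).1 (hr.dvd_of_dvd_pow (hj ▸ h3)))
  have h4 : U ≤ centralizer (R : Set A) := fun u hu => mem_centralizer_iff.2 fun r hr => h3 r (h2 hr) u hu
  have h5 : (Q : Subgroup A) ≤ centralizer (R : Set A) := fun u hu =>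
    mem_centralizer_iff.2 fun r hr => h.abQ r (hR hr) u hu
  obtain ⟨V, hV⟩ := (hU.comap_subtype (K := centralizer (R : Set A))).exists_le_sylow
  obtain ⟨c, hc⟩ := MulAction.exists_smul_eq (centralizer (R : Set A)) V (Q.subtype h5)
  have h6 : ∀ r ∈ R, MulAut.conj (c : A) r = r := fun r hr => by
    rw [MulAut.conj_apply, ← mem_centralizer_iff.1 c.2 r hr, mul_inv_cancel_right]
  obtain ⟨_, ⟨u, hu, rfl⟩, h7⟩ := cyc_mid (U := U.map (MulAut.conj (c : A)).toMonoidHom) hy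
    (fun r hr => ⟨r, h2 hr, h6 r hr⟩) (by
      rintro _ ⟨u, hu, rfl⟩
      have h7 : MulAut.conj c (⟨u, h4 hu⟩ : centralizer (R : Set A)) ∈
          ((c • V : Sylow q (centralizer (R : Set A))) : Subgroup _) := ⟨_, hV hu, rfl⟩
      rw [hc] at h7
      exact h7) h.abQ h1
  refine ⟨u, hu, (map_le_map_iff_of_injective (f := (MulAut.conj (c : A)).toMonoidHom)
    (MulAut.conj (c : A)).injective).1 (h7.trans ?_)⟩
  rw [Subgroup.map_sup, MonoidHom.map_zpowers]
  exact sup_le_sup_right (fun r hr => ⟨r, hr, h6 r hr⟩) _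

end Hy0

open Hy0 in
/-- **the start of the relative theorem** -/
theorem boxHy0_of (h : BoxAmb) : BoxHy0 := by
  intro p q hp hq h2 hqp A _ _ P Q X hL hc hX ⟨y, hy, h1⟩
  obtain ⟨Q', H⟩ := exists_par hqp.ne' hL P
  obtain rfl : Q' = Q := Sylow.ext (Q.is_maximal' Q'.2 fun b hb =>
    H.mem b (fun a ha => hc a ha b hb) (Red.order_of_mem hq.out Q.2 hb))
  have h3 := cy H inf_le_left hy h1
  have h4 : ∀ x : X, orderOf x = orderOf (x : A) := fun x => (orderOf_coe x).symm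
  refine ⟨wa_sub (wa H) X, P.2.comap_subtype, fun e => P.not_dvd_index (e.trans (relIndex_dvd_index_of_le hX)),
    fun x => ⟨fun hx => ⟨by rw [El, h4]; exact Red.order_of_mem hq.out Q'.2 hx, fun a ha => Subtype.ext (hc a ha x hx)⟩,
      fun hx => H.mem x (fun a ha => congrArg Subtype.val (hx.2 ⟨a, hX ha⟩ ha)) (by rw [El, ← h4]; exact hx.1)⟩,
    inf_subgroupOf_right (Q' : Subgroup A) X ▸ cy_sub h3 inf_le_right, ?_⟩
  have h5 : (Q' : Subgroup A) ≤ centralizer (((Q' : Subgroup A) ⊓ X : Subgroup A) : Set A) := fun u hu =>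
    mem_centralizer_iff.2 fun r hr => H.abQ r hr.1 u hu
  have h6 := h p q h2 hqp _ _ (loc_sub H (fun u hu => mem_centralizer_iff.2 fun r hr => (hc u hu r hr.1).symm) h5)
    (fun r hr => mem_center_iff.2 fun g => Subtype.ext (mem_centralizer_iff.1 g.2 r hr).symm)
    (cy_sub h3 (inf_le_left.trans h5)) (Q'.2.to_inf_left.comap_subtype)
  refine amb_inj h6 ((X.subtype.comp (Subgroup.subtype _)).codRestrict _ fun g => mem_centralizer_iff.2 fun r hr =>
    congrArg Subtype.val (mem_centralizer_iff.1 g.2 ⟨r, hr.2⟩ hr.1)) fun a b e => ?_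
  have h7 := congrArg Subtype.val e
  exact Subtype.ext (Subtype.ext h7)

end Cfsg.Agent.PQ.EL
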