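import Cfsg.Agent.PQ.EL.Defs
import Cfsg.Agent.H671.Tensor
import Cfsg.Agent.H669.Basic
import Cfsg.Agent.Lib.MinNormal
import Cfsg.Agent.S4834
import Cfsg.Agent.S5758

/-!
# S4982: a nonabelian minimal normal subgroup of order prime to `q` (helper24)
-/

set_option autoImplicit false
set_option linter.unusedSectionVars false

namespace Cfsg.Agent.PQ.EL

open Cfsg Cfsg.Agent.LV Cfsg.Agent.PQ.LE Subgroup Cfsg.Agent.Characters.Core Cfsg.Agent.H671.Tensor

namespace C

theorem solv_pi {ι D : Type} [Group D] [Group.IsSolvable D] : Group.IsSolvable (ι → D) := by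
  obtain ⟨n, hn⟩ := Group.IsSolvable.solvable (G := D)
  refine ⟨n, (eq_bot_iff).2 fun f hf => mem_bot.2 (funext fun i => ?_)⟩
  have h2 := map_derivedSeries_le_derivedSeries (Pi.evalMonoidHom (fun _ : ι => D) i) n (mem_map_of_mem _ hf)
  rw [hn, mem_bot] at h2
  exact h2

theorem deg_of {H : Type} [Group H] {χ : H → ℂ} {n : ℕ} (h : χ 1 = n) : charDegree χ = n := by
  rw [charDegree, h, Complex.natCast_re, Nat.floor_natCast]

/-- a constant irreducible character is linear -/
theorem deg_one {S : Type} [Group S] [Finite S] {α : S → ℂ} (hα : IsIrrCharacter S α) (h : ∀ s, α s = α 1) :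
    charDegree α = 1 := by
  have := Fintype.ofFinite S
  have h1 := classInner_irr_self hα
  have h2 := H669.Basic.charDegree_eq hα
  rw [classInner_def] at h1
  simp only [h, h2, Complex.conj_natCast, Finset.sum_const, Finset.card_univ, nsmul_eq_mul] at h1
  rw [← Nat.card_eq_fintype_card, ← mul_assoc, inv_mul_cancel₀ card_ne_zero_complex, one_mul] at h1
  exact Nat.eq_one_of_mul_eq_one_right (by exact_mod_cast h1)

section

variable {G : Type} [Group G] {ι : Type} [Fintype ι] [DecidableEq ι] {S : Type} [Group S] [IsSimpleGroup S]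
  (hna : ¬ IsMulCommutative S) (c : G →* MulAut (ι → S))

/-- the permutation of the factors -/
noncomputable def pi : G →* Equiv.Perm ι where
  toFun g := perm hna (c g)
  map_one' := by rw [map_one, (one_spec hna).1]
  map_mul' g h := by rw [map_mul, (mul_spec hna _ _).1]

theorem pi_spec (g : G) (x : ι → S) (i : ι) : c g x (pi hna c g i) = aut hna (c g) i (x i) := perm_spec hna (c g) x i

/-- the stabiliser of a set of factors -/
def TD (D : Finset ι) : Subgroup G where
  carrier := {g | ∀ i, i ∈ D ↔ pi hna c g i ∈ D}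
  one_mem' := fun i => by rw [map_one]; rfl
  mul_mem' := fun {a b} ha hb i => by rw [map_mul]; exact (hb i).trans (ha _)
  inv_mem' := fun {a} ha i => by
    have h := ha (pi hna c a⁻¹ i)
    rw [← Equiv.Perm.mul_apply, ← map_mul, mul_inv_cancel, map_one] at h
    exact h.symm

/-- extension by `1` -/
def ext (D : Finset ι) (x : D → S) : ι → S := fun i => if h : i ∈ D then x ⟨i, h⟩ else 1

theorem ext_mul (D : Finset ι) (x y : D → S) : ext D (x * y) = ext D x * ext D y := by
  funext i
  by_cases h : i ∈ D <;> simp [ext, h]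

theorem ext_one (D : Finset ι) : ext D (1 : D → S) = 1 := by
  funext i
  by_cases h : i ∈ D <;> simp [ext, h]

theorem ext_res {D : Finset ι} {g : G} (hg : g ∈ TD hna c D) (x : D → S) :
    ext D (fun j : D => c g (ext D x) j) = c g (ext D x) := by
  funext i
  by_cases h : i ∈ D
  · simp [ext, h]
  · obtain ⟨j, rfl⟩ := (pi hna c g).surjective i
    have hj : j ∉ D := fun k => h ((hg j).1 k)
    rw [pi_spec]
    simp [ext, h, hj]

/-- the action of the stabiliser on the product of the factors in `D` -/
@[reducible] noncomputable def act (D : Finset ι) : MulDistribMulAction (TD hna c D) (D → S) where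
  smul g x := fun j => c g (ext D x) j
  one_smul x := by
    funext j
    show c 1 (ext D x) j = x j
    rw [map_one]
    simp [ext]
  mul_smul g h x := by
    funext j
    show c ((g : G) * h) (ext D x) j = c g (ext D fun j : D => c h (ext D x) j) j
    rw [ext_res hna c h.2, map_mul]
    rfl
  smul_mul g x y := by
    funext j
    show c g (ext D (x * y)) j = c g (ext D x) j * c g (ext D y) j
    rw [ext_mul, map_mul]
    rfl
  smul_one g := by
    funext j
    show c g (ext D 1) j = 1
    rw [ext_one, map_one]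
    rfl

/-- the action as a homomorphism -/
noncomputable def cD (D : Finset ι) : TD hna c D →* MulAut (D → S) :=
  @MulDistribMulAction.toMulAut _ _ _ _ (act hna c D)

theorem cD_apply (D : Finset ι) (g : TD hna c D) (x : D → S) (j : D) : cD hna c D g x j = c g (ext D x) j := rfl

theorem cD_conj {D : Finset ι} (g : TD hna c D) {y : ι → S} (h : c g = MulAut.conj y) :
    cD hna c D g = MulAut.conj fun j : D => y j := by
  ext x j
  rw [cD_apply, h]
  simp [ext, MulAut.conj_apply]

theorem prod_single {α : S → ℂ} (D : Finset ι) (i : ι) (s : S) :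
    (∏ j : D, α ((Pi.mulSingle i s : ι → S) j)) * α 1 = (if i ∈ D then α s else α 1) * ∏ _j : D, α 1 := by
  rw [Finset.prod_coe_sort D fun j => α ((Pi.mulSingle i s : ι → S) j), Finset.prod_coe_sort D fun _ => α 1]
  split_ifs with h
  · rw [← Finset.mul_prod_erase D _ h, ← Finset.mul_prod_erase D (fun _ => α 1) h, Pi.mulSingle_eq_same,
      Finset.prod_congr rfl fun j hj => by rw [Pi.mulSingle_eq_of_ne (Finset.ne_of_mem_erase hj)]]
    ring
  · rw [mul_comm, Finset.prod_congr rfl fun j hj => by rw [Pi.mulSingle_eq_of_ne (ne_of_mem_of_not_mem hj h)]]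

theorem c_single (g : G) (i : ι) (s : S) :
    c g (Pi.mulSingle i s) = Pi.mulSingle (pi hna c g i) (aut hna (c g) i s) := by
  funext j
  obtain ⟨k, rfl⟩ := (pi hna c g).surjective j
  rw [pi_spec]
  by_cases h : k = i
  · subst h
    rw [Pi.mulSingle_eq_same, Pi.mulSingle_eq_same]
  · rw [Pi.mulSingle_eq_of_ne h, Pi.mulSingle_eq_of_ne fun e => h ((pi hna c g).injective e), map_one]

/-- an element which fixes the product character stabilises `D` -/
theorem mem_TD [Finite S] {α : S → ℂ} (hα : IsIrrCharacter S α) (h1 : charDegree α ≠ 1) {D : Finset ι} {g : G}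
    (h : ∀ y : ι → S, ∏ j : D, α (c g y j) = ∏ j : D, α (y j)) : g ∈ TD hna c D := by
  intro i
  have h0 : (∏ _j : D, α 1) ≠ 0 := Finset.prod_ne_zero_iff.2 fun _ _ => isIrr_apply_one_ne_zero hα
  have key : ∀ s, (if pi hna c g i ∈ D then α (aut hna (c g) i s) else α 1) = if i ∈ D then α s else α 1 := by
    intro s
    apply mul_right_cancel₀ h0
    rw [← prod_single, ← prod_single, ← c_single, h]
  constructor
  · intro hi
    by_contra hj
    exact h1 (deg_one hα fun s => by simpa [hi, hj] using (key s).symm)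
  · intro hj
    by_contra hi
    refine h1 (deg_one hα fun s => ?_)
    obtain ⟨t, rfl⟩ := (aut hna (c g) i).surjective s
    simpa [hi, hj] using key t

end

end C

open C

/-- **a nonabelian minimal normal subgroup of order prime to `q`** -/
theorem boxC_of (hF : BoxFix) : BoxC := by
  intro p q hp hq hpq G _ _ N hNn hM hab hc hqN hI hE
  classical
  obtain ⟨S, m, -, hS, hm, ⟨e⟩⟩ := Lib.MinNormal.exists_mulEquiv_pi N hM.1 hM.2
  have hna : ¬ IsMulCommutative S := fun h => hab ⟨⟨fun a b => e.injective (by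
    rw [map_mul, map_mul]
    funext i
    exact h.is_comm.comm _ _)⟩⟩
  have : Fact (Nat.Prime 5) := ⟨by norm_num⟩
  obtain ⟨α, -, hα1, -, -, -, ⟨ψ₀, hψ₀⟩, -⟩ := S4834.result hna 5 (by norm_num)
  let c : G →* MulAut (Fin m → S) := (MulAut.congr e).toMonoidHom.comp (MulAut.conjNormal (H := N))
  have hce : ∀ (g : G) (n : N), c g (e n) = e ⟨g * n * g⁻¹, hNn.conj_mem n n.2 g⟩ := by
    intro g n
    show e (MulAut.conjNormal g (e.symm (e n))) = _
    rw [e.symm_apply_apply]
    rfl
  have hcn : ∀ n : N, c n = MulAut.conj (e n) := by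
    intro n
    refine MulEquiv.ext fun x => ?_
    obtain ⟨y, rfl⟩ := e.surjective x
    rw [hce, MulAut.conj_apply, ← map_inv, ← map_mul, ← map_mul]
    rfl
  have hpn : ∀ n ∈ N, pi hna c n = 1 := fun n hn => by
    show perm hna (c (⟨n, hn⟩ : N)) = 1
    rw [hcn, (conj_spec hna _).1]
  have hd := H669.Basic.charDegree_eq α.2
  -- `p` does not divide the degree of `α`
  have hpα : ¬ p ∣ charDegree (α : S → ℂ) := by
    obtain ⟨χ, hχ⟩ := exists_extension N hna e ⟨ψ₀, hψ₀⟩
    have h1 : charDegree (χ : G → ℂ) = charDegree (α : S → ℂ) ^ m := by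
      apply deg_of
      have h2 := hχ 1
      simp only [map_one, Pi.one_apply, Finset.prod_const, Finset.card_univ, Fintype.card_fin, OneMemClass.coe_one] at h2
      rw [h2, hd, Nat.cast_pow]
    have h2 : ¬ q ∣ charDegree (χ : G → ℂ) := by
      rw [h1]
      intro h
      apply hqN
      rw [Nat.card_congr e.toEquiv, Nat.card_fun]
      exact ((hq.out.dvd_of_dvd_pow h).trans (H669.Basic.charDegree_dvd_card α.2)).trans
        (dvd_pow_self _ (by simpa using hm.ne'))
    intro h
    exact (hE χ).2 h2 (h1 ▸ h.trans (dvd_pow_self _ hm.ne'))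
  -- the Sylow subgroups
  obtain ⟨P⟩ : Nonempty (Sylow p G) := inferInstance
  have hsur := QuotientGroup.mk'_surjective N
  obtain ⟨Qb, hPQ⟩ := exists_par hpq (hI.quot hE N hM.1) (P.mapSurjective hsur)
  obtain ⟨Q, rfl⟩ := Sylow.mapSurjective_surjective hsur q Qb
  have hcom : ∀ x ∈ (Q : Subgroup G), ∀ a ∈ (P : Subgroup G), x * a * x⁻¹ * a⁻¹ ∈ N := by
    intro x hx a ha
    have h1 := hPQ.com _ (mem_map_of_mem (QuotientGroup.mk' N) ha) _ (mem_map_of_mem (QuotientGroup.mk' N) hx)
    rw [← QuotientGroup.ker_mk' N, MonoidHom.mem_ker, map_mul, map_mul, map_mul, map_inv, map_inv, ← h1]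
    group
  -- `Q` fixes all factors
  have hQ : (Q : Subgroup G) ≤ (pi hna c).ker := by
    intro x hx
    rw [MonoidHom.mem_ker]
    ext i
    let D : Finset (Fin m) := Finset.univ.filter fun j => ∃ a ∈ (P : Subgroup G), pi hna c a i = j
    have hD : ∀ j, j ∈ D ↔ ∃ a ∈ (P : Subgroup G), pi hna c a i = j := fun j => by simp [D]
    have hPT : (P : Subgroup G) ≤ TD hna c D := by
      intro a ha j
      rw [hD, hD]
      constructor
      · rintro ⟨b, hb, rfl⟩
        exact ⟨a * b, mul_mem ha hb, by rw [map_mul]; rfl⟩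
      · rintro ⟨b, hb, h⟩
        refine ⟨a⁻¹ * b, mul_mem (inv_mem ha) hb, ?_⟩
        rw [map_mul, Equiv.Perm.mul_apply, h, map_inv]
        exact (pi hna c a).symm_apply_apply j
    have hNT : N ≤ TD hna c D := fun n hn j => by rw [hpn n hn]; rfl
    -- the character of `N` and its extension
    let r : N →* (D → S) := (MonoidHom.pi fun j : D => Pi.evalMonoidHom (fun _ : Fin m => S) j).comp e.toMonoidHom
    have hr : Function.Surjective r := fun y => ⟨e.symm (ext D y), funext fun j => by
      show e (e.symm (ext D y)) j = y j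
      rw [e.apply_symm_apply]
      simp [C.ext]⟩
    let θ : IrrCharacter N := ⟨(fun y : D → S => ∏ j, (α : S → ℂ) (y j)) ∘ r, isIrr_comp r hr (H713.isIrr_pi α.2)⟩
    have hθ : ∀ n : N, (θ : N → ℂ) n = ∏ j : D, (α : S → ℂ) (e n j) := fun _ => rfl
    obtain ⟨Ψ, hΨ, hΨx⟩ := exists_tensor (ι := D) hna (isIrr_isCharacter ψ₀.2)
    have h1 : IsCharacter (TD hna c D) (Ψ ∘ cD hna c D) := isCharacter_comp _ hΨ
    have h2 : ∀ (n : N) (h : (n : G) ∈ TD hna c D), (Ψ ∘ cD hna c D) ⟨n, h⟩ = (θ : N → ℂ) n := by
      intro n h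
      rw [Function.comp_apply, cD_conj hna c ⟨n, h⟩ (hcn n), hΨx, hθ]
      exact Finset.prod_congr rfl fun j _ => hψ₀ _
    have h3 : IsIrrCharacter (TD hna c D) (Ψ ∘ cD hna c D) := by
      refine CharactersDeep.MaxInduced.isIrr_of_comp (inclusion hNT) h1 ?_
      have : (Ψ ∘ cD hna c D) ∘ inclusion hNT = (θ : N → ℂ) := funext fun n => h2 n (hNT n.2)
      rw [this]
      exact θ.2
    have hst : Stb N θ (TD hna c D) := by
      intro g
      constructor
      · intro hg n
        rw [← h2 _ (hNT (hNn.conj_mem n n.2 g)), ← h2 n (hNT n.2)]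
        exact isCharacter_isClassFunction h1 ⟨n, hNT n.2⟩ ⟨g, hg⟩
      · intro hg
        refine mem_TD hna c α.2 hα1 fun y => ?_
        obtain ⟨n, rfl⟩ := e.surjective y
        rw [hce]
        exact hg n
    have hdeg : ¬ p ∣ charDegree (θ : N → ℂ) := by
      have h4 : charDegree (θ : N → ℂ) = charDegree (α : S → ℂ) ^ D.card := by
        apply deg_of
        rw [hθ]
        simp only [map_one, Pi.one_apply, Finset.prod_const, Finset.card_univ, Fintype.card_coe]
        rw [hd, Nat.cast_pow]
      rw [h4]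
      exact fun h => hpα (hp.out.dvd_of_dvd_pow h)
    have hxq : El q x := (IsPGroup.iff_orderOf.1 Q.2 ⟨x, hx⟩).imp fun k hk => by rw [← hk, orderOf_mk]
    have hxT := hF p q hpq G N hM.1 hI hE P θ _ hst hPT hdeg ⟨⟨_, h3⟩, h2⟩ x hxq (hcom x hx)
    -- a fixed point of `x` in the orbit
    let : MulAction G (Fin m) := MulAction.compHom _ (pi hna c)
    have hsm : ∀ (g : G) (j : Fin m), g • j = pi hna c g j := fun _ _ => rfl
    have hcard : ¬ q ∣ Nat.card D := by
      obtain ⟨k, hk⟩ := P.2.card_orbit i
      have h4 : Nat.card D = Nat.card (MulAction.orbit (P : Subgroup G) i) :=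
        Nat.card_congr (Equiv.subtypeEquivRight fun j => (hD j).trans
          ⟨fun ⟨a, ha, h⟩ => ⟨⟨a, ha⟩, h⟩, fun ⟨a, h⟩ => ⟨a, a.2, h⟩⟩)
      rw [h4, hk]
      exact fun h => hpq ((Nat.prime_dvd_prime_iff_eq hq.out hp.out).1 (hq.out.dvd_of_dvd_pow h)).symm
    let A : SubMulAction (zpowers x) (Fin m) :=
      { carrier := D
        smul_mem' := fun k j hj => ((zpowers_le.2 hxT k.2) j).1 hj }
    have hzq : IsPGroup q (zpowers x) := Q.2.to_le (zpowers_le.2 hx)
    obtain ⟨j, hj⟩ := hzq.nonempty_fixed_point_of_prime_not_dvd_card A hcard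
    have hxj : pi hna c x j.1 = j.1 := congrArg Subtype.val (hj ⟨x, mem_zpowers x⟩)
    obtain ⟨a, ha, haj⟩ := (hD j.1).1 j.2
    have h5 : pi hna c x * pi hna c a⁻¹ = pi hna c a⁻¹ * pi hna c x := by
      have h6 := hpn _ (hcom x hx a⁻¹ (inv_mem ha))
      rw [map_mul, map_mul, map_mul, map_inv _ x, map_inv _ a⁻¹, mul_inv_eq_one, mul_inv_eq_iff_eq_mul] at h6
      exact h6
    have h7 : pi hna c a⁻¹ j.1 = i := by
      rw [← haj, map_inv]
      exact (pi hna c a).symm_apply_apply i
    congr 1
    rw [← h7, ← Equiv.Perm.mul_apply, h5, Equiv.Perm.mul_apply, hxj]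
    rfl
  -- the series
  refine Lib.PSolvable.IsPSolvable_of_extension q (pi hna c).ker ?_ ?_
  · let f : (pi hna c).ker →* (Fin m → Out S) :=
      { toFun := fun g i => QuotientGroup.mk (aut hna (c g) i)
        map_one' := funext fun i => by
          show (QuotientGroup.mk (aut hna (c 1) i) : Out S) = 1
          rw [map_one, (one_spec hna).2]
          rfl
        map_mul' := fun g h => funext fun i => by
          show (QuotientGroup.mk (aut hna (c ((g : G) * h)) i) : Out S) =
            (QuotientGroup.mk (aut hna (c g) i) : Out S) * (QuotientGroup.mk (aut hna (c h) i) : Out S)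
          have h1 : perm hna (c h) = 1 := h.2
          rw [map_mul, (mul_spec hna _ _).2, h1]
          rfl }
    have hk : ∀ g ∈ f.ker, (g : G) ∈ N := by
      intro g hg
      have h1 : ∀ i, ∃ s : S, MulAut.conj s = aut hna (c g) i := fun i =>
        (QuotientGroup.eq_one_iff _).1 (congrFun (MonoidHom.mem_ker.1 hg) i)
      choose s hs using h1
      have h2 : c g = c (e.symm s) := by
        rw [hcn, e.apply_symm_apply]
        ext y i
        have h3 := pi_spec hna c g y i
        rw [show pi hna c g = 1 from g.2, ← hs] at h3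
        exact congrArg Subtype.val h3
      have h3 : ((e.symm s : N) : G)⁻¹ * g ∈ centralizer (N : Set G) := by
        refine mem_centralizer_iff.2 fun n hn => ?_
        have h4 := hce g ⟨n, hn⟩
        rw [h2, hce] at h4
        have h5 : ((e.symm s : N) : G) * n * ((e.symm s : N) : G)⁻¹ = g * n * (g : G)⁻¹ :=
          congrArg Subtype.val (e.injective h4)
        calc n * (((e.symm s : N) : G)⁻¹ * g)
            = ((e.symm s : N) : G)⁻¹ * (((e.symm s : N) : G) * n * ((e.symm s : N) : G)⁻¹) * g := by group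
          _ = ((e.symm s : N) : G)⁻¹ * g * n := by rw [h5]; group
      rw [hc, mem_bot, inv_mul_eq_one] at h3
      exact h3 ▸ (e.symm s).2
    refine psolv_up hq.out f.ker (fun h => hqN (h.trans ?_)) ?_
    · exact card_dvd_of_injective (((pi hna c).ker.subtype.comp f.ker.subtype).codRestrict N fun g => hk g g.2)
        fun a b h => Subtype.ext (Subtype.ext (congrArg Subtype.val h :))
    · have := S5758.result (G := S)
      have : Group.IsSolvable (Fin m → Out S) := solv_pi
      have := Group.isSolvable_of_isSolvable_injective (QuotientGroup.kerLift_injective f)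
      exact Lib.PSolvable.IsPSolvable_of_solvable q
  · have := QuotientGroup.subsingleton_quotient_top (G := G ⧸ (pi hna c).ker)
    refine psolv_up hq.out ⊤ ?_ (Lib.PSolvable.IsPSolvable_of_solvable q)
    rw [card_top]
    exact fun h => Q.not_dvd_index (h.trans (index_dvd_of_le hQ))

end Cfsg.Agent.PQ.EL
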