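import Cfsg.Agent.PQ.EL.Defs
import Cfsg.Agent.S0856
import Cfsg.Agent.OddOrderCharacters.PF9.CliffGen
import Cfsg.Agent.CharactersDeep.NormalInd
import Cfsg.Agent.Blocks.Basic

/-!
# S4982: a character which extends to its stabiliser is fixed by the partner of `P` (helper88)
-/

set_option autoImplicit false
set_option linter.unusedSectionVars false

namespace Cfsg.Agent.PQ.EL

open Cfsg Cfsg.Agent.LV Cfsg.Agent.PQ.LE Subgroup Cfsg.Agent.Characters.Core
open Cfsg.Agent.Blocks.Basic (charDegree_of_eq irr_one_eq_charDegree)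
open Cfsg.Agent.OddOrderCharacters.PF9

namespace Fix

/-- Gallagher: an irreducible character trivial on `N` times a character with irreducible restriction -/
theorem irr_mul {T : Type} [Group T] [Finite T] (N : Subgroup T) [N.Normal] {ψ β : T → ℂ} (hψ : IsIrrCharacter T ψ)
    (hN : IsIrrCharacter N fun n => ψ n) (hβ : IsIrrCharacter T β) (h : ∀ n ∈ N, β n = β 1) : IsIrrCharacter T (β * ψ) := by
  have := Fintype.ofFinite T
  have := Fintype.ofFinite N
  have hB := S0856.result N 1 (fun n => ψ n) isIrr_one hN (fun _ _ => rfl) (fun g n => isIrr_isClassFunction hψ _ _)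
    (by rw [one_mul]; exact hN) ψ hψ fun _ => rfl
  refine (hB.mapsTo ⟨hβ, ?_⟩).1
  rw [CharactersDeep.NormalInd.classInner_indFun N _ _ (isIrr_isClassFunction hβ), ← classInner_conj_symm, map_ne_zero,
    show (fun n : N => β n) = β 1 • (1 : N → ℂ) from funext fun n => by rw [h n n.2, Pi.smul_apply, Pi.one_apply, smul_eq_mul, mul_one],
    classInner_smul_left, (isIrr_iff_classInner_self (isIrr_isCharacter isIrr_one)).1 isIrr_one, mul_one]
  exact isIrr_apply_one_ne_zero hβ

variable {G : Type} [Group G] [Finite G] {N T : Subgroup G} [N.Normal]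

theorem le_of_stb {θ : IrrCharacter N} (hT : Stb N θ T) : N ≤ T := fun n hn =>
  (hT n).2 fun m => isIrr_isClassFunction θ.2 m ⟨n, hn⟩

/-- Clifford and Gallagher: the degrees over a character which extends to its stabiliser -/
theorem exists_deg {θ : IrrCharacter N} (hT : Stb N θ T) {ψ : IrrCharacter T}
    (hψ : ∀ (n : N) (h : (n : G) ∈ T), (ψ : T → ℂ) ⟨n, h⟩ = (θ : N → ℂ) n) {β : T → ℂ} (hβ : IsIrrCharacter T β)
    (h : ∀ n : T, (n : G) ∈ N → β n = β 1) :
    ∃ χ : IrrCharacter G, charDegree (χ : G → ℂ) = T.index * (charDegree β * charDegree (θ : N → ℂ)) := by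
  have := Fintype.ofFinite G
  have := Fintype.ofFinite T
  have := Fintype.ofFinite N
  have hNT := le_of_stb hT
  have h1 : IsIrrCharacter (N.subgroupOf T) fun n => (ψ : T → ℂ) n := by
    have h2 := isIrr_comp (subgroupOfEquivOfLe hNT).toMonoidHom (subgroupOfEquivOfLe hNT).surjective θ.2
    convert h2 using 1
    exact funext fun n => hψ ⟨_, n.2⟩ n.1.2
  have h2 := irr_mul (N.subgroupOf T) ψ.2 h1 hβ h
  have h3 := CliffGen.irr_ind θ.2 (fun g => (hT g).trans funext_iff.symm) hNT h2 (by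
    rw [show CliffGen.resTo hNT (β * (ψ : T → ℂ)) = β 1 • (θ : N → ℂ) from funext fun n => by
        rw [CliffGen.resTo_apply, Pi.mul_apply, h _ n.2, hψ, Pi.smul_apply, smul_eq_mul],
      classInner_smul_left, (isIrr_iff_classInner_self (isIrr_isCharacter θ.2)).1 θ.2, mul_one]
    exact isIrr_apply_one_ne_zero hβ)
  refine ⟨⟨_, h3⟩, charDegree_of_eq ?_⟩
  change indFun T _ 1 = _
  rw [CharactersDeep.NormalInd.indFun_one, Pi.mul_apply, show (ψ : T → ℂ) 1 = (θ : N → ℂ) 1 from hψ 1 T.one_mem,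
    irr_one_eq_charDegree hβ, irr_one_eq_charDegree θ.2, Nat.cast_mul, Nat.cast_mul]

end Fix

theorem boxFix : BoxFix := by
  intro p q hp hq hpq G _ _ N _ hN hI hE P θ T hT hP hθ ⟨ψ, hψ⟩ x hx hc
  have hNT := Fix.le_of_stb hT
  have k1 : ¬ p ∣ T.index := fun h => P.not_dvd_index (h.trans (index_dvd_of_le hP))
  have k2 : ¬ q ∣ T.index ∧ ¬ q ∣ charDegree (θ : N → ℂ) := by
    obtain ⟨χ, hχ⟩ := Fix.exists_deg hT hψ isIrr_one fun _ _ => rfl
    rw [charDegree_of_eq (χ := (1 : T → ℂ)) (n := 1) (by simp), one_mul] at hχ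
    have h1 := (hE χ).1 (by rw [hχ]; exact fun h => (hp.out.dvd_mul.1 h).elim k1 hθ)
    rw [hχ] at h1
    exact ⟨fun h => h1 (h.mul_right _), fun h => h1 (h.mul_left _)⟩
  let π := QuotientGroup.mk' N
  have hπ : Function.Surjective π := QuotientGroup.mk'_surjective N
  let f : T →* T.map π := π.subgroupMap T
  have hf : Function.Surjective f := π.subgroupMap_surjective T
  have k3 : EE p q (T.map π) := fun β => by
    obtain ⟨χ, hχ⟩ := Fix.exists_deg hT hψ (isIrr_comp f hf β.2) fun n hn => by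
      rw [Function.comp_apply, Function.comp_apply, map_one,
        show f n = 1 from Subtype.ext ((QuotientGroup.eq_one_iff (n : G)).2 hn)]
    rw [show charDegree ((β : T.map π → ℂ) ∘ f) = charDegree (β : T.map π → ℂ) by
      unfold charDegree
      rw [Function.comp_apply, map_one]] at hχ
    have h1 := hE χ
    rw [hχ, hp.out.dvd_mul, hp.out.dvd_mul, hq.out.dvd_mul, hq.out.dvd_mul] at h1
    have := k2.1
    have := k2.2
    tauto
  have k4 := loc_com hpq (hI _ ((Nat.card_le_card_of_injective _ (T.map π).subtype_injective).trans_lt (card_quot_lt hN)) k3)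
  obtain ⟨Q, hQ⟩ := exists_par hpq (hI.quot hE N hN) (P.mapSurjective hπ)
  have k5 : ((P.mapSurjective hπ : Sylow p (G ⧸ N)) : Subgroup (G ⧸ N)) ≤ T.map π := map_mono hP
  obtain ⟨R, hR⟩ := Red.com_given hp.out k4 ((P.mapSurjective hπ).subtype k5)
  have k6 : IsPGroup q ((R : Subgroup (T.map π)).map (T.map π).subtype) := R.2.map _
  have k7 : ¬ q ∣ ((R : Subgroup (T.map π)).map (T.map π).subtype).index := by
    rw [index_map_subtype, hq.out.dvd_mul]
    exact fun h => h.elim R.not_dvd_index fun h => k2.1 (h.trans (index_map_dvd _ hπ))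
  have k8 : (R : Subgroup (T.map π)).map (T.map π).subtype ≤ Q := fun y hy => by
    refine hQ.mem y (fun a ha => ?_) (Red.order_of_mem hq.out k6 hy)
    obtain ⟨y, hy, rfl⟩ := hy
    exact congrArg Subtype.val (hR ⟨a, k5 ha⟩ ha y hy)
  have k9 : π x ∈ (Q : Subgroup (G ⧸ N)) := by
    refine hQ.mem _ ?_ ?_
    · rintro _ ⟨a, ha, rfl⟩
      have h1 : π (x * a * x⁻¹ * a⁻¹) = 1 := (QuotientGroup.eq_one_iff _).2 (hc a ha)
      rw [map_mul, map_mul, map_mul, map_inv, map_inv, mul_inv_eq_one, mul_inv_eq_iff_eq_mul] at h1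
      exact h1.symm
    · obtain ⟨k, hk⟩ := hx
      obtain ⟨j, -, hj⟩ := (Nat.dvd_prime_pow hq.out).1 (hk ▸ orderOf_map_dvd π x)
      exact ⟨j, hj⟩
  rw [(k6.toSylow k7).is_maximal' Q.2 k8] at k9
  obtain ⟨t, ht, e⟩ := map_subtype_le _ k9
  have h1 : t⁻¹ * x ∈ T := hNT (QuotientGroup.eq.1 e)
  simpa using mul_mem ht h1

end Cfsg.Agent.PQ.EL
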