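import Cfsg.Agent.PQ.EL.Defs
import Cfsg.Agent.H586.GenAut
import Cfsg.Agent.OddOrderCharacters.PF9.CliffGen
import Cfsg.Agent.Characters.Linear

/-!
# S4982: an abelian normal subgroup of order prime to `p q` (helper17)
-/

set_option autoImplicit false

namespace Cfsg.Agent.PQ.EL

open Cfsg Cfsg.Agent.LV Cfsg.Agent.PQ.LE Subgroup

namespace A

/-- a point which is not fixed and whose stabiliser has a cyclic quotient -/
theorem exists_cyc {Q : Type} [Group Q] [Finite Q] (hc : ∀ a b : Q, a * b = b * a) (n : ℕ) :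
    ∀ (W : Type) [Group W] [Finite W] [MulDistribMulAction Q W], Nat.card W = n → (Nat.card Q).Coprime (Nat.card W) →
      (∃ (y : Q) (w : W), y • w ≠ w) →
      ∃ (w : W) (y : Q), (∃ x : Q, x • w ≠ w) ∧ ∀ x : Q, ∃ k : ℤ, (x * (y ^ k)⁻¹) • w = w := by
  induction n using Nat.strong_induction_on with
  | _ n ih =>
  rintro W _ _ _ hn hcop ⟨y, w, hw⟩
  let φ : Q →* MulAut W := MulDistribMulAction.toMulAut Q W
  by_cases hE : IsCyclic φ.range
  · obtain ⟨⟨_, g, rfl⟩, hg⟩ := hE.exists_generator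
    refine ⟨w, g, ⟨y, hw⟩, fun x => ?_⟩
    obtain ⟨k, hk⟩ := hg ⟨φ x, x, rfl⟩
    have h1 : φ g ^ k = φ x := congrArg Subtype.val hk
    refine ⟨k, ?_⟩
    show φ (x * (g ^ k)⁻¹) w = w
    rw [map_mul, map_inv, map_zpow, h1, mul_inv_cancel, MulAut.one_apply]
  have : IsMulCommutative φ.range := ⟨⟨by
    rintro ⟨_, a, rfl⟩ ⟨_, b, rfl⟩
    exact Subtype.ext (by show φ a * φ b = φ b * φ a; rw [← map_mul, ← map_mul, hc])⟩⟩
  have h1 := H586.GenAut.gen φ.range hE ⊤ (fun _ _ _ _ => mem_top _) (by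
    rw [card_top]
    exact hcop.coprime_dvd_left (card_range_dvd φ))
  obtain ⟨a, v, b, ha, h2, h3⟩ : ∃ (a : Q) (v : W) (b : Q), φ a ≠ 1 ∧ a • v = v ∧ b • v ≠ v := by
    by_contra! h
    have h2 : closure {x | x ∈ (⊤ : Subgroup W) ∧ ∃ a ∈ φ.range, a ≠ 1 ∧ a x = x} ≤ (φ y).toMonoidHom.eqLocus (MonoidHom.id W) := by
      rw [closure_le]
      rintro x ⟨-, _, ⟨a, rfl⟩, h2, h3⟩
      exact h a x y h2 h3
    exact hw (h2 (h1 (mem_top w)))
  let V : Subgroup W := (φ a).toMonoidHom.eqLocus (MonoidHom.id W)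
  have hV : ∀ x, x ∈ V ↔ a • x = x := fun _ => Iff.rfl
  let _ : MulDistribMulAction Q V :=
    { smul := fun x v => ⟨x • v.1, (hV _).2 (by rw [← mul_smul, hc, mul_smul, (hV _).1 v.2])⟩
      one_smul := fun v => Subtype.ext (one_smul Q v.1)
      mul_smul := fun x z v => Subtype.ext (mul_smul x z v.1)
      smul_mul := fun x u v => Subtype.ext (smul_mul' x u.1 v.1)
      smul_one := fun x => Subtype.ext (smul_one x) }
  have h4 : V ≠ ⊤ := fun h => ha (MulEquiv.ext fun x => (hV x).1 (h ▸ mem_top x))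
  obtain ⟨u, z, ⟨x, h5⟩, h6⟩ := ih _ (hn ▸ lt_of_le_of_ne (card_le_card_group V) fun h => h4 (eq_top_of_card_eq V h)) V rfl
    (hcop.coprime_dvd_right (card_subgroup_dvd_card V)) ⟨b, ⟨v, h2⟩, fun h => h3 (congrArg Subtype.val h)⟩
  refine ⟨u, z, ⟨x, fun h => h5 (Subtype.ext h)⟩, fun t => ?_⟩
  obtain ⟨k, hk⟩ := h6 t
  exact ⟨k, congrArg Subtype.val hk⟩

variable {p q : ℕ} {G : Type} [Group G] [Finite G]

omit [Finite G] in
theorem one_of_el {N : Subgroup G} (hq : ¬ q ∣ Nat.card N) {x : G} (hx : x ∈ N) (h : El q x) : x = 1 := by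
  obtain ⟨k, hk⟩ := h
  rcases k with _ | k
  · rwa [pow_zero, orderOf_eq_one_iff] at hk
  · exact absurd ((dvd_pow_self q k.succ_ne_zero).trans (hk ▸ orderOf_dvd_natCard N hx)) hq

omit [Finite G] in
theorem el_of_pow (hq : q.Prime) {x : G} {k : ℕ} (h : x ^ q ^ k = 1) : El q x :=
  let ⟨j, _, hj⟩ := (Nat.dvd_prime_pow hq).1 (orderOf_dvd_of_pow_eq_one h)
  ⟨j, hj⟩

/-- the linear character -/
theorem exists_lin (hp : p.Prime) (hq : q.Prime) (N : Subgroup G) [hN : N.Normal] (hab : IsMulCommutative N)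
    (hpN : ¬ p ∣ Nat.card N) (hqN : ¬ q ∣ Nat.card N) {P Q : Subgroup G} (hP : IsPGroup p P) (hQ : IsPGroup q Q)
    (hc : ∀ a ∈ P, ∀ b ∈ Q, a * b = b * a) (hQc : ∀ a ∈ Q, ∀ b ∈ Q, a * b = b * a) {m : G} (hm : m ∈ N)
    (h1 : ∀ a ∈ P, a * m = m * a) {y : G} (hy : y ∈ Q) (h2 : y * m ≠ m * y) :
    ∃ l : N →* ℂˣ, (∀ a ∈ P, ∀ n, l (MulAut.conjNormal a n) = l n) ∧ (∃ x ∈ Q, ¬ ∀ n, l (MulAut.conjNormal x n) = l n) ∧
      ∃ z ∈ Q, ∀ x ∈ Q, ∃ k : ℤ, ∀ n, l (MulAut.conjNormal (x * (z ^ k)⁻¹)⁻¹ n) = l n := by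
  have := Fact.mk hp
  have := Fact.mk hq
  have := Fintype.ofFinite P
  let W : Subgroup (N →* ℂˣ) :=
    { carrier := {l | ∀ a ∈ P, ∀ n, l (MulAut.conjNormal a n) = l n}
      one_mem' := fun _ _ _ => rfl
      mul_mem' := fun {l k} hl hk a ha n => by rw [MonoidHom.mul_apply, MonoidHom.mul_apply, hl a ha, hk a ha]
      inv_mem' := fun {l} hl a ha n => by rw [MonoidHom.inv_apply, MonoidHom.inv_apply, hl a ha] }
  have hcard := Characters.Linear.card_hom_eq_index_commutator N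
  have : Finite (N →* ℂˣ) := Nat.finite_of_card_ne_zero (by rw [hcard]; exact index_ne_zero_of_finite)
  let _ : MulDistribMulAction Q W :=
    { smul := fun x l => ⟨l.1.comp (MulAut.conjNormal (x : G)⁻¹ : MulAut N).toMonoidHom, fun a ha n => by
        show l.1 (MulAut.conjNormal (x : G)⁻¹ (MulAut.conjNormal a n)) = l.1 (MulAut.conjNormal (x : G)⁻¹ n)
        rw [← MulAut.mul_apply, ← map_mul, ← hc a ha _ (inv_mem x.2), map_mul, MulAut.mul_apply, l.2 a ha]⟩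
      one_smul := fun l => Subtype.ext (MonoidHom.ext fun n => by
        show l.1 (MulAut.conjNormal (1 : G)⁻¹ n) = l.1 n
        rw [inv_one, map_one, MulAut.one_apply])
      mul_smul := fun x z l => Subtype.ext (MonoidHom.ext fun n => by
        show l.1 (MulAut.conjNormal ((x : G) * z)⁻¹ n) = l.1 (MulAut.conjNormal (z : G)⁻¹ (MulAut.conjNormal (x : G)⁻¹ n))
        rw [mul_inv_rev, map_mul, MulAut.mul_apply])
      smul_mul := fun _ _ _ => rfl
      smul_one := fun _ => rfl }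
  obtain ⟨j, hj⟩ := IsPGroup.iff_card.1 hQ
  obtain ⟨i, hi⟩ := IsPGroup.iff_card.1 hP
  obtain ⟨l, z, ⟨x, h3⟩, h4⟩ := exists_cyc (Q := Q) (fun a b => Subtype.ext (hQc a a.2 b b.2)) _ W rfl (by
      rw [hj]
      refine Nat.Coprime.pow_left _ (hq.coprime_iff_not_dvd.2 fun h => hqN (h.trans ((card_subgroup_dvd_card W).trans ?_)))
      rw [hcard]
      exact index_dvd_card _) (by
      let _ : CommGroup N := { (inferInstance : Group N) with mul_comm := hab.is_comm.comm }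
      have h3 : MulAut.conjNormal y (⟨m, hm⟩ : N) * (⟨m, hm⟩ : N)⁻¹ ≠ 1 := fun h => h2 (by
        have h4 : y * m * y⁻¹ = m := congrArg Subtype.val (mul_inv_eq_one.1 h)
        exact mul_inv_eq_iff_eq_mul.1 h4)
      obtain ⟨μ, hμ⟩ := CommGroup.exists_apply_ne_one_of_hasEnoughRootsOfUnity N ℂ h3
      refine ⟨(⟨y, hy⟩ : Q)⁻¹, ⟨∏ a : P, μ.comp (MulAut.conjNormal (a : G) : MulAut N).toMonoidHom, fun b hb n => ?_⟩,
        fun h => hμ ?_⟩
      · rw [MonoidHom.finsetProd_apply, MonoidHom.finsetProd_apply]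
        refine Fintype.prod_equiv (Equiv.mulRight ⟨b, hb⟩) _ _ fun a => ?_
        show μ (MulAut.conjNormal (a : G) (MulAut.conjNormal b n)) = μ (MulAut.conjNormal ((a : G) * b) n)
        rw [map_mul, MulAut.mul_apply]
      · have h4 := DFunLike.congr_fun (congrArg Subtype.val h) ⟨m, hm⟩
        change (∏ a : P, μ.comp (MulAut.conjNormal (a : G) : MulAut N).toMonoidHom) (MulAut.conjNormal y⁻¹⁻¹ ⟨m, hm⟩) =
          (∏ a : P, μ.comp (MulAut.conjNormal (a : G) : MulAut N).toMonoidHom) ⟨m, hm⟩ at h4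
        rw [inv_inv, ← mul_inv_eq_one, ← map_inv, ← map_mul, MonoidHom.finsetProd_apply] at h4
        have h5 : ∀ a : P, (μ.comp (MulAut.conjNormal (a : G) : MulAut N).toMonoidHom)
            (MulAut.conjNormal y (⟨m, hm⟩ : N) * (⟨m, hm⟩ : N)⁻¹) = μ (MulAut.conjNormal y (⟨m, hm⟩ : N) * (⟨m, hm⟩ : N)⁻¹) := by
          intro a
          refine congrArg μ (Subtype.ext ?_)
          have h6 : Commute (a : G) (y * m * y⁻¹ * m⁻¹) :=
            (((show Commute (a : G) y from hc a a.2 y hy).mul_right (h1 a a.2)).mul_right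
              (Commute.inv_right (hc a a.2 y hy))).mul_right (Commute.inv_right (h1 a a.2))
          exact mul_inv_eq_iff_eq_mul.2 h6
        rw [Finset.prod_congr rfl fun a _ => h5 a, Finset.prod_const, Finset.card_univ, ← Nat.card_eq_fintype_card, hi] at h4
        have h6 := pow_gcd_eq_one.2 ⟨h4, show μ _ ^ Nat.card N = 1 by rw [← map_pow, pow_card_eq_one', map_one]⟩
        rwa [(Nat.Coprime.pow_left i (hp.coprime_iff_not_dvd.2 hpN)).gcd_eq_one, pow_one] at h6)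
  refine ⟨l.1, l.2, ⟨x⁻¹, inv_mem x.2, fun h => h3 (Subtype.ext (MonoidHom.ext h))⟩, z, z.2, fun t ht => ?_⟩
  obtain ⟨k, hk⟩ := h4 ⟨t, ht⟩
  exact ⟨k, fun n => DFunLike.congr_fun (congrArg Subtype.val hk) n⟩

end A

theorem boxA_of (hS : BoxStar) (h0 : BoxT0) (hH : BoxHy0) (hY : BoxY) : BoxA := by
  intro p q hp hq h2 hqp G _ _ N _ hab hpN hqN hL hE
  have hpq : p ≠ q := hqp.ne'
  obtain ⟨P, Q, hc⟩ := Red.com_glue hp.out hq.out hpq N (loc_com hpq hL) (Red.com_of_not_dvd hp.out hq.out hqN)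
    (Red.inn2_of_not_dvd hp.out hpN) (Red.inn2_of_not_dvd hq.out hqN)
  let f := QuotientGroup.mk' N
  have hf : Function.Surjective f := QuotientGroup.mk'_surjective N
  obtain ⟨Q0, hpar⟩ := exists_par hpq hL (P.mapSurjective hf)
  have hmem : ∀ x : G, (∀ a ∈ (P : Subgroup G), a * x = x * a) → El q x → f x ∈ (Q0 : Subgroup (G ⧸ N)) := by
    rintro x h1 ⟨k, hk⟩
    refine hpar.mem _ ?_ ?_
    · rintro _ ⟨a, ha, rfl⟩
      rw [← map_mul, ← map_mul, h1 a ha]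
    · obtain ⟨j, -, hj⟩ := (Nat.dvd_prime_pow hq.out).1 (hk ▸ orderOf_map_dvd f x)
      exact ⟨j, hj⟩
  have hQ : (Q0 : Subgroup (G ⧸ N)) = (Q : Subgroup G).map f := by
    refine (Q.mapSurjective hf).is_maximal' Q0.2 ?_
    rintro _ ⟨x, hx, rfl⟩
    exact hmem x (fun a ha => hc a ha x hx) (Red.order_of_mem hq.out Q.2 hx)
  have hker : ∀ a b : G, f a = f b → a⁻¹ * b ∈ N := fun a b h => QuotientGroup.eq.1 h
  have hQc : ∀ a ∈ (Q : Subgroup G), ∀ b ∈ (Q : Subgroup G), a * b = b * a := by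
    intro a ha b hb
    refine inv_mul_eq_one.1 (A.one_of_el hqN (hker _ _ ?_)
      (Red.order_of_mem hq.out Q.2 (mul_mem (inv_mem (mul_mem ha hb)) (mul_mem hb ha))))
    rw [map_mul, map_mul]
    exact hpar.abQ _ (hQ ▸ mem_map_of_mem f ha) _ (hQ ▸ mem_map_of_mem f hb)
  by_cases h1 : ∀ m ∈ N, (∀ a ∈ (P : Subgroup G), a * m = m * a) → ∀ y ∈ (Q : Subgroup G), y * m = m * y
  · refine hS p q hpq G P Q hQc hc (fun x h3 h4 => ?_) fun χ h => (hE χ).2 h
    obtain ⟨y, hy, h5⟩ : f x ∈ (Q : Subgroup G).map f := hQ ▸ hmem x h3 h4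
    have h6 : Commute y (y⁻¹ * x) := h1 _ (hker _ _ h5)
      (fun a ha => (Commute.inv_right (hc a ha y hy)).mul_right (h3 a ha)) y hy
    have h7 : Commute y⁻¹ x := by
      have h8 := (Commute.refl y).mul_right h6
      rw [mul_inv_cancel_left] at h8
      exact h8.inv_left
    obtain ⟨j, hj⟩ := Red.order_of_mem hq.out Q.2 (inv_mem hy)
    obtain ⟨k, hk⟩ := h4
    have h8 := A.one_of_el hqN (hker _ _ h5) (A.el_of_pow hq.out (k := j + k) (by
      rw [h7.mul_pow, pow_add, pow_mul, ← hj, pow_orderOf_eq_one, one_pow, one_mul, mul_comm, pow_mul, ← hk,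
        pow_orderOf_eq_one, one_pow]))
    exact inv_mul_eq_one.1 h8 ▸ hy
  exfalso
  push Not at h1
  obtain ⟨m, hm, h3, y, hy, h4⟩ := h1
  obtain ⟨l, l1, ⟨x, hx, l2⟩, z, hz, l3⟩ := A.exists_lin hp.out hq.out N hab hpN hqN P.2 Q.2 hc hQc hm h3 hy h4
  have := Fintype.ofFinite N
  have hl := Characters.Linear.isIrrCharacter_hom l
  obtain ⟨T, hT⟩ : ∃ T : Subgroup G, Stb N (fun n => (l n : ℂ)) T :=
    ⟨OddOrderCharacters.PF9.CliffGen.inertia N fun n => (l n : ℂ), fun _ => OddOrderCharacters.PF9.CliffGen.mem_inertia'⟩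
  have hT' : ∀ g, g ∈ T ↔ ∀ n, l (MulAut.conjNormal g n) = l n := fun g =>
    (hT g).trans (forall_congr' fun _ => Units.val_inj)
  have hNT : N ≤ T := fun g hg => (hT g).2 fun n => Characters.Core.isIrr_isClassFunction hl n ⟨g, hg⟩
  have hPT : (P : Subgroup G) ≤ T := fun a ha => (hT' a).2 (l1 a ha)
  obtain ⟨h5, h6⟩ := h0 p q G N hpN hqN ⟨_, hl⟩ T hT (fun h => P.not_dvd_index (h.trans (index_dvd_of_le hPT)))
    fun χ _ => hE χ
  have e : T ⧸ N.subgroupOf T ≃* T.map f :=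
    (QuotientGroup.quotientMulEquivOfEq (show N.subgroupOf T = (f.comp T.subtype).ker by
      ext t
      exact (QuotientGroup.eq_one_iff (t : G)).symm)).trans ((QuotientGroup.quotientKerEquivRange _).trans
        (MulEquiv.subgroupCongr (by rw [MonoidHom.range_comp, range_subtype])))
  have hPX : ((P.mapSurjective hf : Sylow p (G ⧸ N)) : Subgroup (G ⧸ N)) ≤ T.map f := map_mono hPT
  have h7 := hY p q h2 hqp _ _ _ (h6.equiv e) (hH p q h2 hqp (G ⧸ N) (P.mapSurjective hf) Q0 (T.map f) hL hpar.com hPX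
    ⟨f z, hQ ▸ mem_map_of_mem f hz, fun w hw => by
      obtain ⟨t, ht, rfl⟩ : w ∈ (Q : Subgroup G).map f := hQ ▸ hw
      obtain ⟨k, hk⟩ := l3 t ht
      rw [← inv_mul_cancel_right t (z ^ k), map_mul, map_zpow]
      exact mul_mem (mem_sup_left ⟨hQ ▸ mem_map_of_mem f (mul_mem ht (inv_mem (zpow_mem hz k))),
        mem_map_of_mem f (inv_mem_iff.1 ((hT' _).2 hk))⟩) (mem_sup_right ⟨k, rfl⟩)⟩)
  obtain ⟨Q', h8⟩ := Red.com_given hp.out h7 ((P.mapSurjective hf).subtype hPX)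
  have h9 : (Q' : Subgroup (T.map f)).map (T.map f).subtype ≤ Q0 := by
    rintro _ ⟨w, hw, rfl⟩
    refine hpar.mem _ (fun a ha => congrArg Subtype.val (h8 ⟨a, hPX ha⟩ ha w hw)) ?_
    obtain ⟨k, hk⟩ := Red.order_of_mem hq.out Q'.2 hw
    exact ⟨k, by rw [← hk]; exact orderOf_coe w⟩
  have h10 : ¬ q ∣ ((Q' : Subgroup (T.map f)).map (T.map f).subtype).index := by
    rw [index_map_subtype, hq.out.dvd_mul, not_or]
    exact ⟨Q'.not_dvd_index, fun h => h5 (h.trans (index_map_dvd T hf))⟩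
  have h11 : (Q0 : Subgroup (G ⧸ N)) = _ := ((Q'.2.map (T.map f).subtype).toSylow h10).is_maximal' Q0.2 h9
  have h12 : f x ∈ T.map f := map_subtype_le _ (h11.le (hQ ▸ mem_map_of_mem f hx))
  obtain ⟨t, ht, h13⟩ := h12
  have h14 := mul_mem ht (hNT (hker _ _ h13))
  rw [mul_inv_cancel_left] at h14
  exact l2 ((hT' x).1 h14)

end Cfsg.Agent.PQ.EL
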