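import Cfsg.Agent.PQ.EL.Defs
import Cfsg.Agent.H627.BR.Grp
import Cfsg.Agent.Lib.Cores
import Cfsg.Agent.S0571

/-!
# S4982, the automisers in the simple sections (helper56)

* `AmbL.map_norm`, `AmbL.loc_surj`, `AmbL.cy_map` : quotients;
* `AmbL.ac_sec` : the automiser of an abelian Sylow subgroup in a section;
* `AmbL.loc_simple` : a simple normal subgroup;
* `boxAmb_of`.
-/

set_option autoImplicit false
set_option linter.unusedSectionVars false

namespace Cfsg.Agent.PQ.EL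

open Cfsg Cfsg.Agent.LV Cfsg.Agent.PQ.LE Subgroup

namespace AmbL

theorem card_dvd {B X W : Type*} [Group B] [Group X] [Group W] (ψ : B →* X) (ι : B →* W) (hs : Function.Surjective ψ)
    (hk : ι.ker ≤ ψ.ker) : Nat.card X ∣ Nat.card W := by
  have h1 := index_dvd_of_le hk
  rw [index_ker, index_ker, MonoidHom.range_eq_top.2 hs, card_top] at h1
  exact h1.trans (card_subgroup_dvd_card _)

variable {G H : Type*} [Group G] [Group H] {p q : ℕ}

/-- the order of the automiser -/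
noncomputable abbrev au (U : Subgroup G) : ℕ := (centralizer (U : Set G)).relIndex (normalizer (U : Set G))

theorem au_dvd {B : Type*} [Group B] {U : Subgroup G} {V : Subgroup H} (a : B →* G) (b : B →* H)
    (ha : ∀ x, a x ∈ normalizer (U : Set G)) (hb : ∀ x, b x ∈ normalizer (V : Set H))
    (h1 : ∀ x, a x ∈ centralizer (U : Set G) → b x ∈ centralizer (V : Set H))
    (h2 : ∀ y ∈ normalizer (V : Set H), ∃ x, (b x)⁻¹ * y ∈ centralizer (V : Set H)) : au V ∣ au U := by
  refine card_dvd ((QuotientGroup.mk' ((centralizer (V : Set H)).subgroupOf (normalizer (V : Set H)))).comp (b.codRestrict _ hb))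
    ((QuotientGroup.mk' ((centralizer (U : Set G)).subgroupOf (normalizer (U : Set G)))).comp (a.codRestrict _ ha))
    (fun z => ?_) fun x hx => ?_
  · obtain ⟨y, rfl⟩ := QuotientGroup.mk_surjective z
    obtain ⟨x, hx⟩ := h2 y y.2
    exact ⟨x, QuotientGroup.eq.2 hx⟩
  · exact (QuotientGroup.eq_one_iff _).2 (h1 x ((QuotientGroup.eq_one_iff (a.codRestrict _ ha x)).1 hx))

variable [Finite G] [hp : Fact p.Prime]

theorem map_norm (P : Sylow p G) (f : G →* H) (hf : Function.Surjective f) :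
    (normalizer ((P : Subgroup G) : Set G)).map f = normalizer (((P : Subgroup G).map f : Subgroup H) : Set H) := by
  refine le_antisymm (le_normalizer_map f) fun h hh => ?_
  obtain ⟨g, rfl⟩ := hf h
  obtain ⟨k, hk, hg⟩ := H627.BR.frat P f.ker (g := g) (by
    intro x hx
    have h1 := (mem_normalizer_iff.1 hh (f x)).1 (mem_map_of_mem f hx)
    rw [← map_inv, ← map_mul, ← map_mul] at h1
    rw [← comap_map_eq]
    exact h1)
  exact ⟨k⁻¹ * g, mem_normalizer_fintype hg, by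
    rw [map_mul, map_inv, MonoidHom.mem_ker.1 hk, inv_one, one_mul]⟩

theorem au_sub (P : Sylow p G) (hP : ∀ a ∈ (P : Subgroup G), ∀ b ∈ (P : Subgroup G), a * b = b * a) {U : Subgroup G}
    (hU : U ≤ P) : au U ∣ au (P : Subgroup G) := by
  have h1 : (P : Subgroup G) ≤ centralizer (U : Set G) := fun x hx => mem_centralizer_iff.2 fun u hu => hP u (hU hu) x hx
  have h2 : (P : Subgroup G) ≤ normalizer (U : Set G) := h1.trans (centralizer_le_normalizer _)
  refine au_dvd (normalizer ((P : Subgroup G) : Set G) ⊓ normalizer (U : Set G)).subtype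
    (normalizer ((P : Subgroup G) : Set G) ⊓ normalizer (U : Set G)).subtype (fun x => x.2.1) (fun x => x.2.2)
    (fun x hx => centralizer_le hU hx) fun y hy => ?_
  have h3 := Sylow.normalizer_sup_eq_top' (N := (centralizer (U : Set G)).subgroupOf (normalizer (U : Set G))) (P.subtype h2)
    fun x hx => h1 hx
  obtain ⟨n, hn, c, hc, e⟩ := mem_sup_of_normal_right.1 (h3.ge (mem_top ⟨y, hy⟩))
  refine ⟨⟨n, mem_normalizer_fintype fun x hx => (mem_normalizer_iff.1 hn ⟨x, h2 hx⟩).1 hx, n.2⟩, ?_⟩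
  have h4 : (n : G) * c = y := congrArg Subtype.val e
  show (n : G)⁻¹ * y ∈ _
  rw [← h4, inv_mul_cancel_left]
  exact hc

theorem au_sec {Y : Subgroup G} (f : Y →* H) (hf : Function.Surjective f) (P : Sylow p Y) :
    au ((P : Subgroup Y).map f) ∣ au ((P : Subgroup Y).map Y.subtype) := by
  refine au_dvd (Y.subtype.comp (normalizer ((P : Subgroup Y) : Set Y)).subtype)
    (f.comp (normalizer ((P : Subgroup Y) : Set Y)).subtype) (fun x => le_normalizer_map _ ⟨x, x.2, rfl⟩)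
    (fun x => le_normalizer_map _ ⟨x, x.2, rfl⟩) (fun x hx => mem_centralizer_iff.2 ?_) fun y hy => ?_
  · rintro _ ⟨u, hu, rfl⟩
    have h1 : u * x = x * u := Subtype.ext (mem_centralizer_iff.1 hx u ⟨u, hu, rfl⟩)
    show f u * f x = f x * f u
    rw [← map_mul, h1, map_mul]
  · obtain ⟨n, hn, rfl⟩ := (map_norm P f hf).ge hy
    exact ⟨⟨n, hn⟩, (inv_mul_cancel (f n)).symm ▸ one_mem _⟩

theorem ac_sec {G S : Type} [Group G] [Finite G] [Group S] (hA : AbS p G) (h : AC p q G) {Y : Subgroup G} (f : Y →* S)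
    (hf : Function.Surjective f) : AC p q S := fun P' => by
  obtain ⟨P₀, rfl⟩ := Sylow.mapSurjective_surjective hf p P'
  obtain ⟨P, hP⟩ := (P₀.2.map Y.subtype).exists_le_sylow
  exact (au_sec f hf P₀).trans ((au_sub P (abS_iff.1 hA P) hP).trans (h P))

theorem loc_surj [Fact q.Prime] (h : Loc p q G) (f : G →* H) (hf : Function.Surjective f) : Loc p q H := by
  obtain ⟨P, Q, h1, h2, h3⟩ := h
  refine ⟨P.mapSurjective hf, Q.mapSurjective hf, map_isMulCommutative _ f, map_isMulCommutative _ f, ?_⟩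
  rw [Sylow.coe_mapSurjective, Sylow.coe_mapSurjective, ← map_norm P f hf, ← map_norm Q f hf, h3]

theorem cy_map {G H : Type} [Group G] [Finite G] [Group H] {R : Subgroup G} (hR : IsPGroup p R) (h : Cy p R) (f : G →* H)
    (hf : Function.Surjective f) : Cy p (R.map f) := fun Q hQ hle => by
  have h1 : R ≤ Q.comap f := map_le_iff_le_comap.1 hle
  obtain ⟨Q₁, h2⟩ := (hR.comap_subtype (K := Q.comap f)).exists_le_sylow
  have h3 := f.subgroupComap_surjective_of_surjective Q hf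
  have h4 : (Q₁ : Subgroup (Q.comap f)).map (f.subgroupComap Q) = ⊤ :=
    ((Q₁.mapSurjective h3).is_maximal' (hQ.to_subgroup ⊤) le_top).symm
  obtain ⟨y, ⟨y, -, rfl⟩, h5⟩ := h ((Q₁ : Subgroup (Q.comap f)).map (Q.comap f).subtype) (Q₁.2.map _)
    fun r hr => ⟨⟨r, h1 hr⟩, h2 hr, rfl⟩
  refine ⟨f y, y.2, fun z hz => ?_⟩
  obtain ⟨x, hx, e⟩ := h4.ge (mem_top ⟨z, hz⟩)
  have h6 := mem_map_of_mem f (h5 ⟨x, hx, rfl⟩)
  rw [Subgroup.map_sup, MonoidHom.map_zpowers] at h6
  exact (show f x = z from congrArg Subtype.val e) ▸ h6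

theorem cyc_of {G : Type} [Group G] [Finite G] {R M U : Subgroup G} (hZ : R ≤ center G) (hR : IsPGroup p R) (h : Cy p R)
    (hM : M ⊓ R = ⊥) (hU : IsPGroup p U) (hUM : U ≤ M) : IsCyclic U := by
  have : R.Normal := ⟨fun r hr g => by rwa [mem_center_iff.1 (hZ hr) g, mul_inv_cancel_right]⟩
  obtain ⟨y, -, hy⟩ := h (U ⊔ R) (hU.to_sup_of_normal_right hR) le_sup_right
  have h1 : ∀ u : U, (QuotientGroup.mk' R).comp U.subtype u ∈ zpowers (QuotientGroup.mk' R y) := fun u => by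
    have h2 := mem_map_of_mem (QuotientGroup.mk' R) (hy (mem_sup_left u.2))
    rwa [Subgroup.map_sup, QuotientGroup.map_mk'_self, bot_sup_eq, MonoidHom.map_zpowers] at h2
  refine isCyclic_of_injective (MonoidHom.codRestrict _ _ h1) ((injective_iff_map_eq_one _).2 fun u hu => ?_)
  exact Subtype.ext (mem_bot.1 (hM.le ⟨hUM u.2, (QuotientGroup.eq_one_iff _).1 (congrArg Subtype.val hu)⟩))

/-- the elements of an abelian Sylow subgroup act on a simple normal subgroup like inner automorphisms -/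
theorem split (hp2 : p ≠ 2) (P : Sylow p G) (hP : ∀ a ∈ (P : Subgroup G), ∀ b ∈ (P : Subgroup G), a * b = b * a)
    (M : Subgroup G) [M.Normal] [IsSimpleGroup M] (hn : ¬ IsMulCommutative M) (hd : p ∣ Nat.card M) {x : G}
    (hx : x ∈ (P : Subgroup G)) : ∃ g ∈ M, g ∈ (P : Subgroup G) ∧ g⁻¹ * x ∈ centralizer (M : Set G) := by
  have hQ : IsPGroup p ((P : Subgroup G).subgroupOf M) := P.2.comap_of_injective _ Subtype.val_injective
  have hi : ¬ p ∣ ((P : Subgroup G).subgroupOf M).index := H573.not_dvd_relIndex_normal P M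
  obtain ⟨k, hk⟩ := Red.order_of_mem hp.out P.2 hx
  have ho : ∃ j : ℕ, orderOf (MulAut.conjNormal (H := M) x) = p ^ j :=
    let ⟨j, _, hj⟩ := (Nat.dvd_prime_pow hp.out).1 (hk ▸ orderOf_map_dvd (MulAut.conjNormal (H := M)) x)
    ⟨j, hj⟩
  have hO : pPrimeCore p M = ⊥ := (Lib.Cores.pPrimeCore_normal (G := M) p).eq_bot_or_eq_top.resolve_right fun h1 =>
    hp.out.one_lt.ne' (Nat.Coprime.eq_one_of_dvd ((Lib.Cores.pPrimeCore_eq_top_iff (G := M) p).1 h1).symm hd)
  have h0 : ∀ y ∈ (hQ.toSylow hi : Subgroup M), MulAut.conjNormal x y = y := fun y hy => Subtype.ext (by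
    rw [MulAut.conjNormal_apply, hP x hx y hy, mul_inv_cancel_right])
  obtain ⟨g, hg⟩ := S1937.result hp2 hO (hQ.toSylow hi) (MulAut.conjNormal x) ho h0
  have h1 : MulAut.conjNormal (H := M) x = MulAut.conj g := MulEquiv.ext hg
  have h2 : Function.Injective (MulAut.conj : M →* MulAut M) := (injective_iff_map_eq_one _).2 fun z hz => by
    refine mem_bot.1 (((inferInstance : (center M).Normal).eq_bot_or_eq_top.resolve_right fun e => hn
      ⟨⟨fun a b => mem_center_iff.1 (e.ge (mem_top b)) a⟩⟩).le (mem_center_iff.2 fun y => ?_))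
    have h3 : z * y * z⁻¹ = y := DFunLike.congr_fun hz y
    exact (mul_inv_eq_iff_eq_mul.1 h3).symm
  refine ⟨g, g.2, H573.mem_sylow_of_commute (hQ.toSylow hi) (by rwa [h1, orderOf_injective _ h2] at ho) fun y hy => ?_,
    mem_centralizer_iff.2 fun y hy => ?_⟩
  · exact (mul_inv_eq_iff_eq_mul.1 ((hg y).symm.trans (h0 y hy))).symm
  · have h3 := congrArg Subtype.val (hg ⟨y, hy⟩)
    rw [MulAut.conjNormal_apply] at h3
    simp only [Subgroup.coe_mul, InvMemClass.coe_inv] at h3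
    calc y * ((g : G)⁻¹ * x) = (g : G)⁻¹ * ((g : G) * y * (g : G)⁻¹) * x := by group
      _ = (g : G)⁻¹ * (x * y * x⁻¹) * x := by rw [h3]
      _ = (g : G)⁻¹ * x * y := by group

theorem norm_le (hp2 : p ≠ 2) (P : Sylow p G) (hP : ∀ a ∈ (P : Subgroup G), ∀ b ∈ (P : Subgroup G), a * b = b * a)
    (M : Subgroup G) [M.Normal] [IsSimpleGroup M] (hn : ¬ IsMulCommutative M) (hd : p ∣ Nat.card M) {U : Subgroup G}
    (h : normalizer ((P : Subgroup G) : Set G) = normalizer (U : Set G)) :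
    normalizer (((P : Subgroup G).subgroupOf M : Subgroup M) : Set M) ≤ normalizer ((U.subgroupOf M : Subgroup M) : Set M) := by
  intro n h1
  have h2 : (n : G) ∈ normalizer (U : Set G) := h ▸ mem_normalizer_fintype fun x hx => by
    obtain ⟨g, hg, h3, h4⟩ := split hp2 P hP M hn hd hx
    have h5 : (n : G) * g * (n : G)⁻¹ ∈ (P : Subgroup G) := (mem_normalizer_iff.1 h1 ⟨g, hg⟩).1 h3
    have h6 := mem_centralizer_iff.1 h4 _ (inv_mem n.2)
    rw [show (n : G) * x * (n : G)⁻¹ = n * g * (g⁻¹ * x * (n : G)⁻¹) by group, ← h6, ← mul_assoc]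
    exact mul_mem h5 (mul_mem (inv_mem h3) hx)
  exact mem_normalizer_iff.2 fun x => mem_normalizer_iff.1 h2 x

theorem loc_simple [Fact q.Prime] (hp2 : p ≠ 2) (hq2 : q ≠ 2) (h : Loc p q G) (M : Subgroup G) [M.Normal] [IsSimpleGroup M]
    (hn : ¬ IsMulCommutative M) (h1 : p ∣ Nat.card M) (h2 : q ∣ Nat.card M) : Loc p q M := by
  obtain ⟨P, Q, h3, h4, h5⟩ := h
  have h6 : ∀ a ∈ (P : Subgroup G), ∀ b ∈ (P : Subgroup G), a * b = b * a := fun a ha b hb =>
    congrArg Subtype.val (h3.is_comm.comm ⟨a, ha⟩ ⟨b, hb⟩)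
  have h7 : ∀ a ∈ (Q : Subgroup G), ∀ b ∈ (Q : Subgroup G), a * b = b * a := fun a ha b hb =>
    congrArg Subtype.val (h4.is_comm.comm ⟨a, ha⟩ ⟨b, hb⟩)
  exact ⟨(P.2.comap_of_injective M.subtype Subtype.val_injective).toSylow (H573.not_dvd_relIndex_normal P M),
    (Q.2.comap_of_injective M.subtype Subtype.val_injective).toSylow (H573.not_dvd_relIndex_normal Q M),
    ⟨⟨fun a b => Subtype.ext (Subtype.ext (h6 _ a.2 _ b.2))⟩⟩, ⟨⟨fun a b => Subtype.ext (Subtype.ext (h7 _ a.2 _ b.2))⟩⟩,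
    le_antisymm (norm_le hp2 P h6 M hn h1 h5) (norm_le hq2 Q h7 M hn h2 h5.symm)⟩

/-- a product of simple groups with cyclic Sylow subgroups has one factor -/
theorem simple_of {M : Subgroup G} {k : ℕ} {S : Fin k → Subgroup G} (hk : 0 < k) (hS : ∀ i, S i ≤ M)
    (h1 : ∀ i, IsSimpleGroup (S i)) (h2 : ∀ i, ¬ ∀ a b : S i, a * b = b * a) (h3 : ∀ i, p ∣ Nat.card (S i))
    (h4 : ∀ i j, i ≠ j → ∀ x ∈ S i, ∀ y ∈ S j, Commute x y) (h5 : ⨆ i, S i = M)
    (h : ∀ U : Subgroup G, IsPGroup p U → U ≤ M → IsCyclic U) : IsSimpleGroup M ∧ ¬ IsMulCommutative M := by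
  have h6 : ∀ j : Fin k, j = ⟨0, hk⟩ := fun j => by
    by_contra hj
    obtain ⟨x, hx⟩ := exists_prime_orderOf_dvd_card' p (h3 j)
    obtain ⟨y, hy⟩ := exists_prime_orderOf_dvd_card' p (h3 ⟨0, hk⟩)
    have hx' : Nat.card (zpowers (x : G)) = p := by rw [Nat.card_zpowers, orderOf_coe, hx]
    have hy' : Nat.card (zpowers (y : G)) = p := by rw [Nat.card_zpowers, orderOf_coe, hy]
    have := h (zpowers (x : G) ⊔ zpowers (y : G)) (IsPGroup.to_sup_of_normal_right' (IsPGroup.of_card (hx'.trans (pow_one p).symm))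
      (IsPGroup.of_card (hy'.trans (pow_one p).symm)) (zpowers_le.2 (centralizer_le_normalizer _ (mem_centralizer_iff.2 (by
        rintro _ ⟨m, rfl⟩
        exact ((h4 _ _ hj x x.2 y y.2).symm.zpow_left m).eq)))))
      (sup_le (zpowers_le.2 (hS _ x.2)) (zpowers_le.2 (hS _ y.2)))
    have h7 := S0571.eq_of_card_eq_of_le_cyclic (zpowers (x : G) ⊔ zpowers (y : G)) _ _ le_sup_left le_sup_right
      (hx'.trans hy'.symm)
    have h8 : (x : G) ∈ S ⟨0, hk⟩ := zpowers_le.2 y.2 (h7 ▸ mem_zpowers (x : G))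
    have := h1 j
    rcases (inferInstance : (center (S j)).Normal).eq_bot_or_eq_top with e | e
    · have h9 : x = 1 := mem_bot.1 (e.le (mem_center_iff.2 fun z => Subtype.ext (h4 _ _ hj z z.2 x h8).eq))
      rw [h9, orderOf_one] at hx
      exact hp.out.one_lt.ne hx
    · exact h2 j fun a b => mem_center_iff.1 (e.ge (mem_top b)) a
  obtain rfl : S ⟨0, hk⟩ = M := le_antisymm (hS _) (h5 ▸ iSup_le fun j => h6 j ▸ le_rfl)
  exact ⟨h1 _, fun e => h2 _ e.is_comm.comm⟩

end AmbL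

open AmbL

/-- **the simple sections** -/
theorem boxAmb_of (h : All Known AMBs) : BoxAmb := by
  intro p q hp hq h2 hqp Z
  have hpq : p ≠ q := hqp.ne'
  suffices H : ∀ (n : ℕ) (Z : Type) [Group Z] [Finite Z] (R : Subgroup Z), Nat.card Z = n → Loc p q Z → R ≤ center Z → Cy q R →
      IsPGroup q R → Amb p q Z from fun _ _ R => H _ Z R rfl
  intro n
  induction n using Nat.strong_induction_on with
  | _ n ih =>
  intro Z _ _ R hn hL hZ hC hR Y S _ f hf hS hna h3 h4
  have htop : (⊤ : Subgroup Z) ≠ ⊥ := fun e => by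
    obtain ⟨s, hs⟩ := exists_ne (1 : S)
    obtain ⟨y, rfl⟩ := hf s
    exact hs (by rw [show y = 1 from Subtype.ext (mem_bot.1 (e ▸ mem_top _)), map_one])
  obtain ⟨M, hMn, -, hM0, hmin⟩ := H364.exists_minimal_normal_le (⊤ : Subgroup Z) inferInstance htop
  rcases ((inferInstance : (M.subgroupOf Y).Normal).map f hf).eq_bot_or_eq_top with e | e
  · have h5 : ((QuotientGroup.mk' M).subgroupMap Y).ker ≤ f.ker := fun y hy =>
      mem_bot.1 (e.le ⟨y, (QuotientGroup.eq_one_iff (y : Z)).1 (congrArg Subtype.val hy), rfl⟩)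
    have h6 := (QuotientGroup.mk' M).subgroupMap_surjective Y
    refine ih _ (hn ▸ card_quot_lt hM0) (Z ⧸ M) (R.map (QuotientGroup.mk' M)) rfl
      (loc_surj hL _ (QuotientGroup.mk'_surjective M)) ?_ (cy_map hR hC _ (QuotientGroup.mk'_surjective M)) (hR.map _)
      (Y.map (QuotientGroup.mk' M)) S (MonoidHom.liftOfSurjective _ h6 ⟨f, h5⟩) (fun s => ?_) hS hna h3 h4
    · rintro _ ⟨r, hr, rfl⟩
      refine mem_center_iff.2 fun z => ?_
      obtain ⟨z, rfl⟩ := QuotientGroup.mk'_surjective M z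
      rw [← map_mul, mem_center_iff.1 (hZ hr) z, map_mul]
    · obtain ⟨y, rfl⟩ := hf s
      exact ⟨_, MonoidHom.liftOfRightInverse_comp_apply _ _ _ ⟨f, h5⟩ y⟩
  · let g : Y.subgroupOf M →* S := f.comp ((M.subtype.comp (Y.subgroupOf M).subtype).codRestrict Y fun x => x.2)
    have hg : Function.Surjective g := fun s => by
      obtain ⟨y, hy, rfl⟩ := e.ge (mem_top s)
      exact ⟨⟨⟨y, hy⟩, y.2⟩, rfl⟩
    have h5 : Nat.card S ∣ Nat.card M := (card_dvd_of_surjective g hg).trans (card_subgroup_dvd_card _)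
    have h6 : ∀ r, r.Prime → ¬ IsPGroup r M := fun r hr hM => by
      have := Fact.mk hr
      obtain ⟨j, hj⟩ := IsPGroup.iff_card.1 hM
      exact hpq (((Nat.prime_dvd_prime_iff_eq hp.out hr).1 (hp.out.dvd_of_dvd_pow (hj ▸ h3.trans h5))).trans
        ((Nat.prime_dvd_prime_iff_eq hq.out hr).1 (hq.out.dvd_of_dvd_pow (hj ▸ h4.trans h5))).symm)
    have h7 : M ⊓ R = ⊥ := (hmin _ ⟨fun r hr z => by rwa [mem_center_iff.1 (hZ hr.2) z, mul_inv_cancel_right]⟩
      inf_le_left).resolve_right fun e' => h6 q hq.out (hR.to_le (inf_eq_left.1 e'))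
    have h8 : ∀ U : Subgroup Z, IsPGroup q U → U ≤ M → IsCyclic U := fun U => cyc_of hZ hR hC h7
    obtain ⟨k, T, hk, hT, h9, h10, h11, -, h12, h13⟩ := (H364.minimal_normal_cases2 M hM0 hmin).resolve_left
      fun ⟨r, hr, hM⟩ => h6 r hr hM
    obtain ⟨h14, h15⟩ := simple_of hk hT h9 h10 (h11 q hq.out (h4.trans h5)) h12 h13 h8
    have h16 := loc_simple (by omega) h2.ne' hL M h15 (h3.trans h5) (h4.trans h5)
    refine ac_sec ?_ (h M h14 h15 S0000.result p q hp.out hq.out h2 hqp (h3.trans h5) (h4.trans h5) h16 fun Q => ?_) g hg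
    · obtain ⟨P, -, h17, -⟩ := h16
      exact abS_of_one P fun a ha b hb => congrArg Subtype.val (h17.is_comm.comm ⟨a, ha⟩ ⟨b, hb⟩)
    · have := h8 _ (Q.2.map M.subtype) (map_subtype_le _)
      exact isCyclic_of_injective ((Q : Subgroup M).equivMapOfInjective _ M.subtype_injective).toMonoidHom
        ((Q : Subgroup M).equivMapOfInjective _ M.subtype_injective).injective

end Cfsg.Agent.PQ.EL
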