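import Cfsg.Agent.PQ.EL.Defs
import Cfsg.Agent.S0864
import Cfsg.Agent.Characters.Linear
import Cfsg.Agent.H541.AutFrattini
import Cfsg.Agent.Lib.FrattiniBasic

/-!
# S4982: an abelian normal `p`-subgroup, the box `BoxB` (helper48)
-/

set_option autoImplicit false

namespace Cfsg.Agent.PQ.EL

open Cfsg Cfsg.Agent.LV Cfsg.Agent.PQ.LE Subgroup Cfsg.Agent.Characters

namespace B

variable {p q : ℕ} [hp : Fact p.Prime] [hq : Fact q.Prime]

theorem eq_one_of_pow {M : Type*} [Monoid M] (hpq : p ≠ q) {c : M} {i j : ℕ} (h1 : c ^ p ^ i = 1) (h2 : c ^ q ^ j = 1) :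
    c = 1 :=
  orderOf_eq_one_iff.1 (Nat.eq_one_of_dvd_coprimes (Nat.coprime_pow_primes i j hp.out hq.out hpq)
    (orderOf_dvd_of_pow_eq_one h1) (orderOf_dvd_of_pow_eq_one h2))

/-- coprime action, tested on linear characters -/
theorem cop (hpq : p ≠ q) {P : Type} [Group P] [Finite P] (hP : IsPGroup p P) {α : MulAut P} {j : ℕ} (hα : α ^ q ^ j = 1)
    (h : ∀ (μ : P →* ℂˣ) (a : P), μ (α (α a * a⁻¹)) = μ (α a * a⁻¹)) : α = 1 := by
  obtain ⟨n, hn⟩ := IsPGroup.iff_card.1 hP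
  have h1 : ∀ (μ : P →* ℂˣ) (a : P) (k : ℕ), μ ((α ^ k) (α a * a⁻¹)) = μ (α a * a⁻¹) := fun μ a k => by
    induction k with
    | zero => rfl
    | succ k ih => rw [pow_succ, MulAut.mul_apply, ← ih]; exact h (μ.comp (α ^ k).toMonoidHom) a
  have h2 : ∀ (μ : P →* ℂˣ) (a : P) (k : ℕ), μ ((α ^ k) a) = μ (α a * a⁻¹) ^ k * μ a := fun μ a k => by
    induction k with
    | zero => simp
    | succ k ih =>
      rw [pow_succ, MulAut.mul_apply, ← inv_mul_cancel_right (α a) a, map_mul, map_mul, h1, ih, pow_succ',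
        inv_mul_cancel_right, mul_assoc]
  have h3 : ∀ (μ : P →* ℂˣ) (a : P), μ (α a * a⁻¹) = 1 := fun μ a => by
    refine eq_one_of_pow hpq (i := n) (j := j) (by rw [← map_pow, ← hn, pow_card_eq_one', map_one]) ?_
    have h4 := h2 μ a (q ^ j)
    rw [hα, MulAut.one_apply] at h4
    exact mul_eq_right.1 h4.symm
  have h4 : ∀ β ∈ zpowers α, ∀ a : P, β a * a⁻¹ ∈ frattini P := fun β hβ a => by
    obtain ⟨k, rfl⟩ := (mem_powers_iff_mem_zpowers.2 hβ : β ∈ Submonoid.powers α)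
    refine Lib.FrattiniBasic.commutator_le_frattini hP ?_
    rw [← Abelianization.ker_of, MonoidHom.mem_ker]
    by_contra hne
    obtain ⟨φ, hφ⟩ := CommGroup.exists_apply_ne_one_of_hasEnoughRootsOfUnity (Abelianization P) ℂ hne
    refine hφ ?_
    have h5 := h2 (φ.comp Abelianization.of) a k
    rw [h3, one_pow, one_mul] at h5
    change (φ.comp Abelianization.of) ((α ^ k) a * a⁻¹) = 1
    rw [map_mul, h5, map_inv, mul_inv_cancel]
  obtain ⟨r, hr⟩ := hP.index (frattini P)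
  have h5 := H541.AutFrattini.card_dvd_of_trivial hn hr _ h4
  rw [Nat.card_zpowers] at h5
  exact eq_one_of_pow hpq (orderOf_dvd_iff_pow_eq_one.1 h5) hα

variable {G : Type} [Group G] [Finite G] {N : Subgroup G} [hN : N.Normal]

/-- the stabiliser -/
def stb (θ : N → ℂ) : Subgroup G where
  carrier := {g | ∀ n : N, θ ⟨g * n * g⁻¹, hN.conj_mem n n.2 g⟩ = θ n}
  one_mem' := fun n => congrArg θ (Subtype.ext (by simp))
  mul_mem' := fun {g h} hg hh n => by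
    rw [← hh n, ← hg ⟨h * n * h⁻¹, hN.conj_mem n n.2 h⟩]
    exact congrArg θ (Subtype.ext (by simp [mul_assoc]))
  inv_mem' := fun {g} hg n => by
    rw [← hg]
    exact congrArg θ (Subtype.ext (by simp [mul_assoc]))

/-- a `q`-element which centralises `P` modulo `N` fixes the restrictions of the linear characters of `P` -/
theorem fix (hF : BoxFix) (hpq : p ≠ q) (h0 : N ≠ ⊥) (hI : IH p q (Nat.card G)) (hE : EE p q G) (P : Sylow p G)
    (hNP : N ≤ P) (μ : P →* ℂˣ) {x : G} (hx : El q x) (hc : ∀ a ∈ (P : Subgroup G), x * a * x⁻¹ * a⁻¹ ∈ N) (n : N) :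
    μ ⟨x * n * x⁻¹, hNP (hN.conj_mem n n.2 x)⟩ = μ ⟨n, hNP n.2⟩ := by
  let θ : IrrCharacter N := ⟨_, Linear.isIrrCharacter_hom (μ.comp (inclusion hNP))⟩
  let T : Subgroup G := stb (θ : N → ℂ)
  have hPT : (P : Subgroup G) ≤ T := fun a ha n => by
    change ((μ (⟨a, ha⟩ * ⟨n, hNP n.2⟩ * ⟨a, ha⟩⁻¹) : ℂˣ) : ℂ) = (μ ⟨n, hNP n.2⟩ : ℂˣ)
    rw [map_mul, map_mul, map_inv, mul_inv_cancel_comm]
  have hle : N.subgroupOf T ≤ (P : Subgroup G).subgroupOf T := fun _ h => hNP h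
  let ν : (P : Subgroup G).subgroupOf T →* ℂˣ := μ.comp (subgroupOfEquivOfLe hPT).toMonoidHom
  obtain ⟨k, hk⟩ := IsPGroup.iff_card.1 P.isPGroup'
  obtain ⟨ψ, h1, h2, h3⟩ := S0864.result (N.subgroupOf T) (fun n => (ν.comp (inclusion hle) n : ℂ))
    ⟨Linear.isCharacter_hom _, by simp⟩ (fun g n => g.2 ⟨n.1.1, n.2⟩) fun r hr hd => by
      have h4 : (fun n => (ν.comp (inclusion hle) n : ℂ)) ^ p ^ k = 1 := funext fun n => by
        change ((μ _ : ℂˣ) : ℂ) ^ p ^ k = 1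
        rw [← Units.val_pow_eq_pow_val, ← map_pow, ← hk, pow_card_eq_one', map_one, Units.val_one]
      obtain rfl : r = p := (Nat.prime_dvd_prime_iff_eq hr hp.out).1
        (hr.dvd_of_dvd_pow (hd.trans (orderOf_dvd_of_pow_eq_one h4)))
      exact ⟨_, hle, fun a => (ν a : ℂ), (hr.coprime_iff_not_dvd.2 fun h => P.not_dvd_index
        (h.trans (relIndex_dvd_index_of_le hPT))).symm,
        (P.isPGroup'.of_equiv (subgroupOfEquivOfLe hPT).symm).index _, Linear.isCharacter_hom _, by simp, fun _ => rfl⟩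
  have h5 := hF p q hpq G N h0 hI hE P θ T (fun _ => Iff.rfl) hPT (by
    have h4 : charDegree (θ : N → ℂ) = 1 := by simp [charDegree, θ]
    rw [h4]
    exact hp.out.not_dvd_one)
    ⟨⟨ψ, Linear.isIrrCharacter_of_isCharacter h1 h2⟩, fun n h => h3 ⟨⟨n, h⟩, n.2⟩⟩ x hx hc
  exact Units.ext (h5 n)

theorem cent (hF : BoxFix) (hpq : p ≠ q) (h0 : N ≠ ⊥) (hI : IH p q (Nat.card G)) (hE : EE p q G) (P : Sylow p G)
    (hNP : N ≤ P) {x : G} (hx : El q x) (hc : ∀ a ∈ (P : Subgroup G), x * a * x⁻¹ * a⁻¹ ∈ N) :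
    ∀ a ∈ (P : Subgroup G), a * x = x * a := by
  have h1 : x ∈ normalizer ((P : Subgroup G) : Set G) := mem_normalizer_fintype fun a ha => by
    have h1 := mul_mem (hNP (hc a ha)) ha
    rwa [inv_mul_cancel_right] at h1
  obtain ⟨j, hj⟩ := hx
  have h2 : (P : Subgroup G).normalizerMonoidHom ⟨x, h1⟩ = 1 := by
    refine cop hpq P.isPGroup' (j := j) ?_ fun μ a => fix hF hpq h0 hI hE P hNP μ ⟨j, hj⟩ hc ⟨_, hc a a.2⟩
    rw [← map_pow, show (⟨x, h1⟩ : normalizer ((P : Subgroup G) : Set G)) ^ q ^ j = 1 from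
      Subtype.ext (by rw [coe_pow, ← hj]; exact pow_orderOf_eq_one x), map_one]
  intro a ha
  have h3 : x * a * x⁻¹ = a := congrArg (fun β : MulAut (P : Subgroup G) => (β ⟨a, ha⟩ : G)) h2
  exact (mul_inv_eq_iff_eq_mul.1 h3).symm

end B

/-- **[B]** -/
theorem boxB_of (hS : BoxStar) (hF : BoxFix) : BoxB := by
  intro p q hp hq hpq G _ _ N hN h0 _ hpN hI hE
  let P : Sylow p G := default
  have hNP : N ≤ P := hpN.le_sylow_of_normal P
  have hf := QuotientGroup.mk'_surjective N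
  obtain ⟨Q', hQ'⟩ := exists_par hpq (hI.quot hE N h0) (P.mapSurjective hf)
  obtain ⟨Q, rfl⟩ := Sylow.mapSurjective_surjective hf q Q'
  have hm : ∀ x y : G, QuotientGroup.mk' N x * QuotientGroup.mk' N y = QuotientGroup.mk' N y * QuotientGroup.mk' N x →
      x * y * x⁻¹ * y⁻¹ ∈ N := fun x y h => by
    rw [← QuotientGroup.ker_mk' N, MonoidHom.mem_ker, map_mul, map_mul, map_mul, h, map_inv, map_inv]
    group
  have hab : ∀ a ∈ (Q : Subgroup G), ∀ b ∈ (Q : Subgroup G), a * b = b * a := fun a ha b hb => by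
    have h1 : a * b * a⁻¹ * b⁻¹ = 1 := mem_bot.1 ((IsPGroup.disjoint_of_ne p q hpq _ _ hpN Q.2).le_bot
      (mem_inf.2 ⟨hm a b (hQ'.abQ _ ⟨a, ha, rfl⟩ _ ⟨b, hb, rfl⟩),
        mul_mem (mul_mem (mul_mem ha hb) (inv_mem ha)) (inv_mem hb)⟩))
    rwa [mul_inv_eq_one, mul_inv_eq_iff_eq_mul] at h1
  have hel : ∀ b ∈ (Q : Subgroup G), El q b := fun b hb => by
    obtain ⟨k, hk⟩ := IsPGroup.iff_orderOf.1 Q.2 ⟨b, hb⟩
    exact ⟨k, by rw [← hk, orderOf_mk]⟩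
  have hcom : ∀ a ∈ (P : Subgroup G), ∀ b ∈ (Q : Subgroup G), a * b = b * a := fun a ha b hb =>
    B.cent hF hpq h0 hI hE P hNP (hel b hb) (fun c hc => hm b c (hQ'.com _ ⟨c, hc, rfl⟩ _ ⟨b, hb, rfl⟩).symm) a ha
  refine hS p q hpq G P Q hab hcom (fun x h1 h2 => ?_) fun χ => (hE χ).2
  obtain ⟨j, hj⟩ := h2
  obtain ⟨y, hy, e⟩ := hQ'.mem (QuotientGroup.mk' N x) (by
    rintro _ ⟨a, ha, rfl⟩
    rw [← map_mul, ← map_mul, h1 a ha]) (by
    obtain ⟨i, -, hi⟩ := (Nat.dvd_prime_pow hq.out).1 (hj ▸ orderOf_map_dvd (QuotientGroup.mk' N) x)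
    exact ⟨i, hi⟩)
  obtain ⟨n, hn, rfl⟩ := (QuotientGroup.mk'_eq_mk' N).1 e
  obtain ⟨i, hi⟩ := hel y hy
  obtain ⟨k, hk⟩ := hpN ⟨n, hn⟩
  have h3 : Commute y n := (hcom n (hNP hn) y hy).symm
  have h4 : n ^ q ^ (i + j) = 1 := by
    have h5 : (y * n) ^ q ^ (i + j) = 1 := by rw [pow_add, mul_comm, pow_mul, ← hj, pow_orderOf_eq_one, one_pow]
    rwa [h3.mul_pow, pow_add q, pow_mul y, ← hi, pow_orderOf_eq_one, one_pow, one_mul, hi, ← pow_add] at h5
  rw [B.eq_one_of_pow hpq (c := n) (congrArg Subtype.val hk) h4, mul_one]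
  exact hy

end Cfsg.Agent.PQ.EL
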