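import Cfsg.Agent.PQ.LE.Main
import Cfsg.Agent.PQ.Red.C
import Cfsg.Agent.Lib.PSolvable

/-!
# S4982, from the degrees to the local condition: the boxes (helper72)

`EE p q G` is the left side of S4982, `LE.Loc p q G` the right side.  The paper proof is in `notes/PQ/el.md`.

* `WA`, `AC`, `Amb`, `Hy` : what a section of a group with `Loc` remembers;
* `Tw p q X` : `EE` for the characters of a central extension of `X` over a linear character of the kernel;
* rows for the simple groups: `QPs`, `AMBs`, and the almost simple case `BoxD`;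
* `loc_of` : the assembly.
-/

set_option autoImplicit false
set_option linter.unusedSectionVars false

namespace Cfsg.Agent.PQ.EL

open Cfsg Cfsg.Agent.LV Cfsg.Agent.PQ.LE Subgroup

universe u

/-- the left side of S4982 -/
def EE (p q : ℕ) (G : Type u) [Group G] : Prop :=
  ∀ χ : IrrCharacter G, ¬ p ∣ charDegree (χ : G → ℂ) ↔ ¬ q ∣ charDegree (χ : G → ℂ)

/-- the induction hypothesis -/
def IH (p q n : ℕ) : Prop := ∀ (H : Type) [Group H] [Finite H], Nat.card H < n → EE p q H → Loc p q H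

/-- minimal normal subgroups -/
def MinN {G : Type} [Group G] (N : Subgroup G) : Prop :=
  N ≠ ⊥ ∧ ∀ M : Subgroup G, M.Normal → M ≤ N → M = ⊥ ∨ M = N

/-- elements of `q`-power order -/
abbrev El {G : Type u} [Group G] (q : ℕ) (x : G) : Prop := ∃ k : ℕ, orderOf x = q ^ k

/-- `T` is the stabiliser of `θ` -/
def Stb {G : Type} [Group G] (N : Subgroup G) [hN : N.Normal] (θ : N → ℂ) (T : Subgroup G) : Prop :=
  ∀ g : G, g ∈ T ↔ ∀ n : N, θ ⟨g * n * g⁻¹, hN.conj_mem n n.2 g⟩ = θ n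

/-- all `{p, q}`-subgroups are abelian -/
def WA (p q : ℕ) (X : Type) [Group X] : Prop :=
  ∀ A : Subgroup X, (∀ r : ℕ, r.Prime → r ∣ Nat.card A → r = p ∨ r = q) → ∀ a ∈ A, ∀ b ∈ A, a * b = b * a

/-- the order of the automiser of a Sylow `p`-subgroup divides `q - 1` -/
def AC (p q : ℕ) (S : Type) [Group S] : Prop :=
  ∀ P : Sylow p S, (centralizer ((P : Subgroup S) : Set S)).relIndex (normalizer ((P : Subgroup S) : Set S)) ∣ q - 1

/-- `AC` for the simple sections of order divisible by `p q` -/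
def Amb (p q : ℕ) (Z : Type) [Group Z] : Prop :=
  ∀ (Y : Subgroup Z) (S : Type) [Group S] (f : Y →* S), Function.Surjective f → IsSimpleGroup S → ¬ IsMulCommutative S →
    p ∣ Nat.card S → q ∣ Nat.card S → AC p q S

/-- the `q`-subgroups over `R` are cyclic modulo `R` -/
def Cy (q : ℕ) {X : Type} [Group X] (R : Subgroup X) : Prop :=
  ∀ Q : Subgroup X, IsPGroup q Q → R ≤ Q → ∃ y ∈ Q, Q ≤ R ⊔ zpowers y

/-- `P` is a Sylow `p`-subgroup, `R` is the set of the `q`-elements which centralise `P` -/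
structure Hy (p q : ℕ) {X : Type} [Group X] (P R : Subgroup X) : Prop where
  wa : WA p q X
  pP : IsPGroup p P
  iP : ¬ p ∣ P.index
  mem : ∀ x, x ∈ R ↔ El q x ∧ ∀ a ∈ P, a * x = x * a
  cyc : Cy q R
  amb : Amb p q (centralizer (R : Set X))

/-- `EE` over a linear character of a central subgroup -/
def EZ (p q : ℕ) {T : Type} [Group T] (Z : Subgroup T) (lam : Z →* ℂˣ) : Prop :=
  ∀ χ : IrrCharacter T, (∀ z : Z, (χ : T → ℂ) z = (lam z : ℂ) * (χ : T → ℂ) 1) →
    (¬ p ∣ charDegree (χ : T → ℂ) ↔ ¬ q ∣ charDegree (χ : T → ℂ))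

/-- twisted `EE` -/
def Tw (p q : ℕ) (X : Type) [Group X] : Prop :=
  ∃ (T : Type) (_ : Group T) (_ : Finite T) (f : T →* X) (lam : f.ker →* ℂˣ), Function.Surjective f ∧ f.ker ≤ center T ∧
    ¬ p ∣ Nat.card f.ker ∧ ¬ q ∣ Nat.card f.ker ∧ EZ p q f.ker lam

/-! ### the rows -/

/-- faithful characters of the covers -/
def QPs (S : Type) [Group S] : Prop :=
  ∀ p q : ℕ, p.Prime → q.Prime → 2 < q → q < p → p ∣ Nat.card S → q ∣ Nat.card S →
    ∀ (K : Type) [Group K] [Finite K] (σ : K →* S), IsStemExtension σ → σ.ker ≠ ⊥ → ¬ p ∣ Nat.card σ.ker →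
      ¬ q ∣ Nat.card σ.ker → ∀ lam : σ.ker →* ℂˣ, Function.Injective lam → EZ p q σ.ker lam →
        ∀ P R : Subgroup S, Hy p q P R → Com p q S

/-- the automiser in a simple group with the local condition -/
def AMBs (S : Type) [Group S] : Prop :=
  ∀ p q : ℕ, p.Prime → q.Prime → 2 < q → q < p → p ∣ Nat.card S → q ∣ Nat.card S → Loc p q S →
    (∀ Q : Sylow q S, IsCyclic (Q : Subgroup S)) → AC p q S

/-- both primes divide the order of a nonabelian minimal normal subgroup -/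
def BoxD : Prop :=
  ∀ (p q : ℕ) [Fact p.Prime] [Fact q.Prime], p ≠ q → ∀ (G : Type) [Group G] [Finite G] (N : Subgroup G) [N.Normal], MinN N →
    ¬ IsMulCommutative N → centralizer (N : Set G) = ⊥ → p ∣ Nat.card N → q ∣ Nat.card N → IH p q (Nat.card G) →
    EE p q G → Loc p q G

/-! ### the main reduction -/

/-- one normality is enough -/
def BoxStar : Prop :=
  ∀ (p q : ℕ) [Fact p.Prime] [Fact q.Prime], p ≠ q → ∀ (G : Type) [Group G] [Finite G] (P : Sylow p G) (Q : Sylow q G),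
    (∀ a ∈ (Q : Subgroup G), ∀ b ∈ (Q : Subgroup G), a * b = b * a) →
    (∀ a ∈ (P : Subgroup G), ∀ b ∈ (Q : Subgroup G), a * b = b * a) →
    (∀ x : G, (∀ a ∈ (P : Subgroup G), a * x = x * a) → El q x → x ∈ (Q : Subgroup G)) →
    (∀ χ : IrrCharacter G, ¬ q ∣ charDegree (χ : G → ℂ) → ¬ p ∣ charDegree (χ : G → ℂ)) → Loc p q G

/-- two normal subgroups -/
def BoxTwo : Prop :=
  ∀ (p q : ℕ) [Fact p.Prime] [Fact q.Prime], p ≠ q → ∀ (G : Type) [Group G] [Finite G] (M N : Subgroup G) [M.Normal] [N.Normal],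
    M ⊓ N = ⊥ → Loc p q (G ⧸ M) → Loc p q (G ⧸ N) → Loc p q G

/-- a character which extends to its stabiliser is fixed by the partner of `P` -/
def BoxFix : Prop :=
  ∀ (p q : ℕ) [Fact p.Prime] [Fact q.Prime], p ≠ q → ∀ (G : Type) [Group G] [Finite G] (N : Subgroup G) [N.Normal], N ≠ ⊥ →
    IH p q (Nat.card G) → EE p q G → ∀ (P : Sylow p G) (θ : IrrCharacter N) (T : Subgroup G), Stb N θ T →
    (P : Subgroup G) ≤ T → ¬ p ∣ charDegree (θ : N → ℂ) →
    (∃ ψ : IrrCharacter T, ∀ (n : N) (h : (n : G) ∈ T), (ψ : T → ℂ) ⟨n, h⟩ = (θ : N → ℂ) n) →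
    ∀ x : G, El q x → (∀ a ∈ (P : Subgroup G), x * a * x⁻¹ * a⁻¹ ∈ N) → x ∈ T

/-- the `q`-solvable case -/
def BoxSol : Prop :=
  ∀ (p q : ℕ) [Fact p.Prime] [Fact q.Prime], p ≠ q → ∀ (G : Type) [Group G] [Finite G] (N : Subgroup G) [N.Normal],
    ¬ q ∣ Nat.card N → Loc p q (G ⧸ N) → IsPSolvable q G → EE p q G → Loc p q G

/-- the prime `2` -/
def BoxEv : Prop := ∀ (p : ℕ), p.Prime → p ≠ 2 → ∀ (X : Type) [Group X] [Finite X], Com p 2 X → IsPSolvable p X

/-- an abelian normal `p`-subgroup -/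
def BoxB : Prop :=
  ∀ (p q : ℕ) [Fact p.Prime] [Fact q.Prime], p ≠ q → ∀ (G : Type) [Group G] [Finite G] (N : Subgroup G) [N.Normal], N ≠ ⊥ →
    IsMulCommutative N → IsPGroup p N → IH p q (Nat.card G) → EE p q G → Loc p q G

/-- a nonabelian minimal normal subgroup of order prime to `q` -/
def BoxC : Prop :=
  ∀ (p q : ℕ) [Fact p.Prime] [Fact q.Prime], p ≠ q → ∀ (G : Type) [Group G] [Finite G] (N : Subgroup G) [N.Normal], MinN N →
    ¬ IsMulCommutative N → centralizer (N : Set G) = ⊥ → ¬ q ∣ Nat.card N → IH p q (Nat.card G) → EE p q G →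
    IsPSolvable q G

/-- an abelian normal subgroup of order prime to `p q` -/
def BoxA : Prop :=
  ∀ (p q : ℕ) [Fact p.Prime] [Fact q.Prime], 2 < q → q < p → ∀ (G : Type) [Group G] [Finite G] (N : Subgroup G) [N.Normal],
    IsMulCommutative N → ¬ p ∣ Nat.card N → ¬ q ∣ Nat.card N → Loc p q (G ⧸ N) → EE p q G → Loc p q G

/-! ### the relative theorem -/

/-- the relative theorem -/
def BoxY : Prop :=
  ∀ (p q : ℕ) [Fact p.Prime] [Fact q.Prime], 2 < q → q < p → ∀ (X : Type) [Group X] [Finite X] (P R : Subgroup X),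
    Tw p q X → Hy p q P R → Com p q X

/-- Clifford correspondence and the cover of a character triple -/
def BoxT0 : Prop :=
  ∀ (p q : ℕ) [Fact p.Prime] [Fact q.Prime] (G : Type) [Group G] [Finite G] (N : Subgroup G) [N.Normal] [Fintype N],
    ¬ p ∣ Nat.card N → ¬ q ∣ Nat.card N → ∀ (θ : IrrCharacter N) (T : Subgroup G), Stb N θ T → ¬ p ∣ T.index →
    (∀ χ : IrrCharacter G, classInner (fun n : N => (χ : G → ℂ) n) (θ : N → ℂ) ≠ 0 →
      (¬ p ∣ charDegree (χ : G → ℂ) ↔ ¬ q ∣ charDegree (χ : G → ℂ))) →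
    ¬ q ∣ T.index ∧ Tw p q (T ⧸ N.subgroupOf T)

/-- a normal subgroup of order prime to `p q` -/
def BoxT1 : Prop :=
  ∀ (p q : ℕ) [Fact p.Prime] [Fact q.Prime] (X : Type) [Group X] [Finite X] (M A : Subgroup X) [M.Normal],
    ¬ p ∣ Nat.card M → ¬ q ∣ Nat.card M → (∀ a ∈ A, ∀ b ∈ A, a * b = b * a) →
    (∀ r : ℕ, r.Prime → r ∣ Nat.card A → r = p ∨ r = q) → ¬ p ∣ A.index → Tw p q X →
    ∃ X' : Subgroup X, A ≤ X' ∧ M ≤ X' ∧ ¬ q ∣ X'.index ∧ Tw p q (X' ⧸ M.subgroupOf X')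

/-- normal subgroups of index prime to `p q`; direct factors -/
def BoxT2 : Prop :=
  ∀ (p q : ℕ) [Fact p.Prime] [Fact q.Prime] (X : Type) [Group X] [Finite X], Tw p q X →
    (∀ (K : Subgroup X) [K.Normal], ¬ p ∣ K.index → ¬ q ∣ K.index → Tw p q K) ∧
    ∀ (S C : Subgroup X) [S.Normal] [C.Normal], S ⊔ C = ⊤ → S ⊓ C = ⊥ → ⁅S, S⁆ = S → Tw p q S ∧ Tw p q C

/-- the simple case of the relative theorem -/
def BoxT4 : Prop :=
  ∀ (p q : ℕ) [Fact p.Prime] [Fact q.Prime], 2 < q → q < p → ∀ (S : Type) [Group S] [Finite S] (P R : Subgroup S),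
    IsSimpleGroup S → ¬ IsMulCommutative S → Tw p q S → Hy p q P R → Com p q S

/-- `Hy` is inherited -/
def BoxHy : Prop :=
  ∀ (p q : ℕ) [Fact p.Prime] [Fact q.Prime], p ≠ q → ∀ (X : Type) [Group X] [Finite X] (P R : Subgroup X), Hy p q P R →
    (∀ X' : Subgroup X, P ≤ X' → R ≤ X' → Hy p q (P.subgroupOf X') (R.subgroupOf X')) ∧
    (∀ (X' : Type) [Group X'] (f : X →* X'), Function.Surjective f → ¬ p ∣ Nat.card f.ker → ¬ q ∣ Nat.card f.ker →
      Hy p q (P.map f) (R.map f)) ∧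
    ∀ (S C : Subgroup X) [S.Normal] [C.Normal], S ⊔ C = ⊤ → S ⊓ C = ⊥ → Hy p q (P.subgroupOf S) (R.subgroupOf S)

/-- the structure lemma -/
def BoxSL : Prop :=
  ∀ (p q : ℕ) [Fact p.Prime] [Fact q.Prime], 2 < q → q < p → ∀ (X : Type) [Group X] [Finite X], WA p q X →
    (∀ M : Subgroup X, M.Normal → ¬ p ∣ Nat.card M → ¬ q ∣ Nat.card M → M = ⊥) →
    (∀ K : Subgroup X, K.Normal → ¬ p ∣ K.index → ¬ q ∣ K.index → K = ⊤) →
    Com p q X ∨ ∃ S : Subgroup X, S.Normal ∧ IsSimpleGroup S ∧ ¬ IsMulCommutative S ∧ S ⊔ centralizer (S : Set X) = ⊤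

/-- the simple sections -/
def BoxAmb : Prop :=
  ∀ (p q : ℕ) [Fact p.Prime] [Fact q.Prime], 2 < q → q < p → ∀ (Z : Type) [Group Z] [Finite Z] (R : Subgroup Z),
    Loc p q Z → R ≤ center Z → Cy q R → IsPGroup q R → Amb p q Z

/-- the start of the relative theorem -/
def BoxHy0 : Prop :=
  ∀ (p q : ℕ) [Fact p.Prime] [Fact q.Prime], 2 < q → q < p → ∀ (A : Type) [Group A] [Finite A] (P : Sylow p A) (Q : Sylow q A)
    (X : Subgroup A), Loc p q A → (∀ a ∈ (P : Subgroup A), ∀ b ∈ (Q : Subgroup A), a * b = b * a) → (P : Subgroup A) ≤ X →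
    (∃ y ∈ (Q : Subgroup A), (Q : Subgroup A) ≤ ((Q : Subgroup A) ⊓ X) ⊔ zpowers y) →
    Hy p q ((P : Subgroup A).subgroupOf X) ((Q : Subgroup A).subgroupOf X)

/-! ### basic lemmas -/

variable {p q : ℕ} {G : Type u} [Group G]

theorem EE.symm (h : EE p q G) : EE q p G := fun χ => (h χ).symm

theorem EE.surj {H : Type*} [Group H] (h : EE p q G) (f : G →* H) (hf : Function.Surjective f) : EE p q H := fun χ => by
  rw [← Red.deg_infl f hf]
  exact h _

theorem IH.symm {n : ℕ} [Fact p.Prime] [Fact q.Prime] (h : IH p q n) : IH q p n :=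
  fun H _ _ h1 h2 => (h H h1 h2.symm).symm

theorem IH.quot {G : Type} [Group G] [Finite G] (h : IH p q (Nat.card G)) (hE : EE p q G) (N : Subgroup G) [N.Normal]
    (hN : N ≠ ⊥) : Loc p q (G ⧸ N) :=
  h _ (card_quot_lt hN) (hE.surj _ (QuotientGroup.mk'_surjective N))

/-- the partner of a Sylow `p`-subgroup -/
structure Par (P : Sylow p G) (Q : Sylow q G) : Prop where
  abP : ∀ a ∈ (P : Subgroup G), ∀ b ∈ (P : Subgroup G), a * b = b * a
  abQ : ∀ a ∈ (Q : Subgroup G), ∀ b ∈ (Q : Subgroup G), a * b = b * a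
  nor : normalizer ((P : Subgroup G) : Set G) = normalizer ((Q : Subgroup G) : Set G)
  com : ∀ a ∈ (P : Subgroup G), ∀ b ∈ (Q : Subgroup G), a * b = b * a
  mem : ∀ x : G, (∀ a ∈ (P : Subgroup G), a * x = x * a) → El q x → x ∈ (Q : Subgroup G)

theorem mem_of_norm [Fact q.Prime] (Q : Sylow q G) {x : G} (h : x ∈ normalizer ((Q : Subgroup G) : Set G)) (hx : El q x) :
    x ∈ (Q : Subgroup G) := by
  have h7 : IsPGroup q (zpowers x) := by
    obtain ⟨k, hk⟩ := hx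
    exact IsPGroup.of_card (by rw [Nat.card_zpowers, hk])
  have h8 := Q.is_maximal' (IsPGroup.to_sup_of_normal_left' Q.2 h7 (zpowers_le.2 h)) le_sup_left
  exact h8 ▸ mem_sup_right (mem_zpowers x)

theorem par_of [Fact p.Prime] [Fact q.Prime] (hpq : p ≠ q) {P : Sylow p G} {Q : Sylow q G}
    (h1 : IsMulCommutative (P : Subgroup G)) (h2 : IsMulCommutative (Q : Subgroup G))
    (h3 : normalizer ((P : Subgroup G) : Set G) = normalizer ((Q : Subgroup G) : Set G)) : Par P Q := by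
  refine ⟨fun a ha b hb => congrArg Subtype.val (h1.is_comm.comm ⟨a, ha⟩ ⟨b, hb⟩),
    fun a ha b hb => congrArg Subtype.val (h2.is_comm.comm ⟨a, ha⟩ ⟨b, hb⟩), h3, fun a ha b hb => ?_, fun x h4 h5 =>
      mem_of_norm Q (h3 ▸ centralizer_le_normalizer _ (mem_centralizer_iff.2 h4)) h5⟩
  have h4 : a ∈ normalizer ((Q : Subgroup G) : Set G) := h3 ▸ le_normalizer ha
  have h5 : b ∈ normalizer ((P : Subgroup G) : Set G) := h3 ▸ le_normalizer hb
  have h6 : a * b * a⁻¹ * b⁻¹ = 1 := mem_bot.1 ((IsPGroup.disjoint_of_ne p q hpq _ _ P.2 Q.2).le_bot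
    (mem_inf.2 ⟨by simpa only [mul_assoc] using mul_mem ha ((mem_normalizer_iff.1 h5 _).1 (inv_mem ha)),
      mul_mem ((mem_normalizer_iff.1 h4 _).1 hb) (inv_mem hb)⟩))
  rwa [mul_inv_eq_one, mul_inv_eq_iff_eq_mul] at h6

theorem Par.loc {P : Sylow p G} {Q : Sylow q G} (h : Par P Q) : Loc p q G :=
  ⟨P, Q, ⟨⟨fun a b => Subtype.ext (h.abP a a.2 b b.2)⟩⟩, ⟨⟨fun a b => Subtype.ext (h.abQ a a.2 b b.2)⟩⟩, h.nor⟩

theorem comm_smul {r : ℕ} {P : Sylow r G} (h : IsMulCommutative (P : Subgroup G)) (g : G) :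
    IsMulCommutative ((g • P : Sylow r G) : Subgroup G) :=
  ⟨⟨fun a b => (P.equivSMul g).symm.injective (by rw [map_mul, map_mul, h.is_comm.comm])⟩⟩

theorem exists_par [Finite G] [Fact p.Prime] [Fact q.Prime] (hpq : p ≠ q) (h : Loc p q G) (P : Sylow p G) :
    ∃ Q : Sylow q G, Par P Q := by
  obtain ⟨P₀, Q, h1, h2, h3⟩ := h
  obtain ⟨g, rfl⟩ := MulAction.exists_smul_eq G P₀ P
  refine ⟨g • Q, par_of hpq (comm_smul h1 g) (comm_smul h2 g) ?_⟩
  have key : ∀ {r : ℕ} (U : Sylow r G) (x : G), x ∈ normalizer (((g • U : Sylow r G) : Subgroup G) : Set G) ↔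
      g⁻¹ * x * g ∈ normalizer ((U : Subgroup G) : Set G) := fun U x => by
    refine Sylow.smul_eq_iff_mem_normalizer.symm.trans (Iff.trans ?_ Sylow.smul_eq_iff_mem_normalizer)
    rw [mul_smul, mul_smul, inv_smul_eq_iff]
  ext x
  rw [key, key, h3]

theorem loc_com [Finite G] [Fact p.Prime] [Fact q.Prime] (hpq : p ≠ q) (h : Loc p q G) : Com p q G :=
  let ⟨P, _⟩ := h
  let ⟨Q, h1⟩ := exists_par hpq h P
  ⟨P, Q, h1.com⟩

theorem comm_of_min {G : Type} [Group G] [Finite G] {N : Subgroup G} [N.Normal] (h : MinN N) {r : ℕ} (hr : r.Prime)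
    (hN : IsPGroup r N) : IsMulCommutative N := by
  have := Fact.mk hr
  have h3 : (center N).map N.subtype = N := (h.2 _ inferInstance (map_subtype_le _)).resolve_left fun h3 => by
    rw [map_eq_bot_iff_of_injective _ N.subtype_injective] at h3
    have : Nontrivial N := (nontrivial_iff_ne_bot N).2 h.1
    exact (nontrivial_iff_ne_bot _).1 hN.center_nontrivial h3
  refine ⟨⟨fun a b => ?_⟩⟩
  obtain ⟨c, hc, hca⟩ : (a : G) ∈ (center N).map N.subtype := by rw [h3]; exact a.2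
  obtain rfl : c = a := Subtype.ext hca
  exact (mem_center_iff.1 hc b).symm

theorem psolv_up {G : Type} [Group G] [Finite G] (hp : p.Prime) (N : Subgroup G) [N.Normal] (hN : ¬ p ∣ Nat.card N)
    (h : IsPSolvable p (G ⧸ N)) : IsPSolvable p G :=
  have := Fact.mk hp
  Lib.PSolvable.IsPSolvable_of_quotient p N (.inr (hp.coprime_iff_not_dvd.2 hN).symm) h

theorem Tw.equiv {X X' : Type} [Group X] [Group X'] (h : Tw p q X) (e : X ≃* X') : Tw p q X' := by
  obtain ⟨T, _, _, f, lam, h1, h2, h3, h4, h5⟩ := h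
  have h6 : (e.toMonoidHom.comp f).ker = f.ker := by
    ext x
    exact e.map_eq_one_iff
  refine ⟨T, _, inferInstance, e.toMonoidHom.comp f, lam.comp (inclusion h6.le), e.surjective.comp h1, h6 ▸ h2, h6 ▸ h3,
    h6 ▸ h4, fun χ hχ => h5 χ fun z => hχ ⟨z, h6.ge z.2⟩⟩

theorem Hy.ac {S : Type} [Group S] {P : Subgroup S} (h : Hy p q P ⊥) (h1 : IsSimpleGroup S) (h2 : ¬ IsMulCommutative S)
    (h3 : p ∣ Nat.card S) (h4 : q ∣ Nat.card S) : AC p q S :=
  h.amb ⊤ S ((Subgroup.subtype _).comp (Subgroup.subtype _)) (fun x => ⟨⟨⟨x, mem_centralizer_iff.2 fun y hy => by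
    rw [mem_bot.1 hy, one_mul, mul_one]⟩, mem_top _⟩, rfl⟩) h1 h2 h3 h4

/-- **the assembly** -/
theorem loc_of (hTwo : BoxTwo) (hSol : BoxSol) (hEv : BoxEv) (hA : BoxA) (hB : BoxB) (hC : BoxC) (hD : BoxD) [hp : Fact p.Prime]
    [hq : Fact q.Prime] (hpq : p ≠ q) : ∀ (n : ℕ) (G : Type) [Group G] [Finite G], Nat.card G = n → EE p q G → Loc p q G := by
  intro n
  induction n using Nat.strong_induction_on with
  | _ n ih =>
  intro G _ _ hn hE
  have hI : IH p q (Nat.card G) := fun H _ _ h1 h2 => ih _ (hn ▸ h1) H rfl h2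
  by_cases htop : (⊤ : Subgroup G) = ⊥
  · have : Subsingleton G := ⟨fun a b => (mem_bot.1 (htop ▸ mem_top a)).trans (mem_bot.1 (htop ▸ mem_top b)).symm⟩
    exact ⟨default, default, ⟨⟨fun _ _ => Subsingleton.elim _ _⟩⟩, ⟨⟨fun _ _ => Subsingleton.elim _ _⟩⟩, Subsingleton.elim _ _⟩
  obtain ⟨N, hNn, -, hN0, hmin⟩ := H364.exists_minimal_normal_le (⊤ : Subgroup G) inferInstance htop
  have hM : MinN N := ⟨hN0, hmin⟩
  have hL := hI.quot hE N hN0
  by_cases hab : IsMulCommutative N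
  · obtain ⟨r, hr, hrN⟩ : ∃ r, r.Prime ∧ IsPGroup r N := by
      rcases H364.minimal_normal_cases2 N hN0 hmin with h | ⟨m, S, hm, hSN, -, hS, -⟩
      · exact h
      · exact (hS ⟨0, hm⟩ fun a b => Subtype.ext
          (congrArg (Subtype.val : N → G) (hab.is_comm.comm ⟨a, hSN _ a.2⟩ ⟨b, hSN _ b.2⟩))).elim
    have := Fact.mk hr
    obtain ⟨j, hj⟩ := IsPGroup.iff_card.1 hrN
    have key : ∀ t : ℕ, t.Prime → t ≠ r → ¬ t ∣ Nat.card N := fun t ht htr hd =>
      htr ((Nat.prime_dvd_prime_iff_eq ht hr).1 (ht.dvd_of_dvd_pow (hj ▸ hd)))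
    by_cases hpr : p = r
    · exact hB p q hpq G N hN0 hab (hpr ▸ hrN) hI hE
    by_cases hqr : q = r
    · exact (hB q p hpq.symm G N hN0 hab (hqr ▸ hrN) hI.symm hE.symm).symm
    have h1 := key p hp.out hpr
    have h2 := key q hq.out hqr
    by_cases hq2 : q = 2
    · subst hq2
      exact (hSol 2 p hpq.symm G N h1 hL.symm (psolv_up hp.out N h1 (hEv p hp.out hpq _ (loc_com hpq hL))) hE.symm).symm
    by_cases hp2 : p = 2
    · subst hp2
      exact hSol 2 q hpq G N h2 hL (psolv_up hq.out N h2 (hEv q hq.out hq2 _ (loc_com hpq hL).symm)) hE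
    rcases hpq.lt_or_gt with h | h
    · exact (hA q p (lt_of_le_of_ne hp.out.two_le (Ne.symm hp2)) h G N hab h2 h1 hL.symm hE.symm).symm
    · exact hA p q (lt_of_le_of_ne hq.out.two_le (Ne.symm hq2)) h G N hab h1 h2 hL hE
  by_cases hc : centralizer (N : Set G) = ⊥
  swap
  · refine hTwo p q hpq G _ N ((hmin _ inferInstance inf_le_right).resolve_right fun e => hab ⟨⟨fun a b => ?_⟩⟩)
      (hI.quot hE _ hc) hL
    exact Subtype.ext (mem_centralizer_iff.1 (e.ge b.2).1 a a.2)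
  by_cases h2 : q ∣ Nat.card N
  swap
  · exact hSol p q hpq G N h2 hL (hC p q hpq G N hM hab hc h2 hI hE) hE
  by_cases h1 : p ∣ Nat.card N
  · exact hD p q hpq G N hM hab hc h1 h2 hI hE
  · exact (hSol q p hpq.symm G N h1 hL.symm (hC q p hpq.symm G N hM hab hc h1 hI.symm hE.symm) hE.symm).symm

end Cfsg.Agent.PQ.EL
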