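import Cfsg.Agent.PQ.EL.Defs
import Cfsg.Agent.PLocal.PConstrained

/-!
# S4982: `Hy` is inherited by subgroups, coprime quotients and direct factors (helper76)
-/

set_option autoImplicit false
set_option linter.unusedSectionVars false

namespace Cfsg.Agent.PQ.EL

open Cfsg Subgroup Function

namespace HyB

variable {p q : ℕ} {X X' : Type} [Group X] [Group X']

theorem wa_inj (h : WA p q X) (φ : X' →* X) (hφ : Injective φ) : WA p q X' := fun A hA a ha b hb =>
  hφ (by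
    rw [map_mul, map_mul]
    exact h (A.map φ) (fun r hr hd => hA r hr (by rwa [card_map_of_injective hφ] at hd)) _ (mem_map_of_mem φ ha) _
      (mem_map_of_mem φ hb))

theorem amb_inj (h : Amb p q X) (φ : X' →* X) (hφ : Injective φ) : Amb p q X' := fun Y S _ f hf =>
  h (Y.map φ) S (f.comp (Y.equivMapOfInjective φ hφ).symm.toMonoidHom) (hf.comp (MulEquiv.surjective _))

theorem amb_surj (h : Amb p q X) (φ : X →* X') (hφ : Surjective φ) : Amb p q X' := fun Y S _ f hf =>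
  h (Y.comap φ) S (f.comp (φ.subgroupComap Y)) (hf.comp (φ.subgroupComap_surjective_of_surjective Y hφ))

theorem pR {P R : Subgroup X} (h : Hy p q P R) : IsPGroup q R := fun x =>
  let ⟨k, hk⟩ := ((h.mem x).1 x.2).1
  ⟨k, Subtype.ext (by rw [coe_pow, ← hk, pow_orderOf_eq_one, coe_one])⟩

theorem el_of [Fact q.Prime] {Q : Subgroup X} (h : IsPGroup q Q) {x : X} (hx : x ∈ Q) : El q x := by
  obtain ⟨k, hk⟩ := IsPGroup.iff_orderOf.1 h ⟨x, hx⟩
  exact ⟨k, by rw [← hk, orderOf_mk]⟩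

theorem el_map [hq : Fact q.Prime] {x : X} (h : El q x) (f : X →* X') : El q (f x) := by
  obtain ⟨k, hk⟩ := h
  obtain ⟨j, -, hj⟩ := (Nat.dvd_prime_pow hq.out).1 (hk ▸ orderOf_map_dvd f x)
  exact ⟨j, hj⟩

theorem zp_of {x : X} (h : El q x) : IsPGroup q (zpowers x) :=
  let ⟨_, hk⟩ := h
  IsPGroup.of_card (by rw [Nat.card_zpowers, hk])

/-- Schur-Zassenhaus lift -/
theorem lift [Finite X] (f : X →* X') (hf : Surjective f) (A' : Subgroup X') (hc : (Nat.card f.ker).Coprime (Nat.card A')) :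
    ∃ A : Subgroup X, A.map f = A' ∧ Nat.card A = Nat.card A' := by
  have hg := f.subgroupComap_surjective_of_surjective A' hf
  have h1 : (f.subgroupComap A').ker.index = Nat.card A' := by
    rw [index_ker, MonoidHom.range_eq_top.2 hg, card_top]
  have h2 : Nat.card (f.subgroupComap A').ker ∣ Nat.card f.ker := by
    have : (f.subgroupComap A').ker = f.ker.comap (A'.comap f).subtype := by
      ext x
      exact Subtype.ext_iff
    rw [this]
    exact card_comap_dvd_of_injective _ _ (subtype_injective _)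
  obtain ⟨K, hK⟩ := exists_right_complement'_of_coprime (N := (f.subgroupComap A').ker)
    (h1 ▸ Nat.Coprime.coprime_dvd_left h2 hc)
  refine ⟨K.map (A'.comap f).subtype, le_antisymm ?_ fun a ha => ?_, ?_⟩
  · rintro _ ⟨_, ⟨k, -, rfl⟩, rfl⟩
    exact k.2
  · obtain ⟨b, hb⟩ := hg ⟨a, ha⟩
    obtain ⟨⟨n, k⟩, hnk, -⟩ := hK.existsUnique b
    refine ⟨k.1, ⟨k.1, k.2, rfl⟩, ?_⟩
    have h3 : f.subgroupComap A' k.1 = ⟨a, ha⟩ := by
      rw [← hb, ← hnk, map_mul, MonoidHom.mem_ker.1 n.2, one_mul]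
    exact congrArg Subtype.val h3
  · rw [card_map_of_injective (subtype_injective _), ← h1, hK.symm.index_eq_card]

/-- Sylow lift -/
theorem liftq [Finite X] [hq : Fact q.Prime] (f : X →* X') {B R : Subgroup X} (hQ : IsPGroup q (B.map f)) (hR : IsPGroup q R)
    (h1 : R ≤ B) : ∃ Q : Subgroup X, R ≤ Q ∧ Q ≤ B ∧ IsPGroup q Q ∧ Q.map f = B.map f := by
  obtain ⟨T, hT⟩ := (hR.comap_subtype (K := B)).exists_le_sylow
  have : Finite (B.map f) := .of_surjective _ (f.subgroupMap_surjective B)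
  have h2 : (T : Subgroup B).map (f.subgroupMap B) = ⊤ := by
    obtain ⟨n, hn⟩ := hQ.index ((T : Subgroup B).map (f.subgroupMap B))
    have h3 := (T : Subgroup B).index_map_dvd (f.subgroupMap_surjective B)
    rcases n with _ | n
    · exact index_eq_one.1 (by rw [hn, pow_zero])
    · exact (T.not_dvd_index ((hn ▸ dvd_pow_self q n.succ_ne_zero).trans h3)).elim
  refine ⟨(T : Subgroup B).map B.subtype, fun r hr => ⟨⟨r, h1 hr⟩, hT hr, rfl⟩, map_subtype_le _, T.2.map _,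
    le_antisymm (map_mono (map_subtype_le _)) fun a ha => ?_⟩
  obtain ⟨t, ht, h4⟩ : (⟨a, ha⟩ : B.map f) ∈ (T : Subgroup B).map (f.subgroupMap B) := h2 ▸ mem_top _
  exact ⟨t, ⟨t, ht, rfl⟩, congrArg Subtype.val h4⟩

/-- subgroups -/
theorem sub {P R : Subgroup X} (h : Hy p q P R) (Y : Subgroup X) (h1 : P ≤ Y) (h2 : R ≤ Y) :
    Hy p q (P.subgroupOf Y) (R.subgroupOf Y) where
  wa := wa_inj h.wa _ Y.subtype_injective
  pP := h.pP.comap_subtype
  iP := fun hd => h.iP (hd.trans (relIndex_dvd_index_of_le h1))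
  mem := fun x => by
    rw [mem_subgroupOf, h.mem]
    refine and_congr (by rw [El, El, orderOf_coe]) ⟨fun h3 a ha => Subtype.ext (h3 a ha), fun h3 a ha => ?_⟩
    exact congrArg Subtype.val (h3 ⟨a, h1 ha⟩ ha)
  cyc := fun Q hQ h3 => by
    obtain ⟨_, ⟨y, hy, rfl⟩, h4⟩ := h.cyc (Q.map Y.subtype) (hQ.map _) fun r hr => ⟨⟨r, h2 hr⟩, h3 hr, rfl⟩
    refine ⟨y, hy, (map_le_map_iff_of_injective Y.subtype_injective).1 ?_⟩
    rwa [Subgroup.map_sup, MonoidHom.map_zpowers, subgroupOf_map_subtype, inf_eq_left.2 h2]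
  amb := amb_inj h.amb ((Y.subtype.comp (Subgroup.subtype _)).codRestrict _ fun x => mem_centralizer_iff.2 fun r hr =>
      congrArg Subtype.val (mem_centralizer_iff.1 x.2 ⟨r, h2 hr⟩ hr))
    fun _ _ h3 => Subtype.ext (Subtype.ext (Subtype.ext_iff.1 h3 :))

/-- coprime quotients -/
theorem quo [Finite X] [hp : Fact p.Prime] [hq : Fact q.Prime] {P R : Subgroup X} (h : Hy p q P R) (f : X →* X')
    (hf : Surjective f) (h1 : ¬ p ∣ Nat.card f.ker) (h2 : ¬ q ∣ Nat.card f.ker) : Hy p q (P.map f) (R.map f) where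
  wa := fun A' hA => by
    obtain ⟨A, rfl, h3⟩ := lift f hf A' (Nat.coprime_of_dvd fun r hr h3 h4 => by
      rcases hA r hr h4 with rfl | rfl
      exacts [h1 h3, h2 h3])
    rintro _ ⟨a, ha, rfl⟩ _ ⟨b, hb, rfl⟩
    rw [← map_mul, ← map_mul, h.wa A (fun r hr hd => hA r hr (h3 ▸ hd)) a ha b hb]
  pP := h.pP.map f
  iP := fun hd => h.iP (hd.trans (P.index_map_dvd hf))
  mem := fun x => by
    constructor
    · rintro ⟨y, hy, rfl⟩
      obtain ⟨h3, h4⟩ := (h.mem y).1 hy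
      refine ⟨el_map h3 f, ?_⟩
      rintro _ ⟨a, ha, rfl⟩
      rw [← map_mul, ← map_mul, h4 a ha]
    · rintro ⟨h3, h4⟩
      have h5 : x ∈ centralizer ((P.map f : Subgroup X') : Set X') := mem_centralizer_iff.2 h4
      rw [← PLocal.PConstrained.map_centralizer_eq f hf (hp.out.coprime_iff_not_dvd.2 h1).symm h.pP] at h5
      obtain ⟨c, hc, rfl⟩ := h5
      obtain ⟨Q, -, h6, h7, h8⟩ := liftq (q := q) f (B := zpowers c) (R := ⊥) (by rw [MonoidHom.map_zpowers]; exact zp_of h3)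
        IsPGroup.of_bot bot_le
      obtain ⟨y, hy, h9⟩ : f c ∈ Q.map f := h8 ▸ mem_map_of_mem f (mem_zpowers c)
      exact ⟨y, (h.mem y).2 ⟨el_of h7 hy, mem_centralizer_iff.1 (zpowers_le.2 hc (h6 hy))⟩, h9⟩
  cyc := fun Q' hQ h3 => by
    have h4 := map_comap_eq_self_of_surjective hf Q'
    obtain ⟨Q, h5, -, h6, h7⟩ := liftq f (B := Q'.comap f) (h4.symm ▸ hQ) (pR h) (map_le_iff_le_comap.1 h3)
    obtain ⟨y, hy, h8⟩ := h.cyc Q h6 h5
    rw [← h4, ← h7]
    refine ⟨f y, mem_map_of_mem f hy, ?_⟩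
    rw [← MonoidHom.map_zpowers, ← Subgroup.map_sup]
    exact map_mono h8
  amb := by
    rw [← PLocal.PConstrained.map_centralizer_eq f hf (hq.out.coprime_iff_not_dvd.2 h2).symm (pR h)]
    exact amb_surj h.amb _ (f.subgroupMap_surjective _)

/-- the projection onto a direct factor -/
theorem proj (S C : Subgroup X) [S.Normal] [C.Normal] (h1 : S ⊔ C = ⊤) (h2 : S ⊓ C = ⊥) :
    ∃ π : X →* S, (∀ s : S, π s = s) ∧ (∀ c ∈ C, π c = 1) ∧ ∀ x, (π x : X)⁻¹ * x ∈ C := by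
  have hb : Bijective ((QuotientGroup.mk' C).comp S.subtype) := by
    refine ⟨(injective_iff_map_eq_one _).2 fun s hs => Subtype.ext (mem_bot.1 (h2 ▸ mem_inf.2 ⟨s.2, ?_⟩)), fun x => ?_⟩
    · exact (QuotientGroup.eq_one_iff _).1 hs
    · obtain ⟨x, rfl⟩ := QuotientGroup.mk'_surjective C x
      obtain ⟨s, hs, c, hc, rfl⟩ := mem_sup_of_normal_right.1 (h1 ▸ mem_top x)
      refine ⟨⟨s, hs⟩, ?_⟩
      rw [map_mul, (QuotientGroup.mk'_apply C c).trans ((QuotientGroup.eq_one_iff _).2 hc), mul_one]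
      rfl
  refine ⟨(MulEquiv.ofBijective _ hb).symm.toMonoidHom.comp (QuotientGroup.mk' C),
    fun s => (MulEquiv.ofBijective _ hb).symm_apply_apply s, fun c hc => ?_, fun x => ?_⟩
  · rw [MonoidHom.comp_apply, (QuotientGroup.mk'_apply C c).trans ((QuotientGroup.eq_one_iff _).2 hc), map_one]
  · exact QuotientGroup.eq.1 ((MulEquiv.ofBijective _ hb).apply_symm_apply (QuotientGroup.mk' C x))

/-- direct factors -/
theorem fac [Finite X] [hp : Fact p.Prime] [hq : Fact q.Prime] {P R : Subgroup X} (h : Hy p q P R) (S C : Subgroup X) [hS : S.Normal]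
    [hC : C.Normal] (h1 : S ⊔ C = ⊤) (h2 : S ⊓ C = ⊥) : Hy p q (P.subgroupOf S) (R.subgroupOf S) := by
  obtain ⟨π, π1, π2, π3⟩ := proj S C h1 h2
  have com : ∀ s ∈ S, ∀ c ∈ C, s * c = c * s := fun s hs c hc =>
    (commute_of_normal_of_disjoint S C hS hC (disjoint_iff.2 h2) s c hs hc).eq
  have dec : ∀ x : X, x = π x * ((π x : X)⁻¹ * x) := fun x => by rw [mul_inv_cancel_left]
  have cj : ∀ (x : X) (s : S), x * s * x⁻¹ = π x * s * (π x : X)⁻¹ := fun x s => by
    have h3 := π1 ⟨x * s * x⁻¹, hS.conj_mem _ s.2 x⟩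
    rw [map_mul, map_mul, map_inv, π1] at h3
    exact (congrArg Subtype.val h3).symm
  -- a subgroup normalises its projection
  have nor : ∀ U : Subgroup X, U ≤ normalizer (((U.map π).map S.subtype : Subgroup X) : Set X) := fun U x hx => by
    refine mem_normalizer_fintype ?_
    rintro _ ⟨_, ⟨u, hu, rfl⟩, rfl⟩
    refine ⟨π (x * u * x⁻¹), mem_map_of_mem π (mul_mem (mul_mem hx hu) (inv_mem hx)), ?_⟩
    rw [map_mul π, map_mul π, map_inv π]
    exact (cj x (π u)).symm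
  have hP : ∀ a ∈ P, (π a : X) ∈ P := fun a ha => by
    have h3 := (h.pP.toSylow h.iP).is_maximal' (IsPGroup.to_sup_of_normal_right' h.pP ((h.pP.map π).map S.subtype) (nor P))
      le_sup_left
    exact h3.le (mem_sup_right (mem_map_of_mem _ (mem_map_of_mem π ha)))
  have hP' : P.map π = P.subgroupOf S := le_antisymm (by rintro _ ⟨a, ha, rfl⟩; exact hP a ha) fun a ha => ⟨a, ha, π1 a⟩
  have cen : ∀ (U : Subgroup X), (∀ a ∈ U, (π a : X) ∈ U) → ∀ x : S, (∀ a ∈ U.subgroupOf S, a * x = x * a) →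
      ∀ a ∈ U, a * x = x * a := fun U hU x h3 a ha => by
    have h4 := congrArg Subtype.val (h3 (π a) (hU a ha))
    rw [coe_mul, coe_mul] at h4
    rw [dec a, mul_assoc, ← com x x.2 _ (π3 a), ← mul_assoc, h4, mul_assoc]
  have hm : ∀ x : S, x ∈ R.subgroupOf S ↔ El q x ∧ ∀ a ∈ P.subgroupOf S, a * x = x * a := fun x => by
    rw [mem_subgroupOf, h.mem]
    exact and_congr (by rw [El, El, orderOf_coe]) ⟨fun h3 a ha => Subtype.ext (h3 a ha), cen P hP x⟩
  have hR : ∀ a ∈ R, (π a : X) ∈ R := fun a ha => by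
    obtain ⟨h3, h4⟩ := (h.mem a).1 ha
    refine (hm (π a)).2 ⟨el_map h3 π, fun b hb => ?_⟩
    rw [← π1 b, ← map_mul, ← map_mul, h4 b hb]
  have hR' : R.map π = R.subgroupOf S := le_antisymm (by rintro _ ⟨a, ha, rfl⟩; exact hR a ha) fun a ha => ⟨a, ha, π1 a⟩
  refine ⟨wa_inj h.wa _ S.subtype_injective, h.pP.comap_subtype,
    fun hd => h.iP ((hP' ▸ hd).trans (P.index_map_dvd fun s => ⟨s, π1 s⟩)), hm, fun Q hQ h3 => ?_, ?_⟩
  · have h4 : R ≤ normalizer ((Q.map S.subtype : Subgroup X) : Set X) := fun x hx => by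
      refine mem_normalizer_fintype ?_
      rintro _ ⟨u, hu, rfl⟩
      exact ⟨π x * u * (π x)⁻¹, mul_mem (mul_mem (h3 (hR x hx)) hu) (inv_mem (h3 (hR x hx))), (cj x u).symm⟩
    obtain ⟨y, hy, h5⟩ := h.cyc _ (IsPGroup.to_sup_of_normal_right' (pR h) (hQ.map S.subtype) h4) le_sup_left
    have h6 : (R ⊔ Q.map S.subtype).map π = Q := by
      rw [Subgroup.map_sup, hR', map_map, show π.comp S.subtype = MonoidHom.id S from MonoidHom.ext π1, map_id, sup_eq_right.2 h3]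
    refine ⟨π y, h6 ▸ mem_map_of_mem π hy, ?_⟩
    rw [← h6, ← MonoidHom.map_zpowers, ← hR', ← Subgroup.map_sup]
    exact map_mono h5
  · exact amb_inj h.amb ((S.subtype.comp (Subgroup.subtype _)).codRestrict _ fun x => mem_centralizer_iff.2
      (cen R hR x.1 (mem_centralizer_iff.1 x.2))) fun _ _ h3 => Subtype.ext (Subtype.ext (Subtype.ext_iff.1 h3 :))

end HyB

/-- **`Hy` is inherited** -/
theorem boxHy : BoxHy := fun _ _ _ _ _ _ _ _ _ _ h =>
  ⟨HyB.sub h, fun _ _ f => HyB.quo h f, fun S C _ _ => HyB.fac h S C⟩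

end Cfsg.Agent.PQ.EL
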