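import Cfsg.Agent.PQ.EL.Defs
import Cfsg.Agent.S4981

/-!
# S4982: the `q`-solvable case and the prime `2` (helper29)

`boxSol_of : BoxStar → BoxSol`, `boxEv : BoxEv`.
-/

set_option autoImplicit false
set_option linter.unusedSectionVars false

namespace Cfsg.Agent.PQ.EL

open Cfsg Cfsg.Agent.LV Cfsg.Agent.PQ.LE Subgroup

namespace Sol

variable {p : ℕ} [Fact p.Prime] {G H : Type} [Group G] [Group H] [Finite G] {f : G →* H}

theorem mem_smul (g : G) (P : Sylow p G) (x : G) : x ∈ ((g • P : Sylow p G) : Subgroup G) ↔ g⁻¹ * x * g ∈ (P : Subgroup G) := by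
  rw [Sylow.coe_subgroup_smul, mem_pointwise_smul_iff_inv_smul_mem, MulAut.smul_def, MulAut.conj_inv_apply]

/-- the normaliser of the image of a Sylow subgroup is the image of the normaliser -/
theorem lift (hf : Function.Surjective f) (P : Sylow p G) {x : H}
    (hx : x ∈ normalizer (((P.mapSurjective hf : Sylow p H) : Subgroup H) : Set H)) :
    ∃ g ∈ normalizer ((P : Subgroup G) : Set G), f g = x := by
  obtain ⟨g, rfl⟩ := hf x
  have h1 : (P : Subgroup G) ≤ ((P : Subgroup G).map f).comap f := le_comap_map _ _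
  have h2 : ((g • P : Sylow p G) : Subgroup G) ≤ ((P : Subgroup G).map f).comap f := fun a ha => by
    have h3 := (mem_normalizer_iff.1 hx _).1 (h1 ((mem_smul g P a).1 ha))
    rwa [map_mul, map_mul, map_inv, ← mul_assoc, ← mul_assoc, mul_inv_cancel, one_mul, mul_inv_cancel_right] at h3
  obtain ⟨h, e⟩ := MulAction.exists_smul_eq ↥(((P : Subgroup G).map f).comap f) ((g • P).subtype h2) (P.subtype h1)
  rw [Sylow.smul_subtype] at e
  obtain ⟨a, ha, e'⟩ := h.2
  have h4 : (h : G) * g ∈ normalizer ((P : Subgroup G) : Set G) :=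
    Sylow.smul_eq_iff_mem_normalizer.1 ((mul_smul _ _ _).trans (Sylow.subtype_injective e))
  exact ⟨a⁻¹ * (h * g), mul_mem (inv_mem (le_normalizer ha)) h4, by
    rw [map_mul, map_mul, map_inv, e', inv_mul_cancel_left]⟩

end Sol

theorem boxSol_of (h : BoxStar) : BoxSol := by
  intro p q hp hq hpq G _ _ N _ hN hL hs hE
  obtain ⟨P, Q, h1, -⟩ := (S4981.result p q hpq hs).1 fun χ => (hE χ).1
  have hf := QuotientGroup.mk'_surjective N
  obtain ⟨Q₀, h2⟩ := exists_par hpq hL (P.mapSurjective hf)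
  have h3 : Q₀ = Q.mapSurjective hf := (Sylow.ext (Q₀.is_maximal' (Q.mapSurjective hf).2 fun x hx => by
    obtain ⟨g, h4, e⟩ := Sol.lift hf P (h2.nor ▸ le_normalizer hx)
    exact mem_of_norm _ (e ▸ le_normalizer_map _ ⟨g, h1 h4, rfl⟩) (Red.order_of_mem hq.out Q₀.2 hx))).symm
  subst h3
  have h4 : ∀ x ∈ (Q : Subgroup G), QuotientGroup.mk' N x = 1 → x = 1 := fun x hx e => by
    obtain ⟨k, hk⟩ := Red.order_of_mem hq.out Q.2 hx
    have h5 := orderOf_dvd_natCard N ((QuotientGroup.eq_one_iff x).1 e)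
    rw [hk] at h5
    rw [← orderOf_eq_one_iff, hk]
    exact Nat.eq_one_of_dvd_coprimes ((hq.out.coprime_iff_not_dvd.2 hN).pow_left k) dvd_rfl h5
  refine h p q hpq G P Q (fun a ha b hb => ?_) (fun a ha b hb => ?_)
    (fun x h5 h6 => mem_of_norm Q (h1 (centralizer_le_normalizer _ (mem_centralizer_iff.2 h5))) h6) fun χ => (hE χ).2
  · rw [← mul_inv_eq_one]
    refine h4 _ (mul_mem (mul_mem ha hb) (inv_mem (mul_mem hb ha))) ?_
    rw [map_mul, map_inv, map_mul, map_mul, h2.abQ _ ⟨a, ha, rfl⟩ _ ⟨b, hb, rfl⟩, mul_inv_cancel]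
  · rw [← mul_inv_eq_iff_eq_mul, ← mul_inv_eq_one]
    refine h4 _ (mul_mem ((mem_normalizer_iff.1 (h1 (le_normalizer ha)) b).1 hb) (inv_mem hb)) ?_
    rw [map_mul, map_mul, map_mul, map_inv, map_inv, h2.com _ ⟨a, ha, rfl⟩ _ ⟨b, hb, rfl⟩, mul_inv_cancel_right,
      mul_inv_cancel]

theorem boxEv : BoxEv := by
  intro p hp hp2 X _ _
  have := Fact.mk hp
  generalize hn : Nat.card X = n
  induction n using Nat.strong_induction_on generalizing X with
  | _ n ih =>
  intro hc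
  by_cases htop : (⊤ : Subgroup X) = ⊥
  · have : Subsingleton X := ⟨fun a b => (mem_bot.1 (htop ▸ mem_top a)).trans (mem_bot.1 (htop ▸ mem_top b)).symm⟩
    exact Lib.PSolvable.IsPSolvable_of_solvable p
  obtain ⟨N, hNn, -, hN0, hmin⟩ := H364.exists_minimal_normal_le (⊤ : Subgroup X) inferInstance htop
  refine Lib.PSolvable.IsPSolvable_of_quotient p N ?_ (ih _ (hn ▸ card_quot_lt hN0) (X ⧸ N) rfl
    (Red.com_surj hp Nat.prime_two hc _ (QuotientGroup.mk'_surjective N)))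
  refine or_iff_not_imp_right.2 fun h1 => ?_
  have h2 : p ∣ Nat.card N := by_contra fun e => h1 (hp.coprime_iff_not_dvd.2 e).symm
  rcases H364.minimal_normal_cases2 N hN0 hmin with ⟨r, hr, hrN⟩ | ⟨m, S, hm, hSN, hS, hSna, hSt, -, hcomm, hsup⟩
  · have := Fact.mk hr
    obtain ⟨j, hj⟩ := IsPGroup.iff_card.1 hrN
    exact ⟨j, hj.trans (by rw [(Nat.prime_dvd_prime_iff_eq hp hr).1 (hp.dvd_of_dvd_pow (hj ▸ h2))])⟩
  · let i : Fin m := ⟨0, hm⟩
    have := hS i
    have : ((S i).subgroupOf N).Normal := ⟨fun g hg n => H693.PB.normalizes_factor S hcomm i (hsup ▸ n.2) hg⟩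
    have hna : ¬ IsMulCommutative (S i) := fun e => hSna i e.is_comm.comm
    exact ((Red.pair_of_com hna hp Nat.prime_two hp2 (hSt p hp h2 i) (by_contra fun e =>
      hna ⟨⟨IsSimpleGroup.comm_iff_isSolvable.2 (S0205.result (Nat.odd_iff.2 (Nat.two_dvd_ne_zero.1 e)))⟩⟩)
      (Red.com_surj hp Nat.prime_two (Red.com_normal hp Nat.prime_two (Red.com_normal hp Nat.prime_two hc N)
        ((S i).subgroupOf N)) (subgroupOfEquivOfLe (hSN i)).toMonoidHom (subgroupOfEquivOfLe (hSN i)).surjective)).q2 rfl).elim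

end Cfsg.Agent.PQ.EL
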