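import Cfsg.Agent.PQ.EL.Defs
import Cfsg.Agent.H662.IrrTransport
import Cfsg.Agent.H597.Degrees
import Cfsg.Agent.Blocks.Over
import Cfsg.Agent.Blocks.Fong
import Cfsg.Agent.S0919
import Cfsg.Agent.S0920
import Cfsg.Agent.S0921
import Cfsg.Agent.S0934
import Cfsg.Agent.S0953
import Cfsg.Agent.S1289
import Cfsg.Agent.S4760

/-!
# S4982: one normality is enough (helper72)

`Q` is an abelian Sylow `q`-subgroup which centralises the Sylow `p`-subgroup `P` and contains the `q`-elements of the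
centraliser of `P`.  If the degrees prime to `q` are prime to `p`, then `P` is abelian and normal in the centraliser of `Q`.
-/

set_option autoImplicit false
set_option linter.unusedSectionVars false

namespace Cfsg.Agent.PQ.EL

open Cfsg Cfsg.Agent.PQ.LE Subgroup

universe u

variable {G : Type u} [Group G] [Finite G] {p q : ℕ} [hp : Fact p.Prime] [hq : Fact q.Prime] {M : Ideal AlgInt}

theorem star_deg_tr {A B : Type*} [Group A] [Group B] (e : A ≃* B) (ξ : IrrCharacter A) :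
    charDegree (H662.tr e ξ : B → ℂ) = charDegree (ξ : A → ℂ) := by
  unfold charDegree
  rw [H662.tr_apply_one]

/-- the case of a central `Q` -/
theorem star_base (hM : IsPModular q M) {Q C : Subgroup G} (hQ : IsPGroup q Q) (hz : Q ≤ center G)
    (hC : ∀ x, x ∈ C ↔ ∀ a ∈ Q, a * x = x * a) (χ : IrrCharacter G)
    (h : ∀ ξ : IrrCharacter C, IsInducedBlock M C (blockOf M (ξ : C → ℂ)) (blockOf M (χ : G → ℂ)) →
      p ∣ charDegree (ξ : C → ℂ)) : p ∣ charDegree (χ : G → ℂ) := by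
  classical
  have := hM.2.1.isPrime
  have := Fintype.ofFinite G
  have hall : ∀ x, x ∈ C := fun x => (hC x).2 fun a ha => (mem_center_iff.1 (hz ha) x).symm
  have : C.Normal := ⟨fun _ _ _ => hall _⟩
  have : Q.Normal := ⟨fun a ha g => by rwa [mem_center_iff.1 (hz ha) g, mul_inv_cancel_right]⟩
  obtain ⟨ξ, hξ⟩ := Blocks.Fong.exists_constituent C χ
  obtain ⟨B, hB⟩ := S0919.result q M hM Q C hQ (fun _ _ => hall _) (fun _ _ => hall _)
    (by rw [normalizer_eq_top]; exact le_top) _ ⟨ξ, rfl⟩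
  obtain ⟨ψ, hψ⟩ := Blocks.Basic.isPBlock_nonempty hB.2.1
  have h1 : blockOf M (χ : G → ℂ) = B := Blocks.Basic.isPBlock_eq_of_sameBlock ⟨χ, rfl⟩ hB.2.1
    (Blocks.Basic.mem_blockOf_self χ) hψ fun g => by
      rw [Blocks.Over.centralChar_eq_of_over C χ.2 ξ.2 hξ ⟨g, hall g⟩]
      exact hB.2.2 ξ (Blocks.Basic.mem_blockOf_self ξ) ψ hψ g
  obtain ⟨c, hc, -⟩ := H597.Degrees.degree_over C χ.2 ξ.2 hξ
  exact hc ▸ (h ξ (h1 ▸ hB)).mul_right c

/-- from the centraliser of `Q` to the group -/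
theorem star_ind (hM : IsPModular q M) : ∀ (n : ℕ) (G : Type u) [Group G] [Finite G], Nat.card G = n →
    ∀ P Q C : Subgroup G, IsPGroup p P → IsPGroup q Q → ¬ q ∣ Q.index →
    (∀ a ∈ Q, ∀ b ∈ Q, a * b = b * a) → (∀ a ∈ P, ∀ b ∈ Q, a * b = b * a) →
    (∀ x : G, (∀ a ∈ P, a * x = x * a) → (∃ k, orderOf x = q ^ k) → x ∈ Q) → (∀ x, x ∈ C ↔ ∀ a ∈ Q, a * x = x * a) →
    ∀ χ : IrrCharacter G, (∀ ξ : IrrCharacter C, IsInducedBlock M C (blockOf M (ξ : C → ℂ)) (blockOf M (χ : G → ℂ)) →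
      p ∣ charDegree (ξ : C → ℂ)) → p ∣ charDegree (χ : G → ℂ) := by
  intro n
  induction n using Nat.strong_induction_on with
  | _ n ih =>
  intro G _ _ hn P Q C hP hQ hQi hab hc hx hC χ h
  have := hM.2.1.isPrime
  by_cases hz : Q ≤ center G
  · exact star_base hM hQ hz hC χ h
  obtain ⟨y₀, h1, h2⟩ := SetLike.not_le_iff_exists.1 hz
  refine dvd_of_cong hP hQ hQi hab hc hx (fun y hy hz => cong_of_induced hM χ ?_ fun η hη => ?_) h1 h2
  · simpa only [orderOf_mk] using IsPGroup.iff_orderOf.1 hQ ⟨y, hy⟩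
  have hPC : P ≤ centralizer ({y} : Set G) := fun a ha => mem_centralizer_singleton_iff.2 (hc a ha y hy)
  have hQC : Q ≤ centralizer ({y} : Set G) := fun a ha => mem_centralizer_singleton_iff.2 (hab a ha y hy)
  have hCC : C ≤ centralizer ({y} : Set G) := fun a ha => mem_centralizer_singleton_iff.2 ((hC a).1 ha y hy).symm
  have hlt : Nat.card (centralizer ({y} : Set G)) < n :=
    hn ▸ lt_of_le_of_ne (card_le_card_group _) fun e => hz (mem_center_iff.2 fun g =>
      mem_centralizer_singleton_iff.1 (eq_top_of_card_eq _ e ▸ mem_top g))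
  refine ih _ hlt _ rfl (P.subgroupOf _) (Q.subgroupOf _) (C.subgroupOf _) hP.comap_subtype hQ.comap_subtype
    (fun e => hQi (e.trans (relIndex_dvd_index_of_le hQC)))
    (fun a ha b hb => Subtype.ext (hab a ha b hb)) (fun a ha b hb => Subtype.ext (hc a ha b hb))
    (fun x h3 h4 => hx x (fun a ha => congrArg Subtype.val (h3 ⟨a, hPC ha⟩ ha)) (by simpa using h4))
    (fun x => (hC x).trans ⟨fun h3 a ha => Subtype.ext (h3 a ha), fun h3 a ha => congrArg Subtype.val (h3 ⟨a, hQC ha⟩ ha)⟩)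
    η fun ξ hξ => ?_
  have h3 := H662.induced_trans (subgroupOfEquivOfLe hCC) (fun _ => rfl) hξ hη
  rw [H662.trB_blockOf] at h3
  exact star_deg_tr (subgroupOfEquivOfLe hCC) ξ ▸ h _ h3

/-- two blocks of a normal subgroup with a central Sylow subgroup which induce the same block -/
theorem star_same (hpq : p ≠ q) (hM : IsPModular q M) (C : Subgroup G) [C.Normal] (hi : ¬ p ∣ C.index) (T : Sylow q C)
    (hT : (T : Subgroup C) ≤ center C) {c : Set (IrrCharacter G)} {ξ ζ : IrrCharacter C}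
    (h1 : IsInducedBlock M C (blockOf M (ξ : C → ℂ)) c) (h2 : IsInducedBlock M C (blockOf M (ζ : C → ℂ)) c)
    (h : p ∣ charDegree (ξ : C → ℂ)) : p ∣ charDegree (ζ : C → ℂ) := by
  classical
  have := hM.2.1.isPrime
  have := Fintype.ofFinite G
  obtain ⟨χ, a1, a2⟩ := S0934.result q M hM C _ c h1 ξ (Blocks.Basic.mem_blockOf_self ξ)
  obtain ⟨ψ, b1, b2⟩ := S0934.result q M hM C _ c h2 ζ (Blocks.Basic.mem_blockOf_self ζ)
  have hN : normalizer ((T : Subgroup C) : Set C) ≤ centralizer ((T : Subgroup C) : Set C) :=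
    fun x _ => mem_centralizer_iff.2 fun a ha => (mem_center_iff.1 (hT ha) x).symm
  have hK : ¬ p ∣ (pPrimeCore q G).index := fun e => by
    have h3 := e.trans (index_dvd_of_le (S1289.map_le_pPrimeCore q (Normal.isSubnormal ‹C.Normal›) _ inferInstance
      ((hq.out.coprime_iff_not_dvd.2 (MonoidHom.not_dvd_card_ker_transferSylow T hN)).symm)))
    rw [index_map_subtype, (MonoidHom.ker_transferSylow_isComplement' T hN).symm.index_eq_card] at h3
    obtain ⟨k, hk⟩ := T.2.exists_card_eq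
    rcases (Nat.Prime.dvd_mul hp.out).1 h3 with h4 | h4
    · exact hpq ((Nat.prime_dvd_prime_iff_eq hp.out hq.out).1 (hp.out.dvd_of_dvd_pow (hk ▸ h4)))
    · exact hi h4
  have : (pPrimeCore q G).Normal := Lib.Cores.sSup_normal _ fun _ h => h.1
  obtain ⟨θ, c1⟩ := Blocks.Fong.exists_constituent (pPrimeCore q G) χ
  have c2 := (S0921.result q M hM χ ψ (Blocks.Basic.isPBlock_sameBlock h1.2.1 a1 b1) θ).1 c1
  obtain ⟨i, d1, -⟩ := H597.Degrees.degree_over C χ.2 ξ.2 a2
  obtain ⟨j, d2, d3⟩ := H597.Degrees.degree_over _ χ.2 θ.2 c1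
  obtain ⟨k, d4, -⟩ := H597.Degrees.degree_over _ ψ.2 θ.2 c2
  obtain ⟨l, d5, d6⟩ := H597.Degrees.degree_over C ψ.2 ζ.2 b2
  have e1 : p ∣ charDegree (θ : pPrimeCore q G → ℂ) :=
    ((Nat.Prime.dvd_mul hp.out).1 (d2 ▸ d1 ▸ h.mul_right i)).resolve_right fun e => hK (e.trans d3)
  exact ((Nat.Prime.dvd_mul hp.out).1 (d5 ▸ d4 ▸ e1.mul_right k)).resolve_right fun e => hi (e.trans d6)

/-- the degrees of the centraliser of `Q` -/
theorem star_cent (hpq : p ≠ q) (P : Sylow p G) (Q : Sylow q G)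
    (hab : ∀ a ∈ (Q : Subgroup G), ∀ b ∈ (Q : Subgroup G), a * b = b * a)
    (hc : ∀ a ∈ (P : Subgroup G), ∀ b ∈ (Q : Subgroup G), a * b = b * a)
    (hx : ∀ x : G, (∀ a ∈ (P : Subgroup G), a * x = x * a) → El q x → x ∈ (Q : Subgroup G))
    (h : ∀ χ : IrrCharacter G, ¬ q ∣ charDegree (χ : G → ℂ) → ¬ p ∣ charDegree (χ : G → ℂ))
    (ξ : IrrCharacter (centralizer ((Q : Subgroup G) : Set G))) :
    ¬ p ∣ charDegree (ξ : centralizer ((Q : Subgroup G) : Set G) → ℂ) := fun h0 => by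
  obtain ⟨M, hM⟩ := Blocks.ExistsModular.exists_isPModular hq.out
  have := hM.2.1.isPrime
  let C := centralizer ((Q : Subgroup G) : Set G)
  let N := normalizer ((Q : Subgroup G) : Set G)
  have hCN : C ≤ N := centralizer_le_normalizer _
  have hQN : (Q : Subgroup G) ≤ N := le_normalizer
  have hQC : (Q : Subgroup G) ≤ C := fun a ha => mem_centralizer_iff.2 fun b hb => hab b hb a ha
  have hPC : (P : Subgroup G) ≤ C := fun a ha => mem_centralizer_iff.2 fun b hb => (hc a ha b hb).symm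
  have hn : ((Q.subtype hQN : Sylow q N) : Subgroup N).Normal := normal_in_normalizer
  have hdeg := (S4760.result q (Q.subtype hQN)).1 ⟨hn, ⟨⟨fun a b => Subtype.ext (Subtype.ext (hab _ a.2 _ b.2))⟩⟩⟩
  have hdef : ∀ c : Set (IrrCharacter N), IsPBlock M c → IsDefectGroup q M c ((Q : Subgroup G).subgroupOf N) := fun c hc => by
    obtain ⟨χ, hχ⟩ := Blocks.Basic.isPBlock_nonempty hc
    exact S0953.isDefectGroup_of_degree hM (Q.subtype hQN) hc hχ (hdeg χ)
  have hind : ∀ η : IrrCharacter (C.subgroupOf N), ∃ c, IsInducedBlock M (C.subgroupOf N) (blockOf M (η : C.subgroupOf N → ℂ)) c :=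
    fun η => S0919.result q M hM (Q.subtype hQN : Sylow q N) (C.subgroupOf N) Q.2.comap_subtype (fun a ha => hQC ha)
      (fun x hx => mem_subgroupOf.2 (mem_centralizer_iff.2 fun a ha =>
        congrArg Subtype.val (mem_centralizer_iff.1 hx ⟨a, hQN ha⟩ ha)))
      (by rw [normalizer_eq_top_iff.2 hn]; exact le_top) _ ⟨η, rfl⟩
  set e := subgroupOfEquivOfLe hCN
  obtain ⟨c₀, hc₀⟩ := hind (H662.tr e.symm ξ)
  obtain ⟨B, hB, hBQ, hcB⟩ := (S0920.result q M hM (Q : Subgroup G) Q.2).1 c₀ hc₀.2.1 (hdef _ hc₀.2.1)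
  obtain ⟨χ, hχ, h1⟩ := S0953.exists_degree_of_isDefectGroup hM Q hB hBQ
  refine h χ h1 (star_ind hM _ G rfl P Q C P.2 Q.2 Q.not_dvd_index hab hc hx (fun x => mem_centralizer_iff) χ fun ζ hζ => ?_)
  obtain ⟨c, hc'⟩ := hind (H662.tr e.symm ζ)
  have h2 : IsInducedBlock M N c B := H662.induced_of_trans e (fun _ => rfl) hc' (by
    rw [H662.trB_blockOf, H662.tr_tr_symm, Blocks.Basic.isPBlock_eq_blockOf hB hχ]
    exact hζ)
  have h3 : c = c₀ := ((S0920.result q M hM (Q : Subgroup G) Q.2).2 B hB hBQ).unique ⟨hc'.2.1, hdef _ hc'.2.1, h2⟩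
    ⟨hc₀.2.1, hdef _ hc₀.2.1, hcB⟩
  rw [← star_deg_tr e.symm ζ]
  refine star_same hpq hM (C.subgroupOf N) (fun e => P.not_dvd_index ?_)
    ((Q.subtype hQN).subtype (N := C.subgroupOf N) fun a ha => hQC ha) (fun a ha => mem_center_iff.2 fun x =>
      Subtype.ext (Subtype.ext (mem_centralizer_iff.1 x.2 _ ha).symm)) hc₀ (h3 ▸ hc') (by rwa [star_deg_tr])
  exact (e.trans (relIndex_dvd_index_of_le hCN)).trans (index_dvd_of_le hPC)

theorem boxStar : BoxStar := by
  intro p q _ _ hpq G _ _ P Q hab hc hx h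
  have hPC : (P : Subgroup G) ≤ centralizer ((Q : Subgroup G) : Set G) :=
    fun a ha => mem_centralizer_iff.2 fun b hb => (hc a ha b hb).symm
  obtain ⟨h1, h2⟩ := (S4760.result p (P.subtype hPC)).2 (star_cent hpq P Q hab hc hx h)
  refine ⟨P, Q, ⟨⟨fun a b => Subtype.ext (congrArg Subtype.val (congrArg Subtype.val
    (h2.is_comm.comm ⟨⟨a, hPC a.2⟩, a.2⟩ ⟨⟨b, hPC b.2⟩, b.2⟩)) :)⟩⟩, ⟨⟨fun a b => Subtype.ext (hab a a.2 b b.2)⟩⟩,
    le_antisymm ?_ ?_⟩
  · have key : ∀ g ∈ normalizer ((P : Subgroup G) : Set G), ∀ b ∈ (Q : Subgroup G), g * b * g⁻¹ ∈ (Q : Subgroup G) :=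
      fun g hg b hb => hx _ (fun a ha => by
        have h3 := hc _ ((mem_normalizer_iff''.1 hg a).1 ha) b hb
        calc a * (g * b * g⁻¹) = g * (g⁻¹ * a * g * b) * g⁻¹ := by group
          _ = _ := by rw [h3]; group)
        ((IsPGroup.iff_orderOf.1 Q.2 ⟨b, hb⟩).imp fun k hk => by
          rw [← hk, orderOf_mk]
          exact (MulAut.conj g).orderOf_eq b)
    exact fun g hg => mem_normalizer_iff.2 fun b => ⟨key g hg b, fun hb => by
      simpa [mul_assoc] using key _ (inv_mem hg) _ hb⟩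
  · have key : ∀ g ∈ normalizer ((Q : Subgroup G) : Set G), ∀ a ∈ (P : Subgroup G), g * a * g⁻¹ ∈ (P : Subgroup G) :=
      fun g hg a ha => by
        have h3 : g * a * g⁻¹ ∈ centralizer ((Q : Subgroup G) : Set G) := mem_centralizer_iff.2 fun b hb => by
          have h4 := hc a ha _ ((mem_normalizer_iff''.1 hg b).1 hb)
          calc b * (g * a * g⁻¹) = g * (g⁻¹ * b * g * a) * g⁻¹ := by group
            _ = _ := by rw [← h4]; group
        exact mem_of_norm (P.subtype hPC) (x := ⟨_, h3⟩) (by rw [normalizer_eq_top_iff.2 h1]; exact mem_top _)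
          ((IsPGroup.iff_orderOf.1 P.2 ⟨a, ha⟩).imp fun k hk => by
            rw [← hk, orderOf_mk, orderOf_mk]
            exact (MulAut.conj g).orderOf_eq a)
    exact fun g hg => mem_normalizer_iff.2 fun b => ⟨key g hg b, fun hb => by
      simpa [mul_assoc] using key _ (inv_mem hg) _ hb⟩

end Cfsg.Agent.PQ.EL
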