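import Cfsg.Agent.PQ.EL.Fix
import Cfsg.Agent.H592.HarStar
import Cfsg.Agent.H596.CoverAct
import Cfsg.Agent.H710.SumSquares
import Cfsg.Agent.H622.Over

/-!
# S4982: the Clifford correspondence and the cover of a character triple (helper14)
-/

set_option autoImplicit false
set_option linter.unusedSectionVars false

namespace Cfsg.Agent.PQ.EL

open Cfsg Cfsg.Agent.LV Cfsg.Agent.PQ.LE Subgroup Cfsg.Agent.Characters.Core
open Cfsg.Agent.Blocks.Basic (charDegree_of_eq irr_one_eq_charDegree)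
open Cfsg.Agent.OddOrderCharacters.PF9 Cfsg.Agent.H592.Har Cfsg.Agent.H622

namespace T0

/-- over a linear character of a central `p'`-subgroup there is a character of degree prime to `p` -/
theorem exists_pp {W : Type} [Group W] [Finite W] (p : ℕ) [hp : Fact p.Prime] (Z : Subgroup W) (hZ : Z ≤ center W)
    (h : ¬ p ∣ Nat.card Z) (lam : Z →* ℂˣ) :
    ∃ η : IrrCharacter W, ¬ p ∣ charDegree (η : W → ℂ) ∧ ∀ z : Z, (η : W → ℂ) z = (lam z : ℂ) * (η : W → ℂ) 1 := by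
  have := Fintype.ofFinite W
  have hn : Z.Normal := ⟨fun z hz g => by rw [mem_center_iff.1 (hZ hz) g, mul_inv_cancel_right]; exact hz⟩
  obtain ⟨P⟩ : Nonempty (Sylow p (W ⧸ Z)) := inferInstance
  have hs := QuotientGroup.mk'_surjective Z
  obtain ⟨H, hH⟩ : ∃ H, H = (P : Subgroup (W ⧸ Z)).comap (QuotientGroup.mk' Z) := ⟨_, rfl⟩
  have := Fintype.ofFinite H
  have hZH : Z ≤ H := fun z hz => by
    rw [hH, mem_comap, QuotientGroup.mk'_apply, (QuotientGroup.eq_one_iff z).2 hz]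
    exact one_mem _
  have h1 : ¬ p ∣ H.index := by
    rw [hH, index_comap_of_surjective _ hs]
    exact P.not_dvd_index
  have h2 : (Z.subgroupOf H).index.Coprime (Nat.card Z) := by
    obtain ⟨a, ha⟩ := IsPGroup.iff_card.1 P.2
    have h3 := relIndex_ker (f := QuotientGroup.mk' Z) (K := H)
    rw [QuotientGroup.ker_mk', hH, map_comap_eq_self_of_surjective hs, ha, ← hH] at h3
    exact (show (Z.subgroupOf H).index = p ^ a from h3) ▸ (hp.out.coprime_iff_not_dvd.2 h).pow_left a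
  obtain ⟨k, hk⟩ : ∃ k, (Z.subgroupOf H).index * k ≡ 1 [MOD Nat.card Z] :=
    ⟨(Z.subgroupOf H).index ^ ((Nat.card Z).totient - 1), by
      rw [← pow_succ', Nat.sub_add_cancel (Nat.totient_pos.2 Nat.card_pos)]
      exact Nat.ModEq.pow_totient h2⟩
  let e := (subgroupOfEquivOfLe hZH).toMonoidHom
  let μ : H →* ℂˣ := MonoidHom.transfer ((lam ^ k).comp e)
  have hμ : ∀ z : Z.subgroupOf H, μ z = lam (e z) := fun z => by
    have h3 := MonoidHom.transfer_eq_pow ((lam ^ k).comp e) (z : H) fun j g _ => Subtype.ext (by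
      have h4 := mem_center_iff.1 (pow_mem (hZ z.2) j) (g : W)⁻¹
      push_cast
      rw [show ((z : H) : W) = H.subtype z from rfl, h4, inv_mul_cancel_right])
    refine h3.trans ?_
    change lam (e (z ^ (Z.subgroupOf H).index)) ^ k = _
    rw [← map_pow, map_pow e, ← pow_mul, pow_eq_pow_iff_modEq.2 (hk.of_dvd (orderOf_dvd_natCard _)), pow_one]
  obtain ⟨η, h3, h4⟩ := H710.SumSquares.exists_over H h1 ⟨_, Characters.Linear.isIrrCharacter_hom μ⟩ (by
    rw [charDegree_of_eq (n := 1) (by simp)]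
    exact hp.out.not_dvd_one)
  obtain ⟨c, hc⟩ := Over.exists_hom hZ η.2
  have h5 : c.comp e = lam.comp e := by
    by_contra h5
    refine h4 (Over.classInner_eq_zero (N := Z.subgroupOf H) (c := c.comp e) (d := lam.comp e) (fun x n => hc x (e n))
      (fun x n => ?_) h5)
    change ((μ (x * n) : ℂˣ) : ℂ) = μ x * (lam (e n) : ℂˣ)
    rw [map_mul, hμ, Units.val_mul]
  refine ⟨η, h3, fun z => ?_⟩
  have h6 := hc 1 z
  have h7 : c z = lam z := DFunLike.congr_fun h5 ⟨⟨z, hZH z.2⟩, z.2⟩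
  rw [one_mul, h7] at h6
  rw [h6, mul_comm]

/-- a cover whose kernel has order prime to `p q` -/
theorem exists_cov {G : Type} [Group G] [Finite G] (p q : ℕ) [Fact p.Prime] [Fact q.Prime] (N : Subgroup G) [hN : N.Normal]
    (h1 : ¬ p ∣ Nat.card N) (h2 : ¬ q ∣ Nat.card N) {θ : N → ℂ} (hθ : IsIrrCharacter N θ)
    (hinv : ∀ (g : G) (n : N), θ (MulAut.conjNormal g n) = θ n) :
    ∃ (D : Type) (_ : Group D) (_ : Finite D) (C : Cover p N θ D), ¬ q ∣ Nat.card C.π.ker := by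
  obtain ⟨d, ρ, hρ, rfl⟩ := id hθ
  obtain ⟨D, _, _, _, π, σ, s, k1, k2, k3, -, k5, k6, -, -, -, -, k7⟩ :=
    H596.CoverAct.exists_cover (S := (⊥ : Subgroup (MulAut G))) N ρ hρ hinv
      (fun t l hl => by rwa [Subsingleton.elim t 1, one_smul]) fun t x y hy => by
        rw [Subsingleton.elim t 1, one_smul] at hy
        rw [Subtype.ext hy]
  have hd : d ∣ Nat.card N := S4492.degree_dvd_card hθ (by rw [Representation.char_one, Module.finrank_fin_fun])
  have key : ∀ r : ℕ, r.Prime → ¬ r ∣ Nat.card N → ¬ r ∣ Nat.card π.ker := fun r hr h3 h4 => by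
    have := Fact.mk hr
    obtain ⟨x, hx⟩ := exists_prime_orderOf_dvd_card' r h4
    have h5 : r ∣ d * Nat.card N := hx ▸ orderOf_dvd_of_pow_eq_one (Subtype.ext (k7 x x.2))
    exact h3 ((hr.dvd_mul.1 h5).elim (fun h => h.trans hd) id)
  have hσ : IsIrrCharacter D σ.character := isIrrCharacter_of_rep _ (Blocks.Deflate.isIrreducible_of_comp s σ (by
    rwa [show (σ.comp s : Representation ℂ N (Fin d → ℂ)) = ρ from MonoidHom.ext k3]))
  refine ⟨D, _, inferInstance, ⟨π, s, σ.character, k1, k5, key p Fact.out h1, k2, ⟨?_⟩, hσ, fun n => ?_, fun z hz => ?_⟩,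
    key q Fact.out h2⟩
  · rintro _ ⟨n, rfl⟩ x
    exact ⟨_, (k6 x n).symm⟩
  · change LinearMap.trace _ _ (σ (s n)) = LinearMap.trace _ _ (ρ n)
    rw [k3]
  · obtain ⟨c, hc⟩ := Over.exists_hom (N := π.ker) k5 hσ
    have h3 := hc 1 ⟨z, hz⟩
    rw [one_mul] at h3
    exact h3 ▸ mul_ne_zero (isIrr_apply_one_ne_zero hσ) (Units.ne_zero _)

/-- the characters of the cover over `lam` give characters over `θ` -/
theorem exists_tw {G : Type} [Group G] [Finite G] (p q : ℕ) [Fact p.Prime] [Fact q.Prime] (N : Subgroup G) [hN : N.Normal]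
    (h1 : ¬ p ∣ Nat.card N) (h2 : ¬ q ∣ Nat.card N) {θ : N → ℂ} (hθ : IsIrrCharacter N θ)
    (hinv : ∀ (g : G) (n : N), θ (MulAut.conjNormal g n) = θ n) :
    ∃ (W : Type) (_ : Group W) (_ : Finite W) (f : W →* G ⧸ N) (lam : f.ker →* ℂˣ), Function.Surjective f ∧
      f.ker ≤ center W ∧ ¬ p ∣ Nat.card f.ker ∧ ¬ q ∣ Nat.card f.ker ∧ ∀ η : IrrCharacter W,
        (∀ z : f.ker, (η : W → ℂ) z = (lam z : ℂ) * (η : W → ℂ) 1) →
          ∃ χ : IrrCharacter G, ∀ n : N, (χ : G → ℂ) n = (η : W → ℂ) 1 * θ n := by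
  obtain ⟨D, _, _, C, hq⟩ := exists_cov p q N h1 h2 hθ hinv
  let f : D ⧸ C.s.range →* G ⧸ N := QuotientGroup.map _ _ C.π (by
    rintro _ ⟨n, rfl⟩
    rw [mem_comap, C.sec]
    exact n.2)
  have hf : ∀ x : D, f x = (C.π x : G ⧸ N) := fun _ => rfl
  have hZ : f.ker ≤ C.Z := fun w hw => by
    obtain ⟨x, rfl⟩ := QuotientGroup.mk_surjective w
    exact C.mem_Z_of_mem ((QuotientGroup.eq_one_iff _).1 ((hf x).symm.trans hw))
  let e₀ : C.π.ker →* f.ker := ((QuotientGroup.mk' C.s.range).comp C.π.ker.subtype).codRestrict _ fun z => by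
    change f (z : D) = 1
    rw [hf, MonoidHom.mem_ker.1 z.2, QuotientGroup.mk_one]
  have he : Function.Bijective e₀ := by
    refine ⟨(injective_iff_map_eq_one _).2 fun z hz => ?_, fun w => ?_⟩
    · obtain ⟨n, hn⟩ : (z : D) ∈ C.s.range := (QuotientGroup.eq_one_iff _).1 (congrArg Subtype.val hz)
      have h3 : n = 1 := Subtype.ext (by rw [← C.sec n, hn]; exact z.2)
      exact Subtype.ext (by rw [← hn, h3, map_one]; rfl)
    · obtain ⟨z, hz, h3⟩ := hZ w.2
      exact ⟨⟨z, hz⟩, Subtype.ext h3⟩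
  let e := MulEquiv.ofBijective e₀ he
  have hc : Nat.card f.ker = Nat.card C.π.ker := (Nat.card_congr e.toEquiv).symm
  obtain ⟨c, hcψ⟩ := Over.exists_hom C.ker_le C.irr
  refine ⟨_, _, inferInstance, f, c⁻¹.comp e.symm.toMonoidHom, fun y => ?_, hZ.trans C.Z_le_center, hc ▸ C.ker_p, hc ▸ hq,
    fun η hη => ?_⟩
  · obtain ⟨g, rfl⟩ := QuotientGroup.mk_surjective y
    obtain ⟨x, rfl⟩ := C.surj g
    exact ⟨x, rfl⟩
  have h3 : ∀ n ∈ C.s.range, ((η : D ⧸ C.s.range → ℂ) ∘ QuotientGroup.mk' C.s.range) n = (η : D ⧸ C.s.range → ℂ) 1 :=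
    fun n hn => congrArg (η : D ⧸ C.s.range → ℂ) ((QuotientGroup.eq_one_iff n).2 hn)
  have h4 := Fix.irr_mul C.s.range C.irr (C.isIrr_res hθ) (isIrr_comp _ (QuotientGroup.mk'_surjective _) η.2) h3
  have := Fintype.ofFinite C.π.ker
  obtain ⟨χ, hχ⟩ := Blocks.Deflate.exists_deflation C.π.ker _ h4 (by
    have h5 : ∀ z : C.π.ker, ((η : D ⧸ C.s.range → ℂ) ∘ QuotientGroup.mk' C.s.range * C.ψ) z =
        (η : D ⧸ C.s.range → ℂ) 1 * C.ψ 1 := fun z => by
      have h6 := hη (e z)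
      have h7 := hcψ 1 z
      rw [one_mul] at h7
      rw [MonoidHom.comp_apply, MulEquiv.coe_toMonoidHom, e.symm_apply_apply, MonoidHom.inv_apply] at h6
      rw [Pi.mul_apply, h7, show ((η : D ⧸ C.s.range → ℂ) ∘ QuotientGroup.mk' C.s.range) z = _ from h6,
        Units.val_inv_eq_inv_val]
      field_simp
    rw [Finset.sum_congr rfl fun z _ => h5 z, Finset.sum_const, nsmul_eq_mul, Finset.card_univ]
    exact mul_ne_zero (Nat.cast_ne_zero.2 Fintype.card_ne_zero)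
      (mul_ne_zero (isIrr_apply_one_ne_zero η.2) (isIrr_apply_one_ne_zero C.irr)))
  let u := QuotientGroup.quotientKerEquivOfSurjective C.π C.surj
  refine ⟨⟨_, isIrr_comp u.symm.toMonoidHom u.symm.surjective χ.2⟩, fun n => ?_⟩
  have h5 : u.symm (n : G) = (C.s n : D ⧸ C.π.ker) := u.symm_apply_eq.2 (C.sec n).symm
  change (χ : D ⧸ C.π.ker → ℂ) (u.symm (n : G)) = _
  rw [h5, ← C.ext, ← h3 _ ⟨n, rfl⟩]
  exact (congrFun hχ (C.s n)).symm

/-- the Clifford correspondence -/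
theorem exists_ind {G : Type} [Group G] [Finite G] {N T : Subgroup G} [N.Normal] [Fintype N] {θ : IrrCharacter N}
    (hT : Stb N θ T) (χ : IrrCharacter T) {d : ℕ} (hd : d ≠ 0)
    (h : ∀ (n : N) (hn : (n : G) ∈ T), (χ : T → ℂ) ⟨n, hn⟩ = d * (θ : N → ℂ) n) :
    ∃ ξ : IrrCharacter G, classInner (fun n : N => (ξ : G → ℂ) n) (θ : N → ℂ) ≠ 0 ∧
      charDegree (ξ : G → ℂ) = T.index * (d * charDegree (θ : N → ℂ)) := by
  have := Fintype.ofFinite G
  have := Fintype.ofFinite T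
  have hNT := Fix.le_of_stb hT
  have h1 : classInner (CliffGen.resTo hNT (χ : T → ℂ)) (θ : N → ℂ) = d := by
    rw [show CliffGen.resTo hNT (χ : T → ℂ) = (d : ℂ) • (θ : N → ℂ) from funext fun n => h n _, classInner_smul_left,
      (isIrr_iff_classInner_self (isIrr_isCharacter θ.2)).1 θ.2, mul_one]
  have h2 := CliffGen.irr_ind θ.2 (fun g => (hT g).trans funext_iff.symm) hNT χ.2 (h1 ▸ Nat.cast_ne_zero.2 hd)
  refine ⟨⟨_, h2⟩, ?_, charDegree_of_eq ?_⟩
  · have h3 := OddOrderCharacters.Clifford.isCharacter_sub_irr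
      (isCharacter_comp T.subtype (isIrr_isCharacter h2)) χ.2 (by
        rw [← classInner_conj_symm, map_ne_zero]
        have h4 := CharactersDeep.NormalInd.classInner_indFun T (χ : T → ℂ) _ (isIrr_isClassFunction h2)
        rw [(isIrr_iff_classInner_self (isIrr_isCharacter h2)).1 h2] at h4
        exact fun h5 => one_ne_zero (h4.trans h5))
    obtain ⟨m, hm⟩ := classInner_isNat (CliffGen.isCharacter_resTo hNT h3) (isIrr_isCharacter θ.2)
    have h4 : (fun n : N => indFun T (χ : T → ℂ) n) =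
        CliffGen.resTo hNT (indFun T (χ : T → ℂ) ∘ T.subtype - (χ : T → ℂ)) + CliffGen.resTo hNT (χ : T → ℂ) :=
      funext fun n => (sub_add_cancel _ _).symm
    change classInner (fun n : N => indFun T (χ : T → ℂ) n) _ ≠ 0
    rw [h4, classInner_add_left, hm, h1, ← Nat.cast_add]
    exact Nat.cast_ne_zero.2 (by omega)
  · change indFun T _ 1 = _
    rw [CharactersDeep.NormalInd.indFun_one, show (χ : T → ℂ) 1 = d * (θ : N → ℂ) 1 from h 1 T.one_mem,
      irr_one_eq_charDegree θ.2, Nat.cast_mul, Nat.cast_mul]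

end T0

theorem boxT0 : BoxT0 := by
  intro p q hp hq G _ _ N hN _ h1 h2 θ T hT h3 h4
  have hNT := Fix.le_of_stb hT
  have hc : Nat.card (N.subgroupOf T) = Nat.card N := Nat.card_congr (subgroupOfEquivOfLe hNT).toEquiv
  obtain ⟨W, _, _, f, lam, k1, k2, k3, k4, k5⟩ := T0.exists_tw p q (N.subgroupOf T) (hc ▸ h1) (hc ▸ h2)
    (isIrr_comp (subgroupOfEquivOfLe hNT).toMonoidHom (subgroupOfEquivOfLe hNT).surjective θ.2)
    fun g n => (hT g).1 g.2 ⟨_, n.2⟩
  have hd := S4492.degree_dvd_card θ.2 (irr_one_eq_charDegree θ.2)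
  have k6 : ∀ η : IrrCharacter W, (∀ z : f.ker, (η : W → ℂ) z = (lam z : ℂ) * (η : W → ℂ) 1) →
      (¬ p ∣ charDegree (η : W → ℂ) ↔ ¬ q ∣ T.index ∧ ¬ q ∣ charDegree (η : W → ℂ)) := fun η hη => by
    obtain ⟨χ, hχ⟩ := k5 η hη
    obtain ⟨ξ, h5, h6⟩ := T0.exists_ind hT χ (d := charDegree (η : W → ℂ))
      (fun h => isIrr_apply_one_ne_zero η.2 (by rw [irr_one_eq_charDegree η.2, h, Nat.cast_zero])) fun n hn => by
        rw [← irr_one_eq_charDegree η.2]
        exact hχ ⟨⟨n, hn⟩, n.2⟩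
    have h7 := h4 ξ h5
    rw [h6, hp.out.dvd_mul, hp.out.dvd_mul, hq.out.dvd_mul, hq.out.dvd_mul] at h7
    have h8 : ¬ p ∣ charDegree (θ : N → ℂ) := fun h => h1 (h.trans hd)
    have h9 : ¬ q ∣ charDegree (θ : N → ℂ) := fun h => h2 (h.trans hd)
    tauto
  obtain ⟨η, h5, h6⟩ := T0.exists_pp p f.ker k2 k3 lam
  have h7 := ((k6 η h6).1 h5).1
  exact ⟨h7, W, _, inferInstance, f, lam, k1, k2, k3, k4, fun χ hχ => (k6 χ hχ).trans (and_iff_right h7)⟩

end Cfsg.Agent.PQ.EL
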