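import Cfsg.Agent.PQ.EL.Defs
import Cfsg.Agent.S4449
import Cfsg.Agent.S0858
import Cfsg.Agent.H622.Over
import Cfsg.Agent.H770.OddLift

/-!
# S4982: the twisted condition passes over a normal subgroup of order prime to `p q` (helper35)
-/

set_option autoImplicit false
set_option linter.unusedSectionVars false

namespace Cfsg.Agent.PQ.EL

open Cfsg Cfsg.Agent.LV Cfsg.Agent.PQ.LE Subgroup Cfsg.Agent.Characters.Core Cfsg.Agent.H622

namespace T1

variable {T : Type} [Group T] [Finite T]

/-- lying over a linear character of a central subgroup is transitive -/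
theorem over_trans {Z H : Subgroup T} [Fintype Z] [Fintype H] (hZ : Z ≤ center T) (hZH : Z ≤ H) (lam : Z →* ℂˣ)
    {θ : H → ℂ} (hθ : IsIrrCharacter H θ)
    (h1 : classInner (fun n : Z => θ ⟨n, hZH n.2⟩) (fun n : Z => (lam n : ℂ)) ≠ 0) {χ : T → ℂ}
    (hχ : IsIrrCharacter T χ) (h2 : classInner (fun n : H => χ n) θ ≠ 0) (z : Z) : χ z = (lam z : ℂ) * χ 1 := by
  have hc : Z.subgroupOf H ≤ center H := fun x hx => mem_center_iff.2 fun y =>
    Subtype.ext (mem_center_iff.1 (hZ hx) y)
  obtain ⟨d, hd⟩ := Over.exists_hom hc hθ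
  obtain ⟨m, hm⟩ := Over.exists_hom hZ hχ
  have e1 : m.comp (subgroupOfEquivOfLe hZH).toMonoidHom = d := by
    by_contra hne
    exact h2 (Over.classInner_eq_zero (N := Z.subgroupOf H) (fun x n => hm x ⟨n, n.2⟩) hd hne)
  have e2 : (d.comp (subgroupOfEquivOfLe hZH).symm.toMonoidHom).comp (⊤ : Subgroup Z).subtype =
      lam.comp (⊤ : Subgroup Z).subtype := by
    by_contra hne
    refine h1 (Over.classInner_eq_zero (N := ⊤) (fun x n => ?_) (fun x n => ?_) hne)
    · exact hd ⟨x, hZH x.2⟩ ⟨⟨n, hZH n.1.2⟩, n.1.2⟩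
    · simp
  have e3 : m z = lam z := by
    have h3 := DFunLike.congr_fun e2 ⟨z, mem_top z⟩
    rw [← e1] at h3
    exact h3
  have h4 := hm 1 z
  rw [one_mul] at h4
  rw [h4, e3, mul_comm]

/-- the quotient of a subgroup over the kernel -/
theorem quot_equiv {X : Type} [Group X] (f : T →* X) (M : Subgroup X) [M.Normal] (S : Subgroup T) :
    Nonempty (S ⧸ (M.comap f).subgroupOf S ≃* S.map f ⧸ M.subgroupOf (S.map f)) := by
  let g : S →* S.map f ⧸ M.subgroupOf (S.map f) := (QuotientGroup.mk' _).comp (f.subgroupMap S)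
  have h1 : Function.Surjective g := (QuotientGroup.mk'_surjective _).comp (f.subgroupMap_surjective S)
  have h2 : (M.comap f).subgroupOf S = g.ker := by
    ext x
    exact (QuotientGroup.eq_one_iff (N := M.subgroupOf (S.map f)) (f.subgroupMap S x)).symm
  exact ⟨(QuotientGroup.quotientMulEquivOfEq h2).trans (QuotientGroup.quotientKerEquivOfSurjective g h1)⟩

theorem card_comap {X : Type} [Group X] (f : T →* X) (hf : Function.Surjective f) (M : Subgroup X) :
    Nat.card (M.comap f) = Nat.card f.ker * Nat.card M := by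
  have : Finite X := Finite.of_surjective f hf
  have h1 := (M.comap f).card_mul_index
  have h2 := f.ker.card_mul_index
  have h3 := M.card_mul_index
  rw [index_comap_of_surjective _ hf] at h1
  rw [index_ker, f.range_eq_top_of_surjective hf, card_top] at h2
  refine Nat.eq_of_mul_eq_mul_right (Nat.pos_of_ne_zero M.index_ne_zero_of_finite) ?_
  rw [h1, mul_assoc, h3, h2]

end T1

open T1

theorem boxT1_of (h0 : BoxT0) : BoxT1 := by
  intro p q hp hq X _ _ M A _ hpM hqM hA hAr hpA ⟨T, _, _, f, lam, hf, hZ, hpZ, hqZ, hE⟩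
  have := Fintype.ofFinite T
  have := Fintype.ofFinite (M.comap f)
  have := Fintype.ofFinite f.ker
  have hcop : ∀ n : ℕ, ¬ p ∣ n → ¬ q ∣ n → n.Coprime (Nat.card A) := fun n h1 h2 =>
    Nat.Coprime.symm (Nat.coprime_of_dvd fun r hr h3 h4 => (hAr r hr h3).elim (fun e => h1 (e ▸ h4)) fun e => h2 (e ▸ h4))
  have hp' : ¬ p ∣ Nat.card (M.comap f) := by
    rw [card_comap f hf]
    exact fun h => (hp.out.dvd_mul.1 h).elim hpZ hpM
  have hq' : ¬ q ∣ Nat.card (M.comap f) := by
    rw [card_comap f hf]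
    exact fun h => (hq.out.dvd_mul.1 h).elim hqZ hqM
  obtain ⟨s, hs⟩ := H770.OddLift.exists_lift f hf A (hcop _ hpZ hqZ)
  have hZM : f.ker ≤ M.comap f := fun x hx => by
    rw [mem_comap, MonoidHom.mem_ker.1 hx]
    exact one_mem _
  have hsol : Group.IsSolvable s.range := by
    have : IsMulCommutative s.range := ⟨⟨fun a b => by
      obtain ⟨_, a, rfl⟩ := a
      obtain ⟨_, b, rfl⟩ := b
      refine Subtype.ext ?_
      change s a * s b = s b * s a
      rw [← map_mul, ← map_mul, show a * b = b * a from Subtype.ext (hA a a.2 b b.2)]⟩⟩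
    exact isSolvable_of_comm fun a b => this.is_comm.comm a b
  obtain ⟨θ, h1, h2⟩ := S4449.result (M.comap f) s.range f.ker
    (fun a _ g hg => (inferInstance : (M.comap f).Normal).conj_mem g hg a) hZM
    (fun a _ g hg => (inferInstance : f.ker.Normal).conj_mem g hg a)
    (fun a _ g hg => (inferInstance : f.ker.Normal).conj_mem g hg a)
    ((hcop _ hp' hq').coprime_dvd_right (card_range_dvd s)) hsol
    ⟨_, Characters.Linear.isIrrCharacter_hom lam⟩ fun a _ g g' hg => by
      rw [show g' = g from Subtype.ext (by rw [hg, mem_center_iff.1 (hZ g.2) a, mul_inv_cancel_right])]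
  have hS : Stb (M.comap f) θ (S0858.inertia (M.comap f) θ) := fun g => S0858.mem_inertia _ _ g
  have hMS : M.comap f ≤ S0858.inertia (M.comap f) θ := fun n hn =>
    (hS n).2 fun m => isIrr_isClassFunction θ.2 m ⟨n, hn⟩
  have hsS : ∀ a : A, s a ∈ S0858.inertia (M.comap f) θ := fun a => (hS _).2 fun m => h2 _ ⟨a, rfl⟩ m _ rfl
  have hAS : A ≤ (S0858.inertia (M.comap f) θ).map f := fun a ha => ⟨s ⟨a, ha⟩, hsS _, hs _⟩
  have hi : ((S0858.inertia (M.comap f) θ).map f).index = (S0858.inertia (M.comap f) θ).index := by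
    rw [index_map, sup_eq_left.2 (hZM.trans hMS), f.range_eq_top_of_surjective hf, index_top, mul_one]
  obtain ⟨h3, h4⟩ := h0 p q T (M.comap f) hp' hq' θ _ hS (fun h => hpA ((hi ▸ h).trans (index_dvd_of_le hAS)))
    fun χ hχ => hE χ (over_trans hZ hZM lam θ.2 h1 χ.2 hχ)
  obtain ⟨e⟩ := quot_equiv f M (S0858.inertia (M.comap f) θ)
  refine ⟨_, hAS, fun m hm => ?_, hi ▸ h3, h4.equiv e⟩
  obtain ⟨t, rfl⟩ := hf m
  exact ⟨t, hMS hm, rfl⟩

end Cfsg.Agent.PQ.EL
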