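import Cfsg.Agent.PQ.EL.Defs
import Cfsg.Agent.PQ.Red.Asm
import Cfsg.Agent.PQ.SS.Cv87
import Cfsg.Agent.H693.Defl
import Cfsg.Agent.H669.Basic
import Cfsg.Agent.Blocks.ExistsModular

/-!
# S4982, the simple case of the relative theorem (helper34)

`boxT4_of : All Known QPs → BoxT4`.
-/

set_option autoImplicit false
set_option maxHeartbeats 200000

namespace Cfsg.Agent.PQ.EL

open Cfsg Cfsg.Agent.LV Cfsg.Agent.PQ.LE Cfsg.Agent.PQ.Red Subgroup Cfsg.Agent.Characters.Core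

namespace T4

variable {p q : ℕ} {T : Type} [Group T] [Finite T] {Z : Subgroup T} {lam : Z →* ℂˣ}

/-- a supplement of a central subgroup -/
theorem ez_sub (hZ : Z ≤ center T) (h : EZ p q Z lam) (K : Subgroup T) (hK : ∀ t, ∃ k ∈ K, ∃ z ∈ Z, k * z = t)
    {Z' : Subgroup K} (j : Z' →* Z) (hj : ∀ z, (j z : T) = (z : K)) (hs : ∀ k : K, (k : T) ∈ Z → k ∈ Z') :
    EZ p q Z' (lam.comp j) := fun χ hχ => by
  let m := K.subtype.noncommCoprod Z.subtype fun a b => mem_center_iff.1 (hZ b.2) a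
  obtain ⟨ψ, h1, h2⟩ := H693.Defl.exists_defl m (fun t => let ⟨k, hk, z, hz, e⟩ := hK t; ⟨(⟨k, hk⟩, ⟨z, hz⟩), e⟩)
    (H669.Basic.isIrr_hom_mul (lam.comp (MonoidHom.snd K Z))
      (isIrr_comp (MonoidHom.fst K Z) Prod.fst_surjective χ.2)) fun a ha => by
      have h1 : (a.1 : T) * a.2 = 1 := ha
      have h2 : (a.1 : T) ∈ Z := eq_inv_of_mul_eq_one_left h1 ▸ inv_mem a.2.2
      have h3 : a.2 * j ⟨a.1, hs _ h2⟩ = 1 := Subtype.ext (by
        rw [coe_mul, hj]; exact mul_eq_one_comm.1 h1)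
      show (lam a.2 : ℂ) * (χ : K → ℂ) a.1 = (lam 1 : ℂ) * (χ : K → ℂ) 1
      rw [hχ ⟨a.1, hs _ h2⟩, ← mul_assoc, MonoidHom.comp_apply, ← Units.val_mul, ← map_mul, h3]
  have h3 : ∀ z : Z, ψ z = (lam z : ℂ) * (χ : K → ℂ) 1 := fun z =>
    (congrArg ψ (one_mul (z : T))).symm.trans (h2 (1, z)).symm
  have h4 : ψ 1 = (χ : K → ℂ) 1 := (h3 1).trans (by rw [map_one, Units.val_one, one_mul])
  have h5 := h ⟨ψ, h1⟩ fun z => (h3 z).trans (congrArg _ h4.symm)
  rwa [show charDegree ((⟨ψ, h1⟩ : IrrCharacter T) : T → ℂ) = charDegree (χ : K → ℂ) from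
    congrArg (fun x : ℂ => ⌊x.re⌋₊) h4] at h5

omit [Finite T] in
/-- a quotient -/
theorem ez_quot (h : EZ p q Z lam) {K : Type} [Group K] (π : T →* K) (hπ : Function.Surjective π) {Z' : Subgroup K}
    (j : Z →* Z') (hj : ∀ z, (j z : K) = π z) {μ : Z' →* ℂˣ} (hμ : ∀ z, μ (j z) = lam z) : EZ p q Z' μ := fun χ hχ => by
  rw [← deg_infl π hπ]
  refine h _ fun z => ?_
  show (χ : K → ℂ) (π z) = _ * (χ : K → ℂ) (π 1)
  rw [← hj, hχ, hμ, map_one]

theorem main (hp : p.Prime) (hq : q.Prime) (hpq : p ≠ q) {S : Type} [Group S] [Finite S]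
    (hS : IsSimpleGroup S) (hn : ¬ IsMulCommutative S) (dp : p ∣ Nat.card S) (dq : q ∣ Nat.card S) :
    ∀ (n : ℕ) (T : Type) [Group T] [Finite T] (f : T →* S) (lam : f.ker →* ℂˣ), Nat.card T = n →
      Function.Surjective f → f.ker ≤ center T → ¬ p ∣ Nat.card f.ker → ¬ q ∣ Nat.card f.ker → EZ p q f.ker lam →
      Com p q S ∨ ∃ (K : Type) (_ : Group K) (_ : Finite K) (σ : K →* S) (lam : σ.ker →* ℂˣ), IsStemExtension σ ∧
        σ.ker ≠ ⊥ ∧ ¬ p ∣ Nat.card σ.ker ∧ ¬ q ∣ Nat.card σ.ker ∧ Function.Injective lam ∧ EZ p q σ.ker lam := by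
  intro n
  induction n using Nat.strong_induction_on with
  | _ n ih =>
  intro T _ _ f lam hT hf hZ h3 h4 hE
  by_cases hc : commutator T = ⊤
  swap
  · have h5 : (commutator T).map f = ⊤ := by
      rw [map_commutator_eq, MonoidHom.range_eq_top.2 hf]
      refine (hS.eq_bot_or_eq_top_of_normal _ inferInstance).resolve_left fun e => hn ⟨⟨fun a b => ?_⟩⟩
      exact commutatorElement_eq_one_iff_mul_comm.1 (mem_bot.1 (e ▸ commutator_mem_commutator (mem_top a) (mem_top b)))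
    have h6 : Nat.card (f.comp (commutator T).subtype).ker ∣ Nat.card f.ker :=
      card_comap_dvd_of_injective f.ker _ (subtype_injective _)
    refine ih _ (hT ▸ lt_of_le_of_ne (card_le_card_group _) (mt (card_eq_iff_eq_top _).1 hc)) (commutator T)
      (f.comp (commutator T).subtype) _ rfl (fun s => let ⟨k, hk, e⟩ := h5.ge (mem_top s); ⟨⟨k, hk⟩, e⟩)
      (fun z hz => mem_center_iff.2 fun g => Subtype.ext (mem_center_iff.1 (hZ hz) g)) (fun e => h3 (e.trans h6))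
      (fun e => h4 (e.trans h6)) (ez_sub hZ hE _ (fun t => ?_)
        (((commutator T).subtype.comp (Subgroup.subtype _)).codRestrict _ fun z => z.2) (fun _ => rfl) fun _ hk => hk)
    obtain ⟨k, hk, e⟩ := h5.ge (mem_top (f t))
    exact ⟨k, hk, k⁻¹ * t, by rw [MonoidHom.mem_ker, map_mul, map_inv, e, inv_mul_cancel], mul_inv_cancel_left k t⟩
  by_cases hi : Function.Injective lam
  swap
  · have hN : (lam.ker.map f.ker.subtype).Normal := ⟨fun n hn g => by
      rwa [mem_center_iff.1 (hZ (map_subtype_le _ hn)) g, mul_inv_cancel_right]⟩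
    let σ : T ⧸ lam.ker.map f.ker.subtype →* S := QuotientGroup.lift _ f (map_subtype_le _)
    let j : f.ker →* σ.ker := ((QuotientGroup.mk' _).comp f.ker.subtype).codRestrict _ fun z => z.2
    have hj : Function.Surjective j := fun ⟨z, hz⟩ => by
      obtain ⟨z, rfl⟩ := QuotientGroup.mk_surjective z
      exact ⟨⟨z, hz⟩, rfl⟩
    have hk : j.ker ≤ lam.ker := fun z hz => by
      obtain ⟨y, hy, e⟩ := (QuotientGroup.eq_one_iff (z : T)).1 (congrArg Subtype.val hz)
      exact (Subtype.ext e : y = z) ▸ hy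
    have h6 := card_dvd_of_surjective j hj
    refine ih _ (hT ▸ card_quot_lt fun e => hi ((MonoidHom.ker_eq_bot_iff _).1
      ((map_eq_bot_iff_of_injective _ (subtype_injective _)).1 e))) _ σ (j.liftOfSurjective hj ⟨lam, hk⟩) rfl
      (fun s => let ⟨t, e⟩ := hf s; ⟨t, e⟩) (fun z hz => ?_) (fun e => h3 (e.trans h6)) (fun e => h4 (e.trans h6))
      (ez_quot hE (QuotientGroup.mk' _) (QuotientGroup.mk'_surjective _) j (fun _ => rfl)
        fun z => MonoidHom.liftOfRightInverse_comp_apply _ _ _ _ z)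
    obtain ⟨z, rfl⟩ := QuotientGroup.mk_surjective z
    refine mem_center_iff.2 fun g => ?_
    obtain ⟨g, rfl⟩ := QuotientGroup.mk_surjective g
    exact congrArg QuotientGroup.mk (mem_center_iff.1 (hZ hz) g)
  by_cases hk : f.ker = ⊥
  swap
  · exact .inr ⟨T, _, inferInstance, f, lam, ⟨hf, hZ, hc ▸ le_top⟩, hk, h3, h4, hi, hE⟩
  have hEE : EE p q S := fun χ => by
    rw [← deg_infl f hf]
    refine hE _ fun z => ?_
    rw [show z = 1 from Subtype.ext (mem_bot.1 (hk ▸ z.2)), map_one, Units.val_one, one_mul, coe_one]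
  obtain ⟨Mp, hMp⟩ := Blocks.ExistsModular.exists_isPModular hp
  obtain ⟨Mq, hMq⟩ := Blocks.ExistsModular.exists_isPModular hq
  exact .inl (Asm.cv87_of SS.cv87 S hS hn S0000.result p q hp hq hpq Mp Mq hMp hMq dp dq (fun χ _ => (hEE χ).1)
    fun χ _ => (hEE χ).2)

/-- commuting Sylow subgroups, or a faithful character of a proper stem extension -/
theorem core (p q : ℕ) [hp : Fact p.Prime] [hq : Fact q.Prime] (hpq : p ≠ q) (S : Type) [Group S] [Finite S]
    (hs : IsSimpleGroup S) (hn : ¬ IsMulCommutative S) (hT : Tw p q S) :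
    Com p q S ∨ ∃ (K : Type) (_ : Group K) (_ : Finite K) (σ : K →* S) (lam : σ.ker →* ℂˣ), IsStemExtension σ ∧
      σ.ker ≠ ⊥ ∧ ¬ p ∣ Nat.card σ.ker ∧ ¬ q ∣ Nat.card σ.ker ∧ Function.Injective lam ∧ EZ p q σ.ker lam := by
  obtain ⟨T, _, _, f, lam, h3, h4, h5, h6, h7⟩ := hT
  by_cases dp : p ∣ Nat.card S
  swap
  · exact .inl (com_of_not_dvd hq.out hp.out dp).symm
  by_cases dq : q ∣ Nat.card S
  · exact main hp.out hq.out hpq hs hn dp dq _ T f lam rfl h3 h4 h5 h6 h7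
  · exact .inl (com_of_not_dvd hp.out hq.out dq)

end T4

/-- **the simple case of the relative theorem** -/
theorem boxT4_of (h : All Known QPs) : BoxT4 := by
  intro p q hp hq h2 hqp S _ _ P R hS hn hT H
  by_cases dp : p ∣ Nat.card S
  swap
  · exact (com_of_not_dvd hq.out hp.out dp).symm
  by_cases dq : q ∣ Nat.card S
  swap
  · exact com_of_not_dvd hp.out hq.out dq
  rcases T4.core p q hqp.ne' S hS hn hT with h1 | ⟨K, _, _, σ, lam, h3, h4, h5, h6, h7, h8⟩
  · exact h1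
  · exact h S hS hn S0000.result p q hp.out hq.out h2 hqp dp dq K σ h3 h4 h5 h6 lam h7 h8 P R H

end Cfsg.Agent.PQ.EL
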