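import Cfsg.Agent.PQ.EL.Defs
import Cfsg.Agent.H627.BR.Grp

/-!
# S4982: two normal subgroups which meet trivially (helper52)

`f₁`, `f₂` are the maps to the two quotients.  The partner of `P` is the intersection of the preimages of the partners of
the two images of `P`.
-/

set_option autoImplicit false

namespace Cfsg.Agent.PQ.EL

open Cfsg Cfsg.Agent.LV Cfsg.Agent.PQ.LE Subgroup

namespace Two

universe u v w

variable {p q : ℕ} {G : Type u} {H : Type v} {K : Type w} [Group G] [Group H] [Group K]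

/-- the normaliser of the image of a Sylow subgroup -/
theorem lift_norm [Finite G] [Fact p.Prime] (P : Sylow p G) (f : G →* H) (hf : Function.Surjective f) {h : H}
    (hh : h ∈ normalizer (((P : Subgroup G).map f : Subgroup H) : Set H)) :
    ∃ g ∈ normalizer ((P : Subgroup G) : Set G), f g = h := by
  obtain ⟨g, rfl⟩ := hf h
  obtain ⟨k, hk, hg⟩ := H627.BR.frat P f.ker (g := g) (by
    intro x hx
    have h1 := (mem_normalizer_iff.1 hh (f x)).1 (mem_map_of_mem f hx)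
    rw [← map_inv, ← map_mul, ← map_mul] at h1
    rw [← comap_map_eq]
    exact h1)
  exact ⟨k⁻¹ * g, mem_normalizer_fintype hg, by rw [map_mul, map_inv, MonoidHom.mem_ker.1 hk, inv_one, one_mul]⟩

/-- the `q`-part of a lift of a `q`-element -/
theorem lift_el [Finite G] (hq : q.Prime) (f : G →* H) (g : G) (h : El q (f g)) : ∃ k : ℕ, El q (g ^ k) ∧ f (g ^ k) = f g := by
  obtain ⟨k, hk⟩ := h
  obtain ⟨s, r, hr, hn⟩ := Nat.exists_eq_pow_mul_and_not_dvd (orderOf_pos g).ne' q hq.ne_one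
  obtain ⟨u, hu⟩ := Nat.exists_mul_mod_eq_of_coprime (n := r) (k := q ^ k) 1
    (Nat.Coprime.pow_right k (hq.coprime_iff_not_dvd.2 hr).symm) (pow_pos hq.pos k).ne'
  refine ⟨r * u, ?_, ?_⟩
  · have h1 : orderOf (g ^ (r * u)) ∣ q ^ s := by
      apply orderOf_dvd_of_pow_eq_one
      rw [← pow_mul, show r * u * q ^ s = orderOf g * u by rw [hn]; ring, pow_mul, pow_orderOf_eq_one, one_pow]
    obtain ⟨m, -, hm⟩ := (Nat.dvd_prime_pow hq).1 h1
    exact ⟨m, hm⟩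
  · rw [map_pow]
    conv_rhs => rw [← pow_one (f g)]
    rw [pow_eq_pow_iff_modEq, hk]
    exact hu.2

theorem el_map (hq : q.Prime) (f : G →* H) {g : G} (h : El q g) : El q (f g) := by
  obtain ⟨k, hk⟩ := h
  obtain ⟨m, -, hm⟩ := (Nat.dvd_prime_pow hq).1 (hk ▸ orderOf_map_dvd f g)
  exact ⟨m, hm⟩

variable {f₁ : G →* H} {f₂ : G →* K}

theorem pgrp (hj : ∀ x, f₁ x = 1 → f₂ x = 1 → x = 1) {A : Subgroup H} {B : Subgroup K} (hA : IsPGroup p A)
    (hB : IsPGroup p B) : IsPGroup p (A.comap f₁ ⊓ B.comap f₂ : Subgroup G) := by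
  intro x
  obtain ⟨a, ha⟩ := hA ⟨f₁ x, x.2.1⟩
  obtain ⟨b, hb⟩ := hB ⟨f₂ x, x.2.2⟩
  have ha' : f₁ x ^ p ^ a = 1 := congrArg Subtype.val ha
  have hb' : f₂ x ^ p ^ b = 1 := congrArg Subtype.val hb
  refine ⟨a + b, Subtype.ext (hj ((x : G) ^ p ^ (a + b)) ?_ ?_)⟩
  · rw [map_pow, pow_add, pow_mul, ha', one_pow]
  · rw [map_pow, add_comm, pow_add, pow_mul, hb', one_pow]

theorem comm (hj : ∀ x, f₁ x = 1 → f₂ x = 1 → x = 1) {A : Subgroup G} (h₁ : ∀ a ∈ A.map f₁, ∀ b ∈ A.map f₁, a * b = b * a)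
    (h₂ : ∀ a ∈ A.map f₂, ∀ b ∈ A.map f₂, a * b = b * a) : IsMulCommutative A := by
  refine ⟨⟨fun a b => Subtype.ext (mul_inv_eq_one.1 (hj ((a : G) * b * ((b : G) * a)⁻¹) ?_ ?_))⟩⟩
  · rw [map_mul, map_inv, map_mul, map_mul, h₁ _ (mem_map_of_mem _ a.2) _ (mem_map_of_mem _ b.2), mul_inv_cancel]
  · rw [map_mul, map_inv, map_mul, map_mul, h₂ _ (mem_map_of_mem _ a.2) _ (mem_map_of_mem _ b.2), mul_inv_cancel]

theorem norm_le [Finite G] (hj : ∀ x, f₁ x = 1 → f₂ x = 1 → x = 1) (A : Subgroup G) (Q : Sylow q G)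
    (h₁ : normalizer ((A.map f₁ : Subgroup H) : Set H) ≤ normalizer (((Q : Subgroup G).map f₁ : Subgroup H) : Set H))
    (h₂ : normalizer ((A.map f₂ : Subgroup K) : Set K) ≤ normalizer (((Q : Subgroup G).map f₂ : Subgroup K) : Set K)) :
    normalizer (A : Set G) ≤ normalizer ((Q : Subgroup G) : Set G) := by
  intro g hg
  have e := Q.is_maximal' (pgrp hj (Q.2.map f₁) (Q.2.map f₂)) (le_inf (le_comap_map _ _) (le_comap_map _ _))
  refine mem_normalizer_fintype fun x hx => e.le (mem_inf.2 ⟨mem_comap.2 ?_, mem_comap.2 ?_⟩)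
  · rw [map_mul, map_mul, map_inv]
    exact (mem_normalizer_iff.1 (h₁ (le_normalizer_map f₁ (mem_map_of_mem f₁ hg))) _).1 (mem_map_of_mem f₁ hx)
  · rw [map_mul, map_mul, map_inv]
    exact (mem_normalizer_iff.1 (h₂ (le_normalizer_map f₂ (mem_map_of_mem f₂ hg))) _).1 (mem_map_of_mem f₂ hx)

/-- the intersection of the preimages maps onto the partner -/
theorem onto [Finite G] [Fact p.Prime] [hq : Fact q.Prime] (hf : Function.Surjective f₁) (P : Sylow p G) (Q₁ : Sylow q H)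
    (Q₂ : Sylow q K)
    (h₁ : normalizer (((P : Subgroup G).map f₁ : Subgroup H) : Set H) = normalizer ((Q₁ : Subgroup H) : Set H))
    (h₂ : normalizer (((P : Subgroup G).map f₂ : Subgroup K) : Set K) = normalizer ((Q₂ : Subgroup K) : Set K)) :
    ((Q₁ : Subgroup H).comap f₁ ⊓ (Q₂ : Subgroup K).comap f₂).map f₁ = Q₁ := by
  refine le_antisymm (map_le_iff_le_comap.2 inf_le_left) fun y hy => ?_
  obtain ⟨g, hg, rfl⟩ := lift_norm P f₁ hf (h₁.ge (le_normalizer hy))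
  obtain ⟨k, hk, e⟩ := lift_el hq.out f₁ g (Red.order_of_mem hq.out Q₁.2 hy)
  exact ⟨g ^ k, ⟨mem_comap.2 (e ▸ hy), mem_of_norm Q₂ (h₂.le (le_normalizer_map f₂ (mem_map_of_mem f₂ (pow_mem hg k))))
    (el_map hq.out f₂ hk)⟩, e⟩

theorem loc [Finite G] [Fact p.Prime] [Fact q.Prime] (hpq : p ≠ q) (hj : ∀ x, f₁ x = 1 → f₂ x = 1 → x = 1)
    (hf₁ : Function.Surjective f₁) (hf₂ : Function.Surjective f₂) (h₁ : Loc p q H) (h₂ : Loc p q K) : Loc p q G := by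
  have := Finite.of_surjective f₁ hf₁
  have := Finite.of_surjective f₂ hf₂
  obtain ⟨P⟩ : Nonempty (Sylow p G) := inferInstance
  obtain ⟨Q₁, a₁⟩ := exists_par hpq h₁ (P.mapSurjective hf₁)
  obtain ⟨Q₂, a₂⟩ := exists_par hpq h₂ (P.mapSurjective hf₂)
  have e₁ := onto hf₁ P Q₁ Q₂ a₁.nor a₂.nor
  have e₂ := onto hf₂ P Q₂ Q₁ a₂.nor a₁.nor
  rw [inf_comm] at e₂
  obtain ⟨Q, hQ⟩ := (pgrp hj Q₁.2 Q₂.2).exists_le_sylow
  have b₁ : (Q : Subgroup G).map f₁ = Q₁ := Q₁.is_maximal' (Q.2.map f₁) (e₁.ge.trans (map_mono hQ))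
  have b₂ : (Q : Subgroup G).map f₂ = Q₂ := Q₂.is_maximal' (Q.2.map f₂) (e₂.ge.trans (map_mono hQ))
  exact ⟨P, Q, comm hj a₁.abP a₂.abP, comm hj (b₁ ▸ a₁.abQ) (b₂ ▸ a₂.abQ),
    le_antisymm (norm_le hj _ Q (b₁ ▸ a₁.nor.le) (b₂ ▸ a₂.nor.le)) (norm_le hj _ P (b₁ ▸ a₁.nor.ge) (b₂ ▸ a₂.nor.ge))⟩

end Two

/-- two normal subgroups -/
theorem boxTwo : BoxTwo := fun _ _ _ _ hpq _ _ _ M N _ _ h h₁ h₂ =>
  Two.loc hpq (fun _ a b => mem_bot.1 (h.le ⟨(QuotientGroup.eq_one_iff _).1 a, (QuotientGroup.eq_one_iff _).1 b⟩))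
    (QuotientGroup.mk'_surjective M) (QuotientGroup.mk'_surjective N) h₁ h₂

end Cfsg.Agent.PQ.EL
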