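import Cfsg.Agent.PQ.EL.Defs

/-!
# S4982: the relative theorem `boxY_of` (helper82)
-/

set_option autoImplicit false
set_option linter.unusedSectionVars false

namespace Cfsg.Agent.PQ.EL

open Cfsg Cfsg.Agent.LV Cfsg.Agent.PQ.LE Cfsg.Agent.PQ.Red Subgroup
open scoped commutatorElement

namespace Y

variable {p q : ℕ} {X : Type} [Group X] [Finite X]

theorem com_up (hp : p.Prime) (hq : q.Prime) {H : Subgroup X} (h1 : ¬ p ∣ H.index) (h2 : ¬ q ∣ H.index)
    (h : Com p q H) : Com p q X := by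
  have := Fact.mk hp
  have := Fact.mk hq
  obtain ⟨P, Q, h⟩ := h
  refine com_mk hp hq (P.2.map H.subtype) ?_ (Q.2.map H.subtype) ?_ ?_
  · rw [index_map_subtype]
    exact fun e => (hp.dvd_mul.1 e).elim P.not_dvd_index h1
  · rw [index_map_subtype]
    exact fun e => (hq.dvd_mul.1 e).elim Q.not_dvd_index h2
  · rintro _ ⟨x, hx, rfl⟩ _ ⟨y, hy, rfl⟩
    exact congrArg Subtype.val (h x hx y hy)

theorem mem_of_el (hp : p.Prime) {K : Subgroup X} [K.Normal] (h : ¬ p ∣ K.index) {x : X} (hx : El p x) : x ∈ K := by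
  obtain ⟨k, hk⟩ := hx
  refine zpowers_le.2 (K.pow_index_mem x) (mem_zpowers_pow_iff.2 ?_)
  rw [hk]
  exact ((hp.coprime_iff_not_dvd.2 h).pow_left k).symm

theorem pR {P R : Subgroup X} (h : Hy p q P R) : IsPGroup q R := fun x => by
  obtain ⟨k, hk⟩ := ((h.mem x).1 x.2).1
  exact ⟨k, Subtype.ext (by rw [coe_pow, ← hk, pow_orderOf_eq_one, coe_one])⟩

theorem primes_sup (hp : p.Prime) (hq : q.Prime) {P R : Subgroup X} (h : Hy p q P R) (r : ℕ) (hr : r.Prime)
    (hd : r ∣ Nat.card ↥(P ⊔ R)) : r = p ∨ r = q := by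
  have := Fact.mk hp
  have := Fact.mk hq
  have hc : ∀ (a : P) (b : R), Commute (P.subtype a) (R.subtype b) := fun a b => ((h.mem b).1 b.2).2 a a.2
  have h1 := card_dvd_of_surjective _ (MonoidHom.noncommCoprod P.subtype R.subtype hc).rangeRestrict_surjective
  rw [MonoidHom.noncommCoprod_range, range_subtype, range_subtype, Nat.card_prod] at h1
  obtain ⟨a, ha⟩ := IsPGroup.iff_card.1 h.pP
  obtain ⟨b, hb⟩ := IsPGroup.iff_card.1 (pR h)
  rw [ha, hb] at h1
  exact (hr.dvd_mul.1 (hd.trans h1)).imp (fun e => (Nat.prime_dvd_prime_iff_eq hr hp).1 (hr.dvd_of_dvd_pow e))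
    fun e => (Nat.prime_dvd_prime_iff_eq hr hq).1 (hr.dvd_of_dvd_pow e)

theorem card_lt {K : Subgroup X} (h : K ≠ ⊤) : Nat.card K < Nat.card X :=
  lt_of_le_of_ne (card_le_card_group K) fun e => h (eq_top_of_card_eq K e)

theorem eq_of_simple {S U : Subgroup X} [S.Normal] [hU : U.Normal] (hS : IsSimpleGroup S) (h : U ≤ S) : U = ⊥ ∨ U = S := by
  refine (hS.eq_bot_or_eq_top_of_normal (U.subgroupOf S) inferInstance).imp (fun e => ?_) fun e => ?_
  · rwa [subgroupOf_eq_bot, disjoint_iff, inf_eq_left.2 h] at e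
  · exact le_antisymm h (subgroupOf_eq_top.1 e)

end Y

open Y in
/-- **the relative theorem** -/
theorem boxY_of (h1 : BoxT1) (h2 : BoxT2) (h4 : BoxT4) (hH : BoxHy) (hL : BoxSL) : BoxY := by
  intro p q hp hq hq2 hqp
  have hpq : p ≠ q := hqp.ne'
  suffices H : ∀ (n : ℕ) (X : Type) [Group X] [Finite X] (P R : Subgroup X), Nat.card X = n → Tw p q X → Hy p q P R →
      Com p q X from fun X _ _ P R => H _ X P R rfl
  intro n
  induction n using Nat.strong_induction_on with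
  | _ n ih =>
  intro X _ _ P R hn hT hy
  by_cases hM : ∀ M : Subgroup X, M.Normal → ¬ p ∣ Nat.card M → ¬ q ∣ Nat.card M → M = ⊥
  swap
  · push Not at hM
    obtain ⟨M, hMn, hMp, hMq, hM0⟩ := hM
    obtain ⟨X', hA, hMX, hi, hT'⟩ := h1 p q X M (P ⊔ R) hMp hMq (hy.wa _ (primes_sup hp.out hq.out hy))
      (primes_sup hp.out hq.out hy) (fun e => hy.iP (e.trans (index_dvd_of_le le_sup_left))) hT
    have hc : Nat.card (M.subgroupOf X') = Nat.card M := Nat.card_congr (subgroupOfEquivOfLe hMX).toEquiv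
    have hy1 := (hH p q hpq X P R hy).1 X' (le_sup_left.trans hA) (le_sup_right.trans hA)
    have hy2 := (hH p q hpq X' _ _ hy1).2.1 _ (QuotientGroup.mk' (M.subgroupOf X')) (QuotientGroup.mk'_surjective _)
      (by rwa [QuotientGroup.ker_mk', hc]) (by rwa [QuotientGroup.ker_mk', hc])
    have h0 : M.subgroupOf X' ≠ ⊥ := fun e => hM0 (by rwa [subgroupOf_eq_bot, disjoint_iff, inf_eq_left.2 hMX] at e)
    have h5 := ih _ (hn ▸ (card_quot_lt h0).trans_le (card_le_card_group X')) _ _ _ rfl hT' hy2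
    exact com_up hp.out hq.out (fun e => hy.iP (e.trans (index_dvd_of_le (le_sup_left.trans hA)))) hi
      (com_glue hp.out hq.out hpq _ h5 (com_of_not_dvd hp.out hq.out (by rwa [hc]))
        (inn2_of_not_dvd hp.out (by rwa [hc])) (inn2_of_not_dvd hq.out (by rwa [hc])))
  by_cases hK : ∀ K : Subgroup X, K.Normal → ¬ p ∣ K.index → ¬ q ∣ K.index → K = ⊤
  swap
  · push Not at hK
    obtain ⟨K, hKn, hKp, hKq, hK0⟩ := hK
    exact com_up hp.out hq.out hKp hKq (ih _ (hn ▸ card_lt hK0) K _ _ rfl ((h2 p q X hT).1 K hKp hKq)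
      ((hH p q hpq X P R hy).1 K (fun x hx => mem_of_el hp.out hKp (order_of_mem hp.out hy.pP hx))
        fun x hx => mem_of_el hq.out hKq ((hy.mem x).1 hx).1))
  rcases hL p q hq2 hqp X hy.wa hM hK with h | ⟨S, hSn, hS, hna, hSC⟩
  · exact h
  have hi : S ⊓ centralizer (S : Set X) = ⊥ := (eq_of_simple hS inf_le_left).resolve_right fun e =>
    hna ⟨⟨fun a b => Subtype.ext (mem_centralizer_iff.1 (e.ge b.2).2 a a.2)⟩⟩
  have hp' : ⁅S, S⁆ = S := (eq_of_simple hS (commutator_le_left S S)).resolve_left fun e =>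
    hna ⟨⟨fun a b => Subtype.ext (mem_centralizer_iff.1 (commutator_eq_bot_iff_le_centralizer.1 e b.2) a a.2)⟩⟩
  obtain ⟨hT1, hT2⟩ := (h2 p q X hT).2 S _ hSC hi hp'
  have h5 := h4 p q hq2 hqp S _ _ hS hna hT1 ((hH p q hpq X P R hy).2.2 S _ hSC hi)
  have h6 : centralizer (S : Set X) ≠ ⊤ := fun e => by
    rw [e, inf_top_eq] at hi
    have := hS.toNontrivial
    exact (nontrivial_iff_ne_bot S).1 this hi
  have h7 := ih _ (hn ▸ card_lt h6) _ _ _ rfl hT2
    ((hH p q hpq X P R hy).2.2 _ S ((sup_comm _ _).trans hSC) ((inf_comm _ _).trans hi))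
  have h8 : ∀ r s : ℕ, Inn2 r s S := fun r s U x _ =>
    (hSC.ge.trans (sup_le_sup_left (centralizer_le (SetLike.coe_subset_coe.2 inf_le_right)) _)) (mem_top x)
  refine com_glue hp.out hq.out hpq S (com_surj hp.out hq.out h7 ((QuotientGroup.mk' S).comp (Subgroup.subtype _))
    fun x => ?_) h5 (h8 p q) (h8 q p)
  obtain ⟨x, rfl⟩ := QuotientGroup.mk'_surjective S x
  have hx : x ∈ ((centralizer (S : Set X) ⊔ S : Subgroup X) : Set X) := by rw [sup_comm, hSC]; exact mem_top x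
  rw [mul_normal] at hx
  obtain ⟨c, hc, s, hs, rfl⟩ := hx
  refine ⟨⟨c, hc⟩, ?_⟩
  show QuotientGroup.mk' S c = QuotientGroup.mk' S (c * s)
  rw [map_mul, (QuotientGroup.eq_one_iff (N := S) s).2 hs |> (id : QuotientGroup.mk' S s = 1 → _), mul_one]

end Cfsg.Agent.PQ.EL
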