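import Cfsg.Agent.PQ.LE.KA
import Cfsg.Agent.PQ.EL.Star
import Cfsg.Agent.PQ.EL.Two
import Cfsg.Agent.PQ.EL.Sol
import Cfsg.Agent.PQ.EL.A
import Cfsg.Agent.PQ.EL.B
import Cfsg.Agent.PQ.EL.Y
import Cfsg.Agent.PQ.EL.T0
import Cfsg.Agent.PQ.EL.T1
import Cfsg.Agent.PQ.EL.T2
import Cfsg.Agent.PQ.EL.T4
import Cfsg.Agent.PQ.EL.Hy
import Cfsg.Agent.PQ.EL.Hy0
import Cfsg.Agent.PQ.EL.SL
import Cfsg.Agent.PQ.EL.Amb
import Cfsg.Agent.PQ.EA.D2
import Cfsg.Agent.PQ.EA.Defs3
import Cfsg.Agent.H954.LD.Asm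
import Cfsg.Agent.H343.LD.RowFi23
import Cfsg.Agent.H343.LD.RowFi24
import Cfsg.Agent.H641.CycQuot

/-!
# S4982 from the rows (helper72)

`nr_of_zz`, `ambs_of`, `main_of`, `main_rows`.
-/

set_option autoImplicit false
set_option linter.unusedSectionVars false

namespace Cfsg.Agent.PQ.EL

open Cfsg Cfsg.Agent.LV Cfsg.Agent.PQ.LE Subgroup

universe u

theorem factCop : H671.H5.FactCop.{0} :=
  H954.LD.factCop (fun _ _ _ _ => S0000.result) (H954.LD.rows_of ⟨OrdDiv.table, fun _ _ _ _ => S0000.result⟩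
    (fun _ _ _ _ hna h => H343.LD.row_Fi23 hna h) fun _ _ _ _ hna h => H343.LD.row_Fi24 hna h)

section

variable {p q : ℕ} {S : Type} [Group S] [Finite S] [hp : Fact p.Prime] [hq : Fact q.Prime]

theorem norm_le_of_cent (hA : AbS q S) {P : Subgroup S} {Q : Sylow q S}
    (h : centralizer (P : Set S) = centralizer ((Q : Subgroup S) : Set S)) :
    normalizer (P : Set S) ≤ normalizer ((Q : Subgroup S) : Set S) := fun g hg =>
  mem_normalizer_fintype fun x hx => mem_of_norm Q (centralizer_le_normalizer _ (h ▸ Red.conj_mem_cent hg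
    (h ▸ mem_centralizer_iff.2 fun y hy => abS_iff.1 hA Q y hy x hx)))
    (HyB.el_map (HyB.el_of Q.2 hx) (MulAut.conj g).toMonoidHom)

theorem au_conj (P P' : Sylow p S) : AmbL.au (P' : Subgroup S) ∣ AmbL.au (P : Subgroup S) := by
  obtain ⟨g, rfl⟩ := MulAction.exists_smul_eq S P P'
  have h := AmbL.au_sec ((MulAut.conj g).toMonoidHom.comp (⊤ : Subgroup S).subtype)
    ((MulAut.conj g).surjective.comp fun x => ⟨⟨x, mem_top x⟩, rfl⟩) (P.subtype le_top)
  rwa [← map_map, Sylow.coe_subtype, subgroupOf_map_subtype, inf_top_eq] at h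

end

/-- the same centraliser -/
theorem nr_of_zz {S : Type} [Group S] [Finite S] (h : EA.ZZ S) : EA.NR S := fun p q H hE => by
  have := Fact.mk H.pp
  have := Fact.mk H.pq
  obtain ⟨P, Q, h1⟩ := h p q H hE
  have h2 := le_antisymm (norm_le_of_cent H.abq h1) (norm_le_of_cent H.abp h1.symm)
  refine ⟨⟨P, Q, H.abp P, H.abq Q, h2⟩, fun _ hc P' => (au_conj P P').trans ?_⟩
  rw [AmbL.au, h1, h2]
  refine (H641.isCyclic_quotient_and_dvd H.pq Q.2 (Q.ne_bot_of_dvd_card H.dq) (hc Q) le_rfl (centralizer_le_normalizer _)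
    fun e => Q.not_dvd_index (e.trans ((relIndex_dvd_index_of_le (centralizer_le_normalizer _)).trans (index_dvd_of_le
      fun x hx => mem_centralizer_iff.2 fun y hy => abS_iff.1 H.abq Q y hy x hx)))).2

theorem ambs_of (h : All Known EA.NR) : All Known AMBs := fun S _ _ hs hn hK p q hp hq _ hqp h1 h2 hL hc =>
  have := Fact.mk hp
  have := Fact.mk hq
  (h S hs hn hK p q (Red.pair_of_com hn hp hq hqp.ne' h1 h2 (loc_com hqp.ne' hL)) (le_all hqp.ne' hL)).2 hqp hc

/-- **S4982 from four rows** -/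
theorem main_of (hC : All Known EA.CvA) (hA : All Known EA.AUT) (hR : All Known EA.NR) (hQ : All Known QPs)
    {G : Type u} [Group G] [Finite G] {p q : ℕ} [Fact p.Prime] [Fact q.Prime] (hpq : p ≠ q) : EE p q G ↔ Loc p q G := by
  refine ⟨fun h => ?_, le_all hpq⟩
  let e : Shrink.{0} G ≃* G := Shrink.mulEquiv
  have : Finite (Shrink.{0} G) := Finite.of_equiv _ e.symm.toEquiv
  exact AmbL.loc_surj (loc_of boxTwo (boxSol_of boxStar) boxEv (boxA_of boxStar boxT0 (boxHy0_of (boxAmb_of (ambs_of hR)))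
    (boxY_of (boxT1_of boxT0) boxT2 (boxT4_of hQ) boxHy boxSL)) (boxB_of boxStar boxFix) (boxC_of boxFix)
    (EA.boxD_of factCop hC hA hR) hpq _ _ rfl (h.surj e.symm.toMonoidHom e.symm.surjective)) e.toMonoidHom e.surjective

/-- **S4982 from the list of the rows** -/
theorem main_rows (h : EA.Rows) {G : Type u} [Group G] [Finite G] {p q : ℕ} [Fact p.Prime] [Fact q.Prime] (hpq : p ≠ q) :
    EE p q G ↔ Loc p q G :=
  main_of h.cva h.aut (all_known_of_lie h.nn fun S _ _ hs hn hK => nr_of_zz (h.lie.zz h.zz S hs hn hK)) h.qps hpq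

end Cfsg.Agent.PQ.EL
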