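import Cfsg.Agent.PQ.EL.Main
import Cfsg.Agent.PQ.EA.GD
import Cfsg.Agent.PQ.EA.Pure
import Cfsg.Agent.PQ.EA.Perm
import Cfsg.Agent.PQ.EA.Dg
import Cfsg.Agent.PQ.EA.Same
import Cfsg.Agent.PQ.EA.Lvl
import Cfsg.Agent.PQ.EA.Pdj
import Cfsg.Agent.PQ.EA.Wit
import Cfsg.Agent.PQ.EA.LrA
import Cfsg.Agent.PQ.EA.Qd
import Cfsg.Agent.PQ.EA.CvD
import Cfsg.Agent.PQ.EA.CvA
import Cfsg.Agent.PQ.EA.CvB2
import Cfsg.Agent.PQ.EA.SemA
import Cfsg.Agent.PQ.EA.SemB2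
import Cfsg.Agent.PQ.EA.Nl

/-!
# S4982: the assembly of the rows which are proved (helper72)
-/

set_option autoImplicit false

namespace Cfsg.Agent.PQ.EL

open Cfsg Cfsg.Agent.PQ.EA

universe u

theorem wit : BoxWit := boxWit_of (boxPdj_of boxPure boxSame boxLvl) boxDg boxPerm

theorem gdA : AllC SS.ClA GD := gdA_of wit boxSame

theorem main_rows2 (h : Rows2) {G : Type u} [Group G] [Finite G] {p q : ℕ} [Fact p.Prime] [Fact q.Prime] (hpq : p ≠ q) :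
    EE p q G ↔ LE.Loc p q G :=
  main_of h.cva h.aut (all_known_of_lie h.nn fun S _ _ hs hn hK => nr_of_zz (h.zzl S hs hn hK)) h.qps hpq

theorem rows2_of (lrB : AllC SS.ClB LR) (lrX : AllC SS.Ex LR) (qk : AllC (fun r S _ => IsLieTypeChar r S) QPk)
    (qx : BoxQx) (zz : BoxZz) (gq : BoxGq) (gz : BoxGz) (h8 : P823) (cX : AllC SS.Ex CvX) (aut : All Known AUT)
    (nq : NlRows QPs) : Rows2 :=
  ⟨⟨gdA, lrB, lrX, qk, EA.qd⟩, qx, zz, gq, gz, cd, cA_of boxSemA, cB_of semB h8, cX, aut, nq, nn, nc⟩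

end Cfsg.Agent.PQ.EL
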