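import Cfsg.Agent.PQ.EL.R2
import Cfsg.Agent.PQ.EL.A
import Cfsg.Agent.PQ.EL.T0
import Cfsg.Agent.PQ.EL.T2
import Cfsg.Agent.PQ.EL.Star

/-!
# S4982: the relative theorem with `Hz` (helper72; the proofs follow `Y.lean` and `A.lean`)
-/

set_option autoImplicit false
set_option linter.unusedSectionVars false

namespace Cfsg.Agent.PQ.EL

open Cfsg Cfsg.Agent.LV Cfsg.Agent.PQ.LE Cfsg.Agent.PQ.Red Subgroup
open scoped commutatorElement

/-- the simple case -/
def BoxT5 : Prop :=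
  ∀ (p q : ℕ) [Fact p.Prime] [Fact q.Prime], 2 < q → q < p → ∀ (S : Type) [Group S] [Finite S] (P R : Subgroup S),
    IsSimpleGroup S → ¬ IsMulCommutative S → Tw p q S → Hz p q P R → Com p q S

/-- the relative theorem -/
def BoxZ : Prop :=
  ∀ (p q : ℕ) [Fact p.Prime] [Fact q.Prime], 2 < q → q < p → ∀ (X : Type) [Group X] [Finite X] (P R : Subgroup X),
    Tw p q X → Hz p q P R → Com p q X

open Y in
/-- **the relative theorem** -/
theorem boxZ_of (h4 : BoxT5) : BoxZ := by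
  intro p q hp hq hq2 hqp
  have hpq : p ≠ q := hqp.ne'
  suffices H : ∀ (n : ℕ) (X : Type) [Group X] [Finite X] (P R : Subgroup X), Nat.card X = n → Tw p q X → Hz p q P R →
      Com p q X from fun X _ _ P R => H _ X P R rfl
  intro n
  induction n using Nat.strong_induction_on with
  | _ n ih =>
  intro X _ _ P R hn hT hz
  have hy := hz.hy
  by_cases hM : ∀ M : Subgroup X, M.Normal → ¬ p ∣ Nat.card M → ¬ q ∣ Nat.card M → M = ⊥
  swap
  · push Not at hM
    obtain ⟨M, hMn, hMp, hMq, hM0⟩ := hM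
    obtain ⟨X', hA, hMX, hi, hT'⟩ := boxT1_of boxT0 p q X M (P ⊔ R) hMp hMq (hy.wa _ (primes_sup hp.out hq.out hy))
      (primes_sup hp.out hq.out hy) (fun e => hy.iP (e.trans (index_dvd_of_le le_sup_left))) hT
    have hc : Nat.card (M.subgroupOf X') = Nat.card M := Nat.card_congr (subgroupOfEquivOfLe hMX).toEquiv
    have hy1 := hz.sub X' (le_sup_left.trans hA) (le_sup_right.trans hA)
    have hy2 := hy1.quo (QuotientGroup.mk' (M.subgroupOf X')) (QuotientGroup.mk'_surjective _)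
      (by rwa [QuotientGroup.ker_mk', hc]) (by rwa [QuotientGroup.ker_mk', hc])
    have h0 : M.subgroupOf X' ≠ ⊥ := fun e => hM0 (by rwa [subgroupOf_eq_bot, disjoint_iff, inf_eq_left.2 hMX] at e)
    have h5 := ih _ (hn ▸ (card_quot_lt h0).trans_le (card_le_card_group X')) _ _ _ rfl hT' hy2
    exact com_up hp.out hq.out (fun e => hy.iP (e.trans (index_dvd_of_le (le_sup_left.trans hA)))) hi
      (com_glue hp.out hq.out hpq _ h5 (com_of_not_dvd hp.out hq.out (by rwa [hc]))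
        (inn2_of_not_dvd hp.out (by rwa [hc])) (inn2_of_not_dvd hq.out (by rwa [hc])))
  by_cases hK : ∀ K : Subgroup X, K.Normal → ¬ p ∣ K.index → ¬ q ∣ K.index → K = ⊤
  swap
  · push Not at hK
    obtain ⟨K, hKn, hKp, hKq, hK0⟩ := hK
    exact com_up hp.out hq.out hKp hKq (ih _ (hn ▸ card_lt hK0) K _ _ rfl ((boxT2 p q X hT).1 K hKp hKq)
      (hz.sub K (fun x hx => mem_of_el hp.out hKp (order_of_mem hp.out hy.pP hx))
        fun x hx => mem_of_el hq.out hKq ((hy.mem x).1 hx).1))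
  rcases boxSL p q hq2 hqp X hy.wa hM hK with h | ⟨S, hSn, hS, hna, hSC⟩
  · exact h
  have hi : S ⊓ centralizer (S : Set X) = ⊥ := (eq_of_simple hS inf_le_left).resolve_right fun e =>
    hna ⟨⟨fun a b => Subtype.ext (mem_centralizer_iff.1 (e.ge b.2).2 a a.2)⟩⟩
  have hp' : ⁅S, S⁆ = S := (eq_of_simple hS (commutator_le_left S S)).resolve_left fun e =>
    hna ⟨⟨fun a b => Subtype.ext (mem_centralizer_iff.1 (commutator_eq_bot_iff_le_centralizer.1 e b.2) a a.2)⟩⟩
  obtain ⟨hT1, hT2⟩ := (boxT2 p q X hT).2 S _ hSC hi hp'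
  have h5 := h4 p q hq2 hqp S _ _ hS hna hT1 (hz.fac S _ hSC hi)
  have h6 : centralizer (S : Set X) ≠ ⊤ := fun e => by
    rw [e, inf_top_eq] at hi
    have := hS.toNontrivial
    exact (nontrivial_iff_ne_bot S).1 this hi
  have h7 := ih _ (hn ▸ card_lt h6) _ _ _ rfl hT2
    (hz.fac _ S ((sup_comm _ _).trans hSC) ((inf_comm _ _).trans hi))
  have h8 : ∀ r s : ℕ, Inn2 r s S := fun r s U x _ =>
    (hSC.ge.trans (sup_le_sup_left (centralizer_le (SetLike.coe_subset_coe.2 inf_le_right)) _)) (mem_top x)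
  refine com_glue hp.out hq.out hpq S (com_surj hp.out hq.out h7 ((QuotientGroup.mk' S).comp (Subgroup.subtype _))
    fun x => ?_) h5 (h8 p q) (h8 q p)
  obtain ⟨x, rfl⟩ := QuotientGroup.mk'_surjective S x
  have hx : x ∈ ((centralizer (S : Set X) ⊔ S : Subgroup X) : Set X) := by rw [sup_comm, hSC]; exact mem_top x
  rw [mul_normal] at hx
  obtain ⟨c, hc, s, hs, rfl⟩ := hx
  refine ⟨⟨c, hc⟩, ?_⟩
  show QuotientGroup.mk' S c = QuotientGroup.mk' S (c * s)
  rw [map_mul, (QuotientGroup.eq_one_iff (N := S) s).2 hs |> (id : QuotientGroup.mk' S s = 1 → _), mul_one]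

/-- **an abelian normal subgroup of order prime to `p q`** -/
theorem boxA_of' (hK : All Known RK) (hH : BoxHy0) (hY : BoxZ) : BoxA := by
  intro p q hp hq h2 hqp G _ _ N _ hab hpN hqN hL hE
  have hpq : p ≠ q := hqp.ne'
  obtain ⟨P, Q, hc⟩ := Red.com_glue hp.out hq.out hpq N (loc_com hpq hL) (Red.com_of_not_dvd hp.out hq.out hqN)
    (Red.inn2_of_not_dvd hp.out hpN) (Red.inn2_of_not_dvd hq.out hqN)
  let f := QuotientGroup.mk' N
  have hf : Function.Surjective f := QuotientGroup.mk'_surjective N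
  obtain ⟨Q0, hpar⟩ := exists_par hpq hL (P.mapSurjective hf)
  have hmem : ∀ x : G, (∀ a ∈ (P : Subgroup G), a * x = x * a) → El q x → f x ∈ (Q0 : Subgroup (G ⧸ N)) := by
    rintro x h1 ⟨k, hk⟩
    refine hpar.mem _ ?_ ?_
    · rintro _ ⟨a, ha, rfl⟩
      rw [← map_mul, ← map_mul, h1 a ha]
    · obtain ⟨j, -, hj⟩ := (Nat.dvd_prime_pow hq.out).1 (hk ▸ orderOf_map_dvd f x)
      exact ⟨j, hj⟩
  have hQ : (Q0 : Subgroup (G ⧸ N)) = (Q : Subgroup G).map f := by
    refine (Q.mapSurjective hf).is_maximal' Q0.2 ?_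
    rintro _ ⟨x, hx, rfl⟩
    exact hmem x (fun a ha => hc a ha x hx) (Red.order_of_mem hq.out Q.2 hx)
  have hker : ∀ a b : G, f a = f b → a⁻¹ * b ∈ N := fun a b h => QuotientGroup.eq.1 h
  have hQc : ∀ a ∈ (Q : Subgroup G), ∀ b ∈ (Q : Subgroup G), a * b = b * a := by
    intro a ha b hb
    refine inv_mul_eq_one.1 (A.one_of_el hqN (hker _ _ ?_)
      (Red.order_of_mem hq.out Q.2 (mul_mem (inv_mem (mul_mem ha hb)) (mul_mem hb ha))))
    rw [map_mul, map_mul]
    exact hpar.abQ _ (hQ ▸ mem_map_of_mem f ha) _ (hQ ▸ mem_map_of_mem f hb)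
  by_cases h1 : ∀ m ∈ N, (∀ a ∈ (P : Subgroup G), a * m = m * a) → ∀ y ∈ (Q : Subgroup G), y * m = m * y
  · refine boxStar p q hpq G P Q hQc hc (fun x h3 h4 => ?_) fun χ h => (hE χ).2 h
    obtain ⟨y, hy, h5⟩ : f x ∈ (Q : Subgroup G).map f := hQ ▸ hmem x h3 h4
    have h6 : Commute y (y⁻¹ * x) := h1 _ (hker _ _ h5)
      (fun a ha => (Commute.inv_right (hc a ha y hy)).mul_right (h3 a ha)) y hy
    have h7 : Commute y⁻¹ x := by
      have h8 := (Commute.refl y).mul_right h6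
      rw [mul_inv_cancel_left] at h8
      exact h8.inv_left
    obtain ⟨j, hj⟩ := Red.order_of_mem hq.out Q.2 (inv_mem hy)
    obtain ⟨k, hk⟩ := h4
    have h8 := A.one_of_el hqN (hker _ _ h5) (A.el_of_pow hq.out (k := j + k) (by
      rw [h7.mul_pow, pow_add, pow_mul, ← hj, pow_orderOf_eq_one, one_pow, one_mul, mul_comm, pow_mul, ← hk,
        pow_orderOf_eq_one, one_pow]))
    exact inv_mul_eq_one.1 h8 ▸ hy
  exfalso
  push Not at h1
  obtain ⟨m, hm, h3, y, hy, h4⟩ := h1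
  obtain ⟨l, l1, ⟨x, hx, l2⟩, z, hz, l3⟩ := A.exists_lin hp.out hq.out N hab hpN hqN P.2 Q.2 hc hQc hm h3 hy h4
  have := Fintype.ofFinite N
  have hl := Characters.Linear.isIrrCharacter_hom l
  obtain ⟨T, hT⟩ : ∃ T : Subgroup G, Stb N (fun n => (l n : ℂ)) T :=
    ⟨OddOrderCharacters.PF9.CliffGen.inertia N fun n => (l n : ℂ), fun _ => OddOrderCharacters.PF9.CliffGen.mem_inertia'⟩
  have hT' : ∀ g, g ∈ T ↔ ∀ n, l (MulAut.conjNormal g n) = l n := fun g =>
    (hT g).trans (forall_congr' fun _ => Units.val_inj)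
  have hNT : N ≤ T := fun g hg => (hT g).2 fun n => Characters.Core.isIrr_isClassFunction hl n ⟨g, hg⟩
  have hPT : (P : Subgroup G) ≤ T := fun a ha => (hT' a).2 (l1 a ha)
  obtain ⟨h5, h6⟩ := boxT0 p q G N hpN hqN ⟨_, hl⟩ T hT (fun h => P.not_dvd_index (h.trans (index_dvd_of_le hPT)))
    fun χ _ => hE χ
  have e : T ⧸ N.subgroupOf T ≃* T.map f :=
    (QuotientGroup.quotientMulEquivOfEq (show N.subgroupOf T = (f.comp T.subtype).ker by
      ext t
      exact (QuotientGroup.eq_one_iff (t : G)).symm)).trans ((QuotientGroup.quotientKerEquivRange _).trans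
        (MulEquiv.subgroupCongr (by rw [MonoidHom.range_comp, range_subtype])))
  have hPX : ((P.mapSurjective hf : Sylow p (G ⧸ N)) : Subgroup (G ⧸ N)) ≤ T.map f := map_mono hPT
  have h7 := hY p q h2 hqp _ _ _ (h6.equiv e) (hz_start hK hH h2 hqp hpar (T.map f) hPX
    ⟨f z, hQ ▸ mem_map_of_mem f hz, fun w hw => by
      obtain ⟨t, ht, rfl⟩ : w ∈ (Q : Subgroup G).map f := hQ ▸ hw
      obtain ⟨k, hk⟩ := l3 t ht
      rw [← inv_mul_cancel_right t (z ^ k), map_mul, map_zpow]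
      exact mul_mem (mem_sup_left ⟨hQ ▸ mem_map_of_mem f (mul_mem ht (inv_mem (zpow_mem hz k))),
        mem_map_of_mem f (inv_mem_iff.1 ((hT' _).2 hk))⟩) (mem_sup_right ⟨k, rfl⟩)⟩)
  obtain ⟨Q', h8⟩ := Red.com_given hp.out h7 ((P.mapSurjective hf).subtype hPX)
  have h9 : (Q' : Subgroup (T.map f)).map (T.map f).subtype ≤ Q0 := by
    rintro _ ⟨w, hw, rfl⟩
    refine hpar.mem _ (fun a ha => congrArg Subtype.val (h8 ⟨a, hPX ha⟩ ha w hw)) ?_
    obtain ⟨k, hk⟩ := Red.order_of_mem hq.out Q'.2 hw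
    exact ⟨k, by rw [← hk]; exact orderOf_coe w⟩
  have h10 : ¬ q ∣ ((Q' : Subgroup (T.map f)).map (T.map f).subtype).index := by
    rw [index_map_subtype, hq.out.dvd_mul, not_or]
    exact ⟨Q'.not_dvd_index, fun h => h5 (h.trans (index_map_dvd T hf))⟩
  have h11 : (Q0 : Subgroup (G ⧸ N)) = _ := ((Q'.2.map (T.map f).subtype).toSylow h10).is_maximal' Q0.2 h9
  have h12 : f x ∈ T.map f := map_subtype_le _ (h11.le (hQ ▸ mem_map_of_mem f hx))
  obtain ⟨t, ht, h13⟩ := h12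
  have h14 := mul_mem ht (hNT (hker _ _ h13))
  rw [mul_inv_cancel_left] at h14
  exact l2 ((hT' x).1 h14)

end Cfsg.Agent.PQ.EL
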